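import Cfsg.Agent.H406.IF.PSUEven_mg_m3
import Cfsg.Agent.H836.JIso
import Cfsg.Agent.H833.F22Cnt
import Cfsg.Agent.H890.IF.FiTwoTwo_m3
import Cfsg.Agent.H618.IF.FiTT_m3
import Cfsg.Agent.H30.IF.Frob_m3
import Cfsg.Agent.KFacts.RgdFilt
import Cfsg.Agent.KFacts.RgdEx
import Cfsg.Agent.Nodes.NormX
import Cfsg.Agent.KFacts.RgdLieCharP
import Cfsg.Agent.Lib.Cores
import Cfsg.Agent.OddHalf.D7.Uni.Lay_m3
import Cfsg.Agent.ClassicalGeometry.OrthAut3
import Cfsg.Agent.AutOrth.Main
import Cfsg.Agent.GenOrth.Normal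
import Cfsg.Agent.KFacts.RgdFiltClass
import Cfsg.Agent.H672.IF.Th_m3
import Cfsg.Agent.H382.Own5Lin
import Cfsg.Agent.LieClassical.OrthSimple
import Cfsg.Agent.ClassicalGeometry.InvolutiveNorm
import Mathlib.FieldTheory.Finite.Basic
import Mathlib.LinearAlgebra.BilinearForm.Orthogonal
import Cfsg.Agent.H353.IFO.Idx
import Cfsg.Agent.ClassicalGeometry.OrthAut1
import Cfsg.Agent.H914.Gs.SpBase
import Cfsg.Agent.H74.SpN
import Cfsg.Agent.ClassicalGeometry.SympAutCentral
import Cfsg.Agent.ClassicalGeometry.SympAutExists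
import Mathlib
import Cfsg.Agent.S0242
import Cfsg.Agent.H800.IFx.Gen_m3
import Cfsg.Agent.H209.EPX.Defs_m3
import Cfsg.Agent.H956.IF.Central
import Cfsg.Agent.H751.IF.HexKill_m3
import Cfsg.Agent.H75.Transfer
import Cfsg.Agent.LieClassical.PomegaCard
import Cfsg.Agent.H160.QDisc
import Cfsg.Agent.S2141
import Cfsg.Agent.S0301
import Cfsg.Agent.S0822
import Cfsg.Agent.S2150
import Cfsg.Agent.H469.IF.J3_m3
import Cfsg.Agent.H989.Fx.Ty_m3
import Cfsg.Agent.H989.OutOrth.Tri
import Cfsg.Agent.H167.AltRGD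
import Cfsg.Agent.H958.TS.RgdSub
import Cfsg.Agent.Nodes.RGDTwE6
import Cfsg.Agent.ChevalleyStructure.TwE6Card
import Cfsg.Agent.H79.DiagAuts
import Cfsg.Agent.BpExc.FamTwSix
import Cfsg.Agent.ChevalleyStructure.TwistedFix
import Cfsg.Agent.ChevalleyStructure.TwistedE6U
import Cfsg.Agent.S1053
import Cfsg.Agent.S1033
import Cfsg.Agent.S1036
import Cfsg.Agent.S1037
import Cfsg.Agent.S1063
import Cfsg.Agent.H363.IFO.Rgd
import Cfsg.Agent.KFacts.RgdTau
import Cfsg.Agent.ChevFast.E6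
import Cfsg.Agent.ChevFast.Lin
import Cfsg.Agent.FastGrp
import Cfsg.Agent.Prune
set_option linter.all false

section
prune_inst 0x7ffce8fba9e829dfdfff7e3fa6d8cdf831801fffa4dff94b3fe0219f0bdf030009c5638d09e010fe0ed7401410a87843f9ffcabfe26bd87ffffd1ff41ffbee0fa5e7b50851d488340fb40ffe03f0778e7f3fffffffffffffffffffffffffffbeffbdffffffff

-- part: H273/IF/Fi22
section
set_option linter.all false
open scoped Cfsg.Agent.FastGrp

/-!
# S5719, cell `fi22` (helper273)

`killE_fi22` (`FiAbs`, helper890's `pair_le`) and helper618's `killO_fi22` give the row.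
-/

set_option autoImplicit false

namespace Cfsg.Agent.H273.IFTwo

open Subgroup Cfsg Cfsg.Agent.H209.Fxy

theorem inv_T : H836.Inv Spor.Fi22 R01.Fi22Facts.T := by
  have h := H836.inv_of_iso (MulEquiv.refl Spor.Fi22)
  rwa [H833.F22Cnt.TK_refl] at h

theorem killE_fi22 : KillE Spor.Fi22 := by
  have J := H836.JFi22.jdata
  refine killE inv_T R01.Fi22Facts.isSimple (fun a ha b hb hne hab => H833.F22Cnt.lam ha hb hne hab)
    ⟨J.sq, ?_, J.ncard⟩ (fun a b ha hb hne hab A hA h16 =>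
      H890.IF.FiTwoTwo.pair_le ha hb hne hab A hA (h16.trans (by norm_num)))
  rw [J.card]
  norm_num

theorem kill_fi22 : Kill Spor.Fi22 := by
  have := R01.Fi22Facts.finite
  exact Kill.of killE_fi22 H618.IF.FiTT.killO_fi22

/-- **The cell `fi22` of S5719.** -/
theorem row_fi22 : Row fun T => Spor.IsoFi22 T := by
  rintro T _ _ _ - ⟨e⟩ A Γ hA
  exact Kill.congr e.symm kill_fi22 A Γ hA

end Cfsg.Agent.H273.IFTwo
end

-- part: H283/Fxo/Beta
section
prune_inst 0x116001210d000000001c001040005c83ba0000000008080000a40b0202802c402002082188200102082000400030000002440000004000000400000000010501000000008008a000820000000000000000000000000000000000000000000000200000000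
set_option linter.all false
open scoped Cfsg.Agent.FastGrp

-- part: H22/IFO/BT
section
/-!
# S5719: a `Γ`-invariant `p`-subgroup of `A` in characteristic `p` (helper22)

`exists_normalizer_le` : `IF A Γ`, `T` with a filtered root group datum of characteristic `p`, `1 ≠ R ≤ A` a
`Γ`-invariant `p`-group ⇒ `N_T(S) ≤ A` for a Sylow `p`-subgroup `S` of `T` (no condition on `Γ`);
`no_p_of_filt` : … and `|A|` is odd, `N_T(S)` of even order ⇒ `False`.
-/

set_option autoImplicit false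
set_option linter.unusedSectionVars false

namespace Cfsg.Agent.H22.IFO

open Subgroup CoxeterSystem Cfsg.Agent.H209.Fxy Cfsg.Agent.ChevalleyStructure.CoxeterGeom Cfsg.Agent.Tits.Roots
  Cfsg.Agent.Tits.Core Cfsg.Agent.Nodes.Reps Cfsg.Agent.Nodes.BNOf Cfsg.Agent.Nodes.StabComb Cfsg.Agent.Nodes.Bruhat
  Cfsg.Agent.Nodes.LeviDec Cfsg.Agent.KFacts.RgdPar Cfsg.Agent.KFacts.RgdSL Cfsg.Agent.KFacts.RgdVJ
  Cfsg.Agent.KFacts.RgdCharP Cfsg.Agent.KFacts.RgdFilt

section Core

variable {T : Type*} [Group T]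

/-- `O_p(A)` as a subgroup of `T` -/
def Op (p : ℕ) (A : Subgroup T) : Subgroup T := (Cfsg.pCore p A).map A.subtype

theorem Op_le {p : ℕ} {A : Subgroup T} : Op p A ≤ A := by
  rintro _ ⟨x, -, rfl⟩
  exact x.2

theorem isPGroup_Op {p : ℕ} {A : Subgroup T} : IsPGroup p (Op p A) :=
  (Lib.Cores.pCore_isPGroup (G := A) p).map _

theorem le_Op {p : ℕ} {A Y : Subgroup T} (hY : Y ≤ A) (hp : IsPGroup p Y)
    (hn : ∀ a ∈ A, ∀ y ∈ Y, a * y * a⁻¹ ∈ Y) : Y ≤ Op p A := by
  have h1 : (Y.subgroupOf A).Normal := by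
    refine ⟨fun y hy a => ?_⟩
    rw [mem_subgroupOf] at hy ⊢
    exact hn a a.2 y hy
  have h2 : IsPGroup p (Y.subgroupOf A) := hp.comap_subtype
  have h3 := Subgroup.map_mono (f := A.subtype) (Lib.Cores.le_pCore h1 h2)
  rwa [Subgroup.subgroupOf_map_subtype, inf_eq_left.2 hY] at h3

theorem Op_normal {p : ℕ} {A : Subgroup T} {a : T} (ha : a ∈ A) {y : T} (hy : y ∈ Op p A) :
    a * y * a⁻¹ ∈ Op p A := by
  obtain ⟨y, hy, rfl⟩ := hy
  exact ⟨(⟨a, ha⟩ * y * ⟨a, ha⟩⁻¹ :), (Lib.Cores.pCore_normal (G := A) p).conj_mem y hy _, rfl⟩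

theorem map_Op_le {p : ℕ} {A : Subgroup T} {σ : MulAut T} (hσ : ∀ a : T, σ a ∈ A ↔ a ∈ A) {y : T}
    (hy : y ∈ Op p A) : σ y ∈ Op p A := by
  have h1 : (Op p A).map σ.toMonoidHom ≤ Op p A := by
    apply le_Op
    · rintro _ ⟨x, hx, rfl⟩
      exact (hσ x).2 (Op_le hx)
    · exact isPGroup_Op.map _
    · rintro a ha _ ⟨x, hx, rfl⟩
      have h2 : σ⁻¹ a ∈ A := by
        rw [← hσ, MulAut.apply_inv_self]
        exact ha
      refine ⟨σ⁻¹ a * x * (σ⁻¹ a)⁻¹, Op_normal h2 hx, ?_⟩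
      change σ (σ⁻¹ a * x * (σ⁻¹ a)⁻¹) = a * σ x * a⁻¹
      rw [map_mul, map_mul, map_inv, MulAut.apply_inv_self]
  exact h1 ⟨y, hy, rfl⟩

/-- a `p`-subgroup `V ≥ Q` with `V ∩ N(Q) ≤ Q` is `Q` -/
theorem eq_of_inf_normalizer_le [Finite T] {p : ℕ} [Fact p.Prime] {Q V : Subgroup T} (hQV : Q ≤ V)
    (hV : IsPGroup p V) (h1 : V ⊓ normalizer (Q : Set T) ≤ Q) : V = Q := by
  by_contra hne
  have hnil : Group.IsNilpotent V := hV.isNilpotent
  have h2 : Q.subgroupOf V < ⊤ := by
    rw [lt_top_iff_ne_top]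
    intro h3
    exact hne (le_antisymm (subgroupOf_eq_top.1 h3) hQV)
  have h3 := Group.normalizerCondition_of_isNilpotent (G := V) _ h2
  rw [← subgroupOf_normalizer_eq hQV] at h3
  obtain ⟨⟨x, hxV⟩, hx1, hx2⟩ := SetLike.exists_of_lt h3
  rw [mem_subgroupOf] at hx1 hx2
  exact hx2 (h1 ⟨hxV, hx1⟩)

theorem NotJ_empty' {I W : Type*} [Fintype I] [DecidableEq I] [Group W] {M : CoxeterMatrix I} {cs : CoxeterSystem M W}
    {A : I → I → ℤ} {h : IsCartan M A} : NotJ cs h (∅ : Set I) = RGD.Pos cs h := by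
  ext x
  constructor
  · rintro ⟨h1, h2, -⟩
    exact ⟨h1, h2⟩
  · rintro ⟨h1, h2⟩
    refine ⟨h1, h2, ?_⟩
    by_contra hcon
    push Not at hcon
    exact h1.ne_zero (le_antisymm (fun k => hcon k (Set.notMem_empty k)) h2)

end Core

variable {T : Type*} [Group T] [Finite T] [IsSimpleGroup T] {A : Subgroup T} {Γ : Subgroup (MulAut T)}

/-- **Borel–Tits:** `A` contains the normaliser of a Sylow `p`-subgroup. -/
theorem exists_normalizer_le (h : IF A Γ) {p : ℕ} [Fact p.Prime] (hF : HasFilt p T) {R : Subgroup T} (hRA : R ≤ A)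
    (hR : R ≠ ⊥) (hRp : IsPGroup p R) (hinv : ∀ σ ∈ Γ, ∀ x ∈ R, σ x ∈ R) :
    ∃ S : Sylow p T, normalizer ((S : Subgroup T) : Set T) ≤ A := by
  set K := Op p A with hK
  have hRK : R ≤ K := le_Op hRA hRp fun a ha y hy => hinv (MulAut.conj a) ((h.conj a).2 ha) y hy
  have hK1 : K ≠ ⊥ := by
    intro h1
    rw [h1, le_bot_iff] at hRK
    exact hR hRK
  have hKinv : ∀ σ ∈ Γ, ∀ k ∈ K, σ k ∈ K := fun σ hσ k hk => map_Op_le (h.inv σ hσ) hk
  have hN : normalizer (K : Set T) = A := by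
    apply le_antisymm
    · intro x hx
      exact Cfsg.Agent.H680.Fxy.IF.norm h Op_le hKinv hK1 fun k hk => (mem_normalizer_iff.1 hx k).1 hk
    · intro a ha
      rw [mem_normalizer_iff]
      intro k
      refine ⟨fun hk => Op_normal ha hk, fun hk => ?_⟩
      have h1 := Op_normal (A.inv_mem ha) hk
      have e : a⁻¹ * (a * k * a⁻¹) * a⁻¹⁻¹ = k := by group
      rwa [e] at h1
  obtain ⟨l, M, Am, hc, T0, n, X, Rg, F, hW, hX, hFi⟩ := hF
  obtain ⟨g, J, hJ, h1, h2⟩ := borel_tits_of_filt hFi hX (isPGroup_Op : IsPGroup p K) hK1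
  have hV : IsPGroup p (cj g (VJ M.toCoxeterSystem hc X J)) := by
    unfold cj
    exact (KFacts.RgdCharP.isPGroup_VJ Rg J).map _
  have h3 : cj g (PJ M.toCoxeterSystem hc T0 X J) ≤
      normalizer ((cj g (VJ M.toCoxeterSystem hc X J) : Subgroup T) : Set T) := by
    rw [Nodes.NormX.normalizer_cj]
    exact cj_mono g (PJ_le_normalizer_VJ Rg J)
  have h4 : cj g (VJ M.toCoxeterSystem hc X J) = K := by
    refine eq_of_inf_normalizer_le h1 hV ?_
    rw [hN]
    refine le_Op inf_le_right (hV.to_le inf_le_left) fun a ha y hy => ?_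
    rw [← hN] at ha
    exact ⟨(mem_normalizer_iff.1 (h3 (h2 ha)) y).1 hy.1, by
      rw [hN] at ha; exact A.mul_mem (A.mul_mem ha hy.2) (A.inv_mem ha)⟩
  have hGG := GG_eq_top (cs := M.toCoxeterSystem) (h := hc) (T := T0) hX
  have hNU : normalizer ((RGD.Sup X (RGD.Pos M.toCoxeterSystem hc) : Subgroup T) : Set T) =
      RGD.B M.toCoxeterSystem hc T0 X := by
    have h5 := KFacts.RgdEx.normalizer_U Rg
    rwa [hGG, inf_top_eq] at h5
  -- a Sylow subgroup
  have hp1 : IsPGroup p (RGD.Sup X (RGD.Pos M.toCoxeterSystem hc)) := by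
    have h5 := KFacts.RgdCharP.isPGroup_VJ Rg (∅ : Set (Fin l))
    unfold VJ at h5
    rwa [NotJ_empty'] at h5
  obtain ⟨S, hS⟩ := hp1.exists_le_sylow
  have hSU : (S : Subgroup T) = RGD.Sup X (RGD.Pos M.toCoxeterSystem hc) :=
    KFacts.RgdEx.eq_U Rg hS (by rw [hGG]; exact le_top) S.isPGroup'
  refine ⟨g • S, ?_⟩
  have h6 : ((g • S : Sylow p T) : Subgroup T) = cj g (RGD.Sup X (RGD.Pos M.toCoxeterSystem hc)) := by
    rw [← hSU]
    rfl
  have h7 : K = K := rfl
  rw [h6, Nodes.NormX.normalizer_cj, hNU]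
  refine (cj_mono g (B_le_PJ (J := J))).trans (h3.trans ?_)
  rw [h4, hN]

end Cfsg.Agent.H22.IFO
end

-- part: H22/IFO/Inv
section
/-!
# S5719, orthogonal groups: an involution normalising a Sylow `p`-subgroup, `p` odd the characteristic (helper22)

`exists_inv` : `t = -1` on two orthogonal hyperbolic planes, `1` on the complement, `t ∈ E Q`;
`exists_sylow_inv` : a Sylow `p`-subgroup of `P Q` normalised by an element of order `2`.
-/

set_option autoImplicit false
set_option linter.unusedSectionVars false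

namespace Cfsg.Agent.H22.IFO

open QuadraticMap Cfsg.Agent.LieClassical.OrthCore Cfsg.Agent.LieClassical.OrthTrans
  Cfsg.Agent.ClassicalGeometry.OrthAut1 Cfsg.Agent.ClassicalGeometry.OrthAutBasic Cfsg.Agent.ClassicalGeometry.OrthAutRoot
  Cfsg.Agent.ClassicalGeometry.OrthAutSylow

variable {F V : Type*} [Field F] [AddCommGroup V] [Module F V] {Q : QuadraticForm F V}

/-- `-1` on the planes `⟨x, y⟩`, `⟨u, v⟩`, `1` on the orthogonal complement -/
theorem exists_inv (hG : Good Q) {x y u v : V} (h : Hyp Q x y) (h' : Hyp Q u v) (hxu : polar Q x u = 0)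
    (hxv : polar Q x v = 0) (hyu : polar Q y u = 0) (hyv : polar Q y v = 0) :
    ∃ t ∈ E Q, ∀ w, t w = w - (2 * polar Q y w) • x - (2 * polar Q x w) • y - (2 * polar Q v w) • u
      - (2 * polar Q u w) • v := by
  have e1 : Q (x + y) = 1 := by rw [Q_add, h.left, h.right, h.pair]; ring
  have e2 : Q (x - y) = -1 := by
    rw [sub_eq_add_neg, Q_add, QuadraticMap.map_neg, h.left, h.right, polar_neg_right, h.pair]; ring
  have e3 : Q (u + v) = 1 := by rw [Q_add, h'.left, h'.right, h'.pair]; ring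
  have e4 : Q (u - v) = -1 := by
    rw [sub_eq_add_neg, Q_add, QuadraticMap.map_neg, h'.left, h'.right, polar_neg_right, h'.pair]; ring
  have n1 : Q (x + y) ≠ 0 := by rw [e1]; exact one_ne_zero
  have n2 : Q (x - y) ≠ 0 := by rw [e2]; exact neg_ne_zero.2 one_ne_zero
  have n3 : Q (u + v) ≠ 0 := by rw [e3]; exact one_ne_zero
  have n4 : Q (u - v) ≠ 0 := by rw [e4]; exact neg_ne_zero.2 one_ne_zero
  refine ⟨(refl Q (u + v) n3 * refl Q (x + y) n1) * (refl Q (u - v) n4 * refl Q (x - y) n2),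
    E_mul (hG.refl_mul_refl_mem n1 n3 (by rw [e1, e3])) (hG.refl_mul_refl_mem n2 n4 (by rw [e2, e4])), ?_⟩
  intro w
  change refl Q (u + v) n3 (refl Q (x + y) n1 (refl Q (u - v) n4 (refl Q (x - y) n2 w))) = _
  simp only [refl_apply, e1, e2, e3, e4, polar_sub_right, polar_add_left, polar_sub_left, polar_add_right,
    polar_smul_right, h.polar_left, h.polar_right, h'.polar_left, h'.polar_right, h.pair, h.pair', h'.pair,
    h'.pair', hxu, hxv, hyu, hyv, polar_zero_of_comm hxu, polar_zero_of_comm hxv, polar_zero_of_comm hyu,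
    polar_zero_of_comm hyv, smul_eq_mul, inv_one, inv_neg]
  match_scalars <;> ring

/-- a Sylow `p`-subgroup of `P Q` normalised by an involution -/
theorem exists_sylow_inv [Finite F] (hB : Big Q) (h2 : (2 : F) ≠ 0) {p : ℕ} [hp : Fact p.Prime] [CharP F p] :
    ∃ (S : Sylow p (P Q)) (t : P Q), t ∈ Subgroup.normalizer ((S : Subgroup (P Q)) : Set (P Q)) ∧ orderOf t = 2 := by
  have hG := hB.good
  have hfd : FiniteDimensional F V := Module.finite_of_finrank_pos (by have := hB.dim; omega)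
  have hfin : Finite V := Module.finite_of_finite F
  have hfinE : Finite (V ≃ₗ[F] V) := Finite.of_injective (fun g => (g : V → V)) DFunLike.coe_injective
  obtain ⟨x, y, h⟩ := hG.exists_hyp
  obtain ⟨u, v, h', hxu, hxv, hyu, hyv⟩ := hG.exists_hyp2 h
  have hl : Ln Q x u := by
    refine ⟨h.left, h'.left, hxu, h.left_ne, ?_⟩
    rintro c rfl
    have h3 := h'.pair
    rw [polar_smul_left, hxv, smul_zero] at h3
    exact zero_ne_one h3
  obtain ⟨P0, hP1, hP2, -, -⟩ := exists_sylow hB hl p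
  obtain ⟨t, htE, ht⟩ := exists_inv hG h h' hxu hxv hyu hyv
  have tx : t x = -x := by
    rw [ht, h.pair', h.polar_left, polar_zero_of_comm hxv, polar_zero_of_comm hxu]
    module
  have tu : t u = -u := by
    rw [ht, hyu, hxu, h'.pair', h'.polar_left]
    module
  have ty : t y = -y := by
    rw [ht, h.polar_right, h.pair, polar_zero_of_comm hyv, polar_zero_of_comm hyu]
    module
  have tv : t v = -v := by
    rw [ht, hyv, hxv, h'.polar_right, h'.pair]
    module
  have tt : ∀ w, t (t w) = w := by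
    intro w
    rw [ht w]
    simp only [map_sub, map_smul, tx, ty, tu, tv]
    rw [ht w]
    module
  -- the plane `W = ⟨x, u⟩`
  set W : Submodule F V := Submodule.span F {x, u} with hW
  have hmW : ∀ w, w ∈ W ↔ ∃ a b : F, a • x + b • u = w := fun w => Submodule.mem_span_pair
  have tW : ∀ w ∈ W, t w = -w := by
    intro w hw
    obtain ⟨a, b, rfl⟩ := (hmW w).1 hw
    rw [map_add, map_smul, map_smul, tx, tu]
    module
  have pW : ∀ g ∈ P0, ∀ w ∈ W, (g : V ≃ₗ[F] V) w ∈ W := by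
    intro g hg w hw
    obtain ⟨a, b, rfl⟩ := (hmW w).1 hw
    obtain ⟨c, hc⟩ := hP2 g hg
    rw [map_add, map_smul, map_smul, hP1 g hg, hc, hmW]
    exact ⟨a + b * c, b, by module⟩
  have pWm : ∀ g ∈ P0, (g : P Q) ∈ stab hG W := fun g hg => mem_stab_of_map_le hG (pW g hg)
  have pWs : ∀ g ∈ P0, ∀ w, (∀ z ∈ W, polar Q z w = 0) → ∀ z ∈ W, polar Q z ((g : V ≃ₗ[F] V) w) = 0 := by
    intro g hg w hw z hz
    have h3 := pW g⁻¹ (P0.inv_mem hg) z hz
    have h4 := hw _ h3
    rw [← polar_map (E_le_O g.2)] at h4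
    have h5 : (g : V ≃ₗ[F] V) ((((g⁻¹ : ↥(E Q))) : V ≃ₗ[F] V) z) = z :=
      LinearEquiv.apply_symm_apply (g : V ≃ₗ[F] V) z
    rwa [h5] at h4
  have tperp : ∀ w, (∀ z ∈ W, polar Q z w = 0) → t w - w ∈ W := by
    intro w hw
    have hxw : polar Q x w = 0 := hw x ((hmW x).2 ⟨1, 0, by module⟩)
    have huw : polar Q u w = 0 := hw u ((hmW u).2 ⟨0, 1, by module⟩)
    rw [ht, hxw, huw, hmW]
    exact ⟨-(2 * polar Q y w), -(2 * polar Q v w), by module⟩
  have hWs : ∀ w ∈ W, ∀ z ∈ W, polar Q z w = 0 := by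
    intro w hw z hz
    obtain ⟨a, b, rfl⟩ := (hmW w).1 hw
    obtain ⟨c, d, rfl⟩ := (hmW z).1 hz
    simp only [polar_add_left, polar_add_right, polar_smul_left, polar_smul_right, h.polar_left, h'.polar_left,
      hxu, polar_zero_of_comm hxu, smul_eq_mul]
    ring
  set t' : ↥(E Q) := ⟨t, htE⟩ with ht'
  have tinv : ∀ w, (((t'⁻¹ : ↥(E Q))) : V ≃ₗ[F] V) w = t w := by
    intro w
    have h3 : t ((((t'⁻¹ : ↥(E Q))) : V ≃ₗ[F] V) w) = w := LinearEquiv.apply_symm_apply t w
    rw [← tt ((((t'⁻¹ : ↥(E Q))) : V ≃ₗ[F] V) w), h3]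
  -- `U Q W ≤ P0`
  have hU : U Q W ≤ (P0 : Subgroup ↥(E Q)) := by
    have h3 : (P0 : Subgroup ↥(E Q)) ≤ Subgroup.normalizer (U Q W : Set ↥(E Q)) := by
      have key : ∀ g ∈ P0, ∀ z ∈ U Q W, g * z * g⁻¹ ∈ U Q W := by
        intro g hg z hz
        have h4 := ClassicalGeometry.OrthAut2.conj_mem_U (g := g) hz
        have h5 := pWm g hg
        rw [mem_stab, pact_mk] at h5
        rwa [h5] at h4
      intro g hg
      rw [Subgroup.mem_normalizer_iff]
      intro z
      refine ⟨key g hg z, fun hz => ?_⟩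
      have h4 := key g⁻¹ (P0.inv_mem hg) _ hz
      have e : g⁻¹ * (g * z * g⁻¹) * g⁻¹⁻¹ = z := by group
      rwa [e] at h4
    have h4 : IsPGroup p ((P0 : Subgroup ↥(E Q)) ⊔ U Q W : Subgroup ↥(E Q)) :=
      IsPGroup.to_sup_of_normal_right' P0.isPGroup' (isPGroup_U p W) h3
    have h5 := P0.is_maximal' h4 le_sup_left
    rw [← h5]
    exact le_sup_right
  -- `t` normalises `P0`
  have hconj : ∀ g ∈ P0, t' * g * t'⁻¹ ∈ P0 := by
    intro g hg
    have h3 : t' * g * t'⁻¹ * g⁻¹ ∈ U Q W := by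
      refine ⟨fun w hw => ?_, fun w hw => ?_⟩
      · have h4 := pW g⁻¹ (P0.inv_mem hg) w hw
        change t ((g : V ≃ₗ[F] V) ((((t'⁻¹ : ↥(E Q))) : V ≃ₗ[F] V) ((((g⁻¹ : ↥(E Q))) : V ≃ₗ[F] V) w))) = w
        rw [tinv, tW _ h4, map_neg]
        have h5 : (g : V ≃ₗ[F] V) ((((g⁻¹ : ↥(E Q))) : V ≃ₗ[F] V) w) = w :=
          LinearEquiv.apply_symm_apply (g : V ≃ₗ[F] V) w
        rw [h5, map_neg, tW w hw, neg_neg]
      · have h4 := pWs g⁻¹ (P0.inv_mem hg) w hw
        change t ((g : V ≃ₗ[F] V) ((((t'⁻¹ : ↥(E Q))) : V ≃ₗ[F] V) ((((g⁻¹ : ↥(E Q))) : V ≃ₗ[F] V) w))) - w ∈ W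
        rw [tinv]
        have h5 : (g : V ≃ₗ[F] V) ((((g⁻¹ : ↥(E Q))) : V ≃ₗ[F] V) w) = w :=
          LinearEquiv.apply_symm_apply (g : V ≃ₗ[F] V) w
        have h6 := tperp _ h4
        have h7 := pW g hg _ h6
        rw [map_sub, h5] at h7
        have h8 := tW _ h7
        have h9 := tperp w hw
        have e : t ((g : V ≃ₗ[F] V) (t ((((g⁻¹ : ↥(E Q))) : V ≃ₗ[F] V) w))) - w =
            t ((g : V ≃ₗ[F] V) (t ((((g⁻¹ : ↥(E Q))) : V ≃ₗ[F] V) w)) - w) + (t w - w) := by
          rw [map_sub]; abel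
        rw [e, h8]
        exact W.add_mem (W.neg_mem h7) h9
    have h4 := P0.mul_mem (hU h3) hg
    rwa [inv_mul_cancel_right] at h4
  -- in `P Q`
  have hsurj : Function.Surjective (QuotientGroup.mk' (Subgroup.center ↥(E Q))) := QuotientGroup.mk'_surjective _
  refine ⟨P0.mapSurjective hsurj, (t' : P Q), ?_, ?_⟩
  · have key : ∀ z ∈ (P0.mapSurjective hsurj : Subgroup (P Q)), (t' : P Q) * z * (t' : P Q)⁻¹ ∈
        (P0.mapSurjective hsurj : Subgroup (P Q)) := by
      rintro _ ⟨g, hg, rfl⟩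
      exact ⟨t' * g * t'⁻¹, hconj g hg, rfl⟩
    have h3 : (t' : P Q)⁻¹ = (t' : P Q) := by
      rw [inv_eq_iff_mul_eq_one]
      have h4 : t' * t' = 1 := by
        apply Subtype.ext
        ext w
        exact tt w
      change ((t' * t' : ↥(E Q)) : P Q) = 1
      rw [h4]
      rfl
    rw [Subgroup.mem_normalizer_iff]
    intro z
    refine ⟨key z, fun hz => ?_⟩
    have h4 := key _ hz
    have e : (t' : P Q) * ((t' : P Q) * z * (t' : P Q)⁻¹) * (t' : P Q)⁻¹ = z := by
      nth_rewrite 1 [← h3]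
      nth_rewrite 4 [← h3]
      group
    rwa [e] at h4
  · rw [orderOf_eq_prime_iff]
    refine ⟨?_, ?_⟩
    · have h4 : t' * t' = 1 := by
        apply Subtype.ext
        ext w
        exact tt w
      rw [pow_two]
      change ((t' * t' : ↥(E Q)) : P Q) = 1
      rw [h4]
      rfl
    · intro h3
      rw [QuotientGroup.eq_one_iff] at h3
      obtain ⟨c, hc⟩ := center_scalar hG h3
      have h4 : -x = c • x := by rw [← tx]; exact hc x
      -- a vector fixed by `t`
      obtain ⟨w, hw0, -, hw⟩ := exists_sing_perp (Q := Q) ![x, y, u, v] (by have := hB.dim; omega)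
      have h5 : t w = w := by
        rw [ht, show polar Q x w = 0 from hw 0, show polar Q y w = 0 from hw 1, show polar Q u w = 0 from hw 2,
          show polar Q v w = 0 from hw 3]
        module
      have h6 : w = c • w := by rw [← hc w]; exact h5.symm
      have h7 : c = 1 := by
        have h8 : (1 - c) • w = 0 := by rw [sub_smul, one_smul, ← h6, sub_self]
        rcases smul_eq_zero.1 h8 with h9 | h9
        · exact (sub_eq_zero.1 h9).symm
        · exact (hw0 h9).elim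
      rw [h7, one_smul] at h4
      have h8 : (2 : F) • x = 0 := by
        rw [two_smul]
        nth_rewrite 1 [← h4]
        exact neg_add_cancel x
      rcases smul_eq_zero.1 h8 with h9 | h9
      · exact h2 h9
      · exact h.left_ne h9

end Cfsg.Agent.H22.IFO
end

-- part: H22/IFO/Uni
section
/-!
# S5719, orthogonal groups, `|A|` odd: the case `r = p` (helper22)

`hasFilt_P` : `HasFilt p (P Q)` for every nondegenerate `Q` of dimension `≥ 7` over a finite field of
characteristic `p ≠ 2`;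
`no_p` : (P), no condition on `Γ`.
-/

set_option autoImplicit false
set_option linter.unusedSectionVars false
set_option linter.unusedVariables false

namespace Cfsg.Agent.H22.IFO

open QuadraticMap Cfsg.Agent.LieClassical.OrthCore Cfsg.Agent.LieClassical.OrthTrans
  Cfsg.Agent.LieClassical.OrthSimple Cfsg.Agent.LieClassical.OrthFinite Cfsg.Agent.LieClassical
  Cfsg.Agent.ClassicalGeometry.OrthAut1 Cfsg.Agent.ClassicalGeometry.OrthAutBasic Cfsg.Agent.H209.Fxy
  Cfsg.Agent.KFacts.RgdFilt Cfsg.Agent.KFacts.RgdFiltClass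

section Sim

variable {F V V' : Type*} [Field F] [AddCommGroup V] [Module F V] [AddCommGroup V'] [Module F V']
  {Q : QuadraticForm F V} {Q' : QuadraticForm F V'} {T : V' ≃ₗ[F] V} {e : F}

/-- conjugation by `T` -/
def cT (T : V' ≃ₗ[F] V) : (V' ≃ₗ[F] V') ≃* (V ≃ₗ[F] V) where
  toFun h := (T.symm.trans h).trans T
  invFun h := (T.trans h).trans T.symm
  left_inv h := by ext v; simp
  right_inv h := by ext v; simp
  map_mul' h k := by
    ext v
    change T ((h * k) (T.symm v)) = T (h (T.symm (T (k (T.symm v)))))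
    rw [LinearEquiv.symm_apply_apply]
    rfl

theorem cT_apply (T : V' ≃ₗ[F] V) (h : V' ≃ₗ[F] V') (v : V') : cT T h (T v) = T (h v) := by
  change T (h (T.symm (T v))) = T (h v)
  rw [LinearEquiv.symm_apply_apply]

theorem polar_sim (hT : ∀ v, Q (T v) = e * Q' v) (v w : V') : polar Q (T v) (T w) = e * polar Q' v w := by
  simp only [polar, ← map_add, hT]
  ring

theorem cT_siegel (he : e ≠ 0) (hT : ∀ v, Q (T v) = e * Q' v) {u w : V'} (hu : Q' u = 0) (hw : polar Q' u w = 0) :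
    ∃ (hu' : Q (T u) = 0) (hw' : polar Q (T u) (e⁻¹ • T w) = 0),
      cT T (siegel Q' u w hu hw) = siegel Q (T u) (e⁻¹ • T w) hu' hw' := by
  have hu' : Q (T u) = 0 := by rw [hT, hu, mul_zero]
  have hw' : polar Q (T u) (e⁻¹ • T w) = 0 := by
    rw [polar_smul_right, polar_sim hT, hw, mul_zero, smul_zero]
  refine ⟨hu', hw', ?_⟩
  ext v
  obtain ⟨v, rfl⟩ := T.surjective v
  rw [cT_apply, siegel_apply, siegel_apply, map_sub, map_sub, map_add, map_smul, map_smul, map_smul,
    QuadraticMap.map_smul, hT, polar_smul_left, polar_sim hT, polar_sim hT, smul_smul]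
  have e1 : e * polar Q' u v * e⁻¹ = polar Q' u v := by field_simp
  have e2 : e⁻¹ • (e * polar Q' w v) = polar Q' w v := by rw [smul_eq_mul]; field_simp
  have e3 : (e⁻¹ * e⁻¹) • (e * Q' w) * (e * polar Q' u v) = Q' w * polar Q' u v := by
    rw [smul_eq_mul]; field_simp
  rw [e1, e2, e3]

theorem cT_mem_E (he : e ≠ 0) (hT : ∀ v, Q (T v) = e * Q' v) {h : V' ≃ₗ[F] V'} (hh : h ∈ E Q') : cT T h ∈ E Q := by
  have h1 : E Q' ≤ (E Q).comap (cT T).toMonoidHom := by
    rw [E, Subgroup.closure_le]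
    rintro _ ⟨u, w, hu, hw, rfl⟩
    obtain ⟨hu', hw', h2⟩ := cT_siegel he hT hu hw
    change cT T _ ∈ E Q
    rw [h2]
    exact siegel_mem_E hu' hw'
  exact h1 hh

theorem symm_form (he : e ≠ 0) (hT : ∀ v, Q (T v) = e * Q' v) (v : V) : Q' (T.symm v) = e⁻¹ * Q v := by
  have := hT (T.symm v)
  rw [LinearEquiv.apply_symm_apply] at this
  rw [this, inv_mul_cancel_left₀ he]

/-- Conjugation by `T`. -/
def sE (he : e ≠ 0) (hT : ∀ v, Q (T v) = e * Q' v) : ↥(E Q') ≃* ↥(E Q) where
  toFun h := ⟨cT T h.1, cT_mem_E he hT h.2⟩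
  invFun h := ⟨cT T.symm h.1, cT_mem_E (inv_ne_zero he) (symm_form he hT) h.2⟩
  left_inv h := Subtype.ext ((cT T).symm_apply_apply h.1)
  right_inv h := Subtype.ext ((cT T).apply_symm_apply h.1)
  map_mul' h k := Subtype.ext (map_mul (cT T) h.1 k.1)

end Sim

variable {F V : Type*} [Field F] [AddCommGroup V] [Module F V] {Q : QuadraticForm F V}

theorem finite_PO {F : Type*} [Field F] [Finite F] {ι : Type} [Fintype ι] [DecidableEq ι] (q : (ι → F) → F) :
    Finite (Cfsg.POmega F q) := Quotient.finite _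

theorem hasFilt_P_of_sim [Finite F] {ι : Type} [Fintype ι] [DecidableEq ι] {q : QuadraticForm F (ι → F)}
    (hq : Good q) {c : F} (hc : c ≠ 0) (j : (ι → F) ≃ₗ[F] V) (hj : ∀ x, Q (j x) = c * q x) {p : ℕ}
    (hF : HasFilt p (Cfsg.POmega F ⇑q)) : HasFilt p (P Q) := by
  have := finite_PO (⇑q)
  exact hF.of_equiv ((AutOrth.Main.pe hq).trans (quotientCenterCongr (sE hc hj)))

/-- the odd standard form is degenerate in characteristic two -/
theorem two_ne_of_sim' (hQ : Nondeg Q) {k : ℕ} (h : GenOrth.Sim Q (Cfsg.quadFormOdd k F)) : (2 : F) ≠ 0 := by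
  intro h2
  obtain ⟨c, hc, j, hj⟩ := h
  have h1 : j (Pi.single (.inl ()) 1) = 0 := by
    apply hQ
    intro y
    obtain ⟨x, rfl⟩ := j.surjective y
    rw [QuadraticMap.polar, ← map_add, hj, hj, hj]
    have h3 : Cfsg.quadFormOdd k F (Pi.single (.inl ()) 1 + x) = Cfsg.quadFormOdd k F (Pi.single (.inl ()) 1) +
        Cfsg.quadFormOdd k F x := by
      rw [LieClassical.OrthForms.quadFormOdd_apply, LieClassical.OrthForms.quadFormOdd_apply,
        LieClassical.OrthForms.quadFormOdd_apply]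
      simp
      linear_combination x (.inl ()) * h2
    rw [h3]
    ring
  have h5 : (Pi.single (.inl ()) 1 : Unit ⊕ (Fin k ⊕ Fin k) → F) = 0 := (map_eq_zero_iff j j.injective).1 h1
  have h6 := congrFun h5 (.inl ())
  simp at h6

/-- `P Q` has a filtered root group datum. -/
theorem hasFilt_P [Finite F] (hQ : Nondeg Q) (h7 : 7 ≤ Module.finrank F V) {p : ℕ} [Fact p.Prime] [CharP F p] :
    HasFilt p (P Q) := by
  have hfd : Module.Finite F V := Module.finite_of_finrank_pos (by omega)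
  rcases GenOrth.normal_form (Module.finrank F V) hQ rfl with ⟨k, hk, hs⟩ | ⟨k, hk, hs⟩ | ⟨k, hk, a, b, hab, hs⟩
  · have h2 := two_ne_of_sim' hQ hs
    obtain ⟨c, hc, j, hj⟩ := hs
    have hG : Good (OrthForms.oddForm k F) := by
      apply good_of_finite (OrthForms.nondeg_oddForm k F h2)
      rw [Module.finrank_fintype_fun_eq_card, Fintype.card_sum, Fintype.card_sum, Fintype.card_fin,
        Fintype.card_unit]
      omega
    refine hasFilt_P_of_sim hG hc j (by rw [OrthForms.coe_oddForm]; exact hj) ?_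
    rw [OrthForms.coe_oddForm]
    exact hasFilt_PO_odd h2 (by omega)
  · obtain ⟨c, hc, j, hj⟩ := hs
    obtain ⟨n, rfl⟩ : ∃ n, k = n + 3 := ⟨k - 3, by omega⟩
    have hG : Good (OrthForms.plusForm (n + 3) F) := by
      apply good_of_finite (OrthForms.nondeg_plusForm (n + 3) F)
      rw [Module.finrank_fintype_fun_eq_card, Fintype.card_sum, Fintype.card_fin]
      omega
    refine hasFilt_P_of_sim hG hc j (by rw [OrthForms.coe_plusForm]; exact hj) ?_
    rw [OrthForms.coe_plusForm]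
    exact hasFilt_PO_plus n
  · obtain ⟨c, hc, j, hj⟩ := hs
    have hG : Good (OrthForms.minusForm k F a b) := by
      apply good_of_finite (OrthForms.nondeg_minusForm k F a b hab)
      rw [Module.finrank_fintype_fun_eq_card, Fintype.card_sum, Fintype.card_sum, Fintype.card_fin,
        Fintype.card_fin]
      omega
    refine hasFilt_P_of_sim hG hc j (by rw [OrthForms.coe_minusForm]; exact hj) ?_
    rw [OrthForms.coe_minusForm]
    exact hasFilt_PO_minus a b hab (by omega)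

/-- **(P)** : `r = p`. -/
theorem no_p [Finite F] (hG : Good Q) {A : Subgroup (P Q)} {Γ : Subgroup (MulAut (P Q))} (h : IF A Γ)
    (hodd : Odd (Nat.card A)) {r : ℕ} {R : Subgroup (P Q)} (hr : r.Prime) (hr2 : r ≠ 2) (hRA : R ≤ A) (hR : R ≠ ⊥)
    (hpow : ∀ x ∈ R, x ^ r = 1) (hcomm : ∀ x ∈ R, ∀ y ∈ R, x * y = y * x) (hinv : ∀ σ ∈ Γ, ∀ x ∈ R, σ x ∈ R)
    (h2 : (2 : F) ≠ 0) (h7 : 7 ≤ Module.finrank F V) (hrF : (r : F) = 0) : False := by
  have : Fact r.Prime := ⟨hr⟩
  have hfd : Module.Finite F V := Module.finite_of_finrank_pos (by omega)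
  have hP : Finite (P Q) := Cfsg.Agent.ClassicalGeometry.OrthAut2b.finite_P (F := F) (V := V)
  have := good_isSimpleGroup hG
  have hch : CharP F r := by
    obtain ⟨p, hp⟩ := CharP.exists F
    have h3 : p ∣ r := (CharP.cast_eq_zero_iff F p r).1 hrF
    rcases (Nat.dvd_prime hr).1 h3 with h4 | h4
    · subst h4
      exact absurd hp (CharP.char_ne_one F 1 ∘ fun _ => rfl)
    · rwa [h4] at hp
  have hRp : IsPGroup r R := by
    intro x
    exact ⟨1, Subtype.ext (by rw [pow_one]; exact hpow x x.2)⟩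
  obtain ⟨S, hS⟩ := exists_normalizer_le h (hasFilt_P hG.nondeg h7) hRA hR hRp hinv
  obtain ⟨S', t, ht, ht2⟩ := exists_sylow_inv (Q := Q) (p := r) ⟨hG.nondeg, h7⟩ h2
  obtain ⟨g, hg⟩ := MulAction.exists_smul_eq (P Q) S' S
  have h3 : g * t * g⁻¹ ∈ A := by
    apply hS
    rw [← hg]
    rw [Subgroup.mem_normalizer_iff] at ht ⊢
    intro z
    have h4 : ∀ z : P Q, z ∈ ((g • S' : Sylow r (P Q)) : Subgroup (P Q)) ↔ g⁻¹ * z * g ∈ (S' : Subgroup (P Q)) := by
      intro z
      rw [Sylow.coe_subgroup_smul, Subgroup.mem_pointwise_smul_iff_inv_smul_mem, ← map_inv]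
      simp only [MulAut.smul_def, MulAut.conj_apply, inv_inv]
    rw [h4, h4, ht]
    have e1 : t * (g⁻¹ * z * g) * t⁻¹ = g⁻¹ * (g * t * g⁻¹ * z * (g * t * g⁻¹)⁻¹) * g := by group
    rw [e1]
  have h5 : orderOf (g * t * g⁻¹) = 2 := by
    rw [← ht2]
    exact orderOf_injective (MulAut.conj g).toMonoidHom (MulAut.conj g).injective t
  have h6 : orderOf (g * t * g⁻¹) ∣ Nat.card A := by
    rw [show orderOf (g * t * g⁻¹) = orderOf (⟨g * t * g⁻¹, h3⟩ : A) from (Subgroup.orderOf_mk _ h3).symm]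
    exact orderOf_dvd_natCard _
  rw [h5] at h6
  exact (Nat.not_even_iff_odd.2 hodd) (even_iff_two_dvd.2 h6)

end Cfsg.Agent.H22.IFO
end

-- part: H626/IFO/Rank
section
/-!
# S5719, `|A|` odd, orthogonal groups: the eigenspaces of the inverting isometry (helper626)
-/

set_option autoImplicit false

namespace Cfsg.Agent.H626.IFO

open QuadraticMap Cfsg.Agent.LieClassical.OrthCore Module Cfsg.Agent.H382.Own5

variable {F V : Type*} [Field F] [AddCommGroup V] [Module F V] {Q : QuadraticForm F V}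

/-- the projection on the fixed space -/
noncomputable def es (H : Subgroup (V ≃ₗ[F] V)) [Fintype H] : V →ₗ[F] V :=
  (Fintype.card H : F)⁻¹ • ∑ x : H, ((x : V ≃ₗ[F] V) : V →ₗ[F] V)

section es

variable {H : Subgroup (V ≃ₗ[F] V)} [Fintype H]

theorem es_apply (v : V) : es H v = (Fintype.card H : F)⁻¹ • ∑ x : H, (x : V ≃ₗ[F] V) v := by
  rw [es, LinearMap.smul_apply, LinearMap.sum_apply]
  rfl

theorem es_fix {y : V ≃ₗ[F] V} (hy : y ∈ H) (v : V) : y (es H v) = es H v := by
  rw [es_apply, map_smul, map_sum]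
  congr 1
  exact Fintype.sum_equiv (Equiv.mulLeft (⟨y, hy⟩ : H)) _ _ (fun x => rfl)

theorem es_zero {y : V ≃ₗ[F] V} (hy : y ∈ H) (v : V) : es H (y v) = es H v := by
  rw [es_apply, es_apply]
  congr 1
  exact Fintype.sum_equiv (Equiv.mulRight (⟨y, hy⟩ : H)) _ _ (fun x => rfl)

theorem es_id (hcard : (Fintype.card H : F) ≠ 0) {v : V} (hv : v ∈ Fx H) : es H v = v := by
  have h1 : ∀ x : H, (x : V ≃ₗ[F] V) v = v := fun x => hv _ (SetLike.coe_mem x)
  rw [es_apply, Finset.sum_congr rfl (fun x _ => h1 x), Finset.sum_const, Finset.card_univ,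
    ← Nat.cast_smul_eq_nsmul F, smul_smul, inv_mul_cancel₀ hcard, one_smul]

theorem es_mem {W : Submodule F V} (hW : Inv H W) {v : V} (hv : v ∈ W) : es H v ∈ W := by
  rw [es_apply]
  exact W.smul_mem _ (W.sum_mem fun x _ => hW x x.2 _ hv)

theorem es_anti {g : V →ₗ[F] V} {v : V} (hg : ∀ x ∈ H, g (x v) = (x⁻¹ : V ≃ₗ[F] V) (g v)) :
    g (es H v) = es H (g v) := by
  rw [es_apply, es_apply, map_smul, map_sum]
  congr 1
  exact Fintype.sum_equiv (Equiv.inv H) _ _ (fun x => hg x x.2)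

theorem es_mem_Fx (v : V) : es H v ∈ Fx H := fun _ hy => es_fix hy v

end es

variable {R : Subgroup (V ≃ₗ[F] V)}

theorem inv_Fx (hc : ∀ x ∈ R, ∀ y ∈ R, x * y = y * x) {H : Subgroup (V ≃ₗ[F] V)} (hH : H ≤ R) : Inv R (Fx H) := by
  intro x hx v hv y hy
  have h1 := hc y (hH hy) x hx
  rw [← LinearEquiv.mul_apply, h1, LinearEquiv.mul_apply, hv y hy]

/-- a polynomial in `R`, anti-commuting with every inverting map, with small kernel -/
theorem exists_j [Finite R] (hc : ∀ x ∈ R, ∀ y ∈ R, x * y = y * x) (hcard : (Nat.card R : F) ≠ 0)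
    (hodd : ∀ x ∈ R, ∀ v, x (x v) = v → x v = v) (L : List (V ≃ₗ[F] V)) (hL : ∀ x ∈ L, x ∈ R) :
    ∃ j : V →ₗ[F] V, (∀ W : Submodule F V, Inv R W → ∀ v ∈ W, j v ∈ W) ∧
      (∀ W : Submodule F V, Inv R W → ∀ g : V →ₗ[F] V, (∀ v ∈ W, g v ∈ W) →
        (∀ x ∈ R, ∀ v ∈ W, g (x v) = (x⁻¹ : V ≃ₗ[F] V) (g v)) → ∀ v ∈ W, g (j v) = - j (g v)) ∧
      (∀ v, j v = 0 → ∀ x ∈ L, x v = v) := by
  induction L with
  | nil => exact ⟨0, fun W _ v _ => W.zero_mem, fun W _ g _ _ v _ => by
      rw [LinearMap.zero_apply, LinearMap.zero_apply, map_zero, neg_zero], fun v _ x hx => absurd hx List.not_mem_nil⟩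
  | cons x L ih =>
    obtain ⟨j, h1, h2, h3⟩ := ih (fun y hy => hL y (List.mem_cons_of_mem _ hy))
    have hxR : x ∈ R := hL x List.mem_cons_self
    set H := Subgroup.zpowers x with hH
    have hHR : H ≤ R := (Subgroup.zpowers_le).2 hxR
    have : Finite H := Finite.of_injective (Subgroup.inclusion hHR) (Subgroup.inclusion_injective hHR)
    have : Fintype H := Fintype.ofFinite H
    have hxH : x ∈ H := Subgroup.mem_zpowers x
    have hcH : (Fintype.card H : F) ≠ 0 := by
      intro h0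
      obtain ⟨k, hk⟩ := Subgroup.card_dvd_of_le hHR
      apply hcard
      rw [hk, Nat.card_eq_fintype_card, Nat.cast_mul, h0, zero_mul]
    have hFx : ∀ v, x v = v → v ∈ Fx H := by
      intro v hv y hy
      have h4 : H ≤ MulAction.stabilizer (V ≃ₗ[F] V) v := by
        rw [hH, Subgroup.zpowers_le]
        exact hv
      exact h4 hy
    have hWH : ∀ W : Submodule F V, Inv R W → Inv H W := fun W hW y hy => hW y (hHR hy)
    refine ⟨((x : V ≃ₗ[F] V) : V →ₗ[F] V) - (((x⁻¹ : V ≃ₗ[F] V)) : V →ₗ[F] V) + j ∘ₗ es H, ?_, ?_, ?_⟩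
    · intro W hW v hv
      exact W.add_mem (W.sub_mem (hW x hxR v hv) (hW _ (inv_mem hxR) v hv)) (h1 W hW _ (es_mem (hWH W hW) hv))
    · intro W hW g hg hgx v hv
      change g (x v - (x⁻¹ : V ≃ₗ[F] V) v + j (es H v)) = -(x (g v) - (x⁻¹ : V ≃ₗ[F] V) (g v) + j (es H (g v)))
      rw [map_add, map_sub, hgx x hxR v hv, hgx _ (inv_mem hxR) v hv, inv_inv,
        h2 W hW g hg hgx _ (es_mem (hWH W hW) hv), es_anti (fun y hy => hgx y (hHR hy) v hv)]
      abel
    · intro v hv
      have h0 : x v - (x⁻¹ : V ≃ₗ[F] V) v + j (es H v) = 0 := hv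
      have h4 : es H v ∈ Fx H := es_mem_Fx v
      have h5 : j (es H v) ∈ Fx H := h1 _ (inv_Fx hc hHR) _ h4
      have h6 : es H (x v - (x⁻¹ : V ≃ₗ[F] V) v) = 0 := by
        rw [map_sub, es_zero hxH, es_zero (inv_mem hxH), sub_self]
      have h7 : j (es H v) = 0 := by
        have h8 := congrArg (es H) h0
        rwa [map_add, h6, zero_add, es_id hcH h5, map_zero] at h8
      have h8 : x v = v := by
        rw [h7, add_zero, sub_eq_zero] at h0
        apply hodd x hxR
        rw [h0]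
        exact LinearEquiv.apply_symm_apply x v
      rw [es_id hcH (hFx v h8)] at h7
      intro y hy
      rcases List.mem_cons.1 hy with rfl | hy
      · exact h8
      · exact h3 v h7 y hy

/-- the `1`- and `-1`-eigenspaces of the inverting isometry have the same dimension -/
theorem finrank_eq [FiniteDimensional F V] [Finite R] (h2 : (2 : F) ≠ 0) (hc : ∀ x ∈ R, ∀ y ∈ R, x * y = y * x)
    (hcard : (Nat.card R : F) ≠ 0) (hodd : ∀ x ∈ R, ∀ v, x (x v) = v → x v = v) {W : Submodule F V} (hW : ND Q W)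
    (hWi : Inv R W) (hW0 : W ⊓ Fx R = ⊥) {g : V →ₗ[F] V} (hg2 : ∀ v, g (g v) = v)
    (hgp : ∀ v ∈ perp Q W, g v = v) (hgW : ∀ v ∈ W, g v ∈ W)
    (hgx : ∀ x ∈ R, ∀ v ∈ W, g (x v) = (x⁻¹ : V ≃ₗ[F] V) (g v)) :
    finrank F W = 2 * finrank F (eig g (-1)) := by
  obtain ⟨L, hL⟩ : ∃ L : List (V ≃ₗ[F] V), ∀ x, x ∈ L ↔ x ∈ R := by
    have h1 : (R : Set (V ≃ₗ[F] V)).Finite := Set.toFinite _
    exact ⟨h1.toFinset.toList, fun x => by rw [Finset.mem_toList, Set.Finite.mem_toFinset]; rfl⟩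
  obtain ⟨j, hj1, hj2, hj3⟩ := exists_j hc hcard hodd L (fun x hx => (hL x).1 hx)
  have hker : ∀ v ∈ W, j v = 0 → v = 0 := by
    intro v hv h
    have h1 : v ∈ W ⊓ Fx R := ⟨hv, fun x hx => hj3 v h x ((hL x).2 hx)⟩
    rw [hW0] at h1
    exact h1
  have hjg := hj2 W hWi g hgW hgx
  set Wm := eig g (-1) with hWm
  set Wp := W ⊓ eig g 1 with hWp
  have hmem : ∀ v, v ∈ Wm ↔ g v = -v := by
    intro v
    rw [hWm, mem_eig, neg_smul, one_smul]
  have hmemp : ∀ v, v ∈ eig g 1 ↔ g v = v := by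
    intro v
    rw [mem_eig, one_smul]
  have hle : Wm ≤ W := by
    intro v hv
    rw [hmem] at hv
    obtain ⟨w, hw, z, hz, rfl⟩ := split hW v
    rw [map_add, hgp z hz, neg_add] at hv
    have h3 : g w + w = -z - z := by
      have : g w = -w + -z - z := by rw [← hv]; abel
      rw [this]; abel
    have h4 : -z - z = 0 := by
      apply hW _ (by rw [← h3]; exact W.add_mem (hgW w hw) hw)
      intro a ha
      rw [polar_sub_left, polar_neg_left, hz a ha, neg_zero, sub_zero]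
    have h5 : (2 : F) • z = 0 := by
      rw [two_smul]
      have : z + z = -(-z - z) := by abel
      rw [this, h4, neg_zero]
    rw [(smul_eq_zero.1 h5).resolve_left h2, add_zero]
    exact hw
  have hsup : Wp ⊔ Wm = W := by
    apply le_antisymm (sup_le inf_le_left hle)
    intro v hv
    have h3 : v = (2 : F)⁻¹ • (v + g v) + (2 : F)⁻¹ • (v - g v) := by
      rw [← smul_add]
      have : v + g v + (v - g v) = (2 : F) • v := by rw [two_smul]; abel
      rw [this, smul_smul, inv_mul_cancel₀ h2, one_smul]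
    rw [h3]
    apply Submodule.add_mem_sup
    · refine ⟨W.smul_mem _ (W.add_mem hv (hgW v hv)), ?_⟩
      rw [SetLike.mem_coe, hmemp, map_smul, map_add, hg2, add_comm]
    · rw [hmem, map_smul, map_sub, hg2, ← smul_neg, neg_sub]
  have hinf : Wp ⊓ Wm = ⊥ := by
    rw [eq_bot_iff]
    rintro v ⟨⟨-, h3⟩, h4⟩
    rw [SetLike.mem_coe, hmemp] at h3
    rw [SetLike.mem_coe, hmem, h3] at h4
    have h5 : (2 : F) • v = 0 := by
      rw [two_smul]
      nth_rewrite 1 [h4]
      rw [neg_add_cancel]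
    exact (smul_eq_zero.1 h5).resolve_left h2
  have hsum := Submodule.finrank_sup_add_finrank_inf_eq Wp Wm
  rw [hsup, hinf, finrank_bot, add_zero] at hsum
  have hpm : finrank F Wp ≤ finrank F Wm := by
    refine LinearMap.finrank_le_finrank_of_injective (f := (j.restrict (p := Wp) (q := Wm) ?_)) ?_
    · intro v hv
      rw [hmem, hjg v hv.1, (hmemp v).1 hv.2]
    · rw [injective_iff_map_eq_zero]
      intro v hv
      exact Subtype.ext (hker v v.2.1 (congrArg Subtype.val hv))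
  have hmp : finrank F Wm ≤ finrank F Wp := by
    refine LinearMap.finrank_le_finrank_of_injective (f := (j.restrict (p := Wm) (q := Wp) ?_)) ?_
    · intro v hv
      refine ⟨hj1 W hWi v (hle hv), ?_⟩
      rw [SetLike.mem_coe, hmemp, hjg v (hle hv), (hmem v).1 hv, map_neg, neg_neg]
    · rw [injective_iff_map_eq_zero]
      intro v hv
      exact Subtype.ext (hker v (hle v.2) (congrArg Subtype.val hv))
  omega

/-- characteristic two: the inverting isometry `g` of the whole space: `g - 1` has rank `n / 2` -/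
theorem finrank_range [FiniteDimensional F V] [Fintype R] (h2 : (2 : F) = 0)
    (hodd : ∀ x ∈ R, ∀ v, x (x v) = v → x v = v) (h0 : Fx R = ⊥) {g : V →ₗ[F] V} (hg2 : ∀ v, g (g v) = v)
    (hgx : ∀ x ∈ R, ∀ v, g (x v) = (x⁻¹ : V ≃ₗ[F] V) (g v)) :
    finrank F V = 2 * finrank F (LinearMap.range (g - LinearMap.id)) := by
  classical
  have hneg : ∀ v : V, -v = v := by
    intro v
    have h3 : (2 : F) • v = 0 := by rw [h2, zero_smul]
    rw [two_smul] at h3
    exact (eq_neg_of_add_eq_zero_left h3).symm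
  let f : R ≃ Fin (Fintype.card R) := Fintype.equivFin R
  let A : V → V := fun v => ∑ x ∈ Finset.univ.filter (fun x : R => f x < f x⁻¹), (x : V ≃ₗ[F] V) v
  let A' : V → V := fun v => ∑ x ∈ Finset.univ.filter (fun x : R => f x < f x⁻¹), ((x : V ≃ₗ[F] V)⁻¹ : V ≃ₗ[F] V) v
  have hinv1 : ∀ x : R, f x = f x⁻¹ → x = 1 := by
    intro x hx
    have h3 : x = x⁻¹ := f.injective hx
    apply Subtype.ext
    apply LinearEquiv.ext
    intro v
    apply hodd x x.2
    have h4 : (x : V ≃ₗ[F] V) = (x : V ≃ₗ[F] V)⁻¹ := congrArg Subtype.val h3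
    nth_rewrite 1 [h4]
    exact LinearEquiv.symm_apply_apply (x : V ≃ₗ[F] V) v
  have hA : ∀ v, A v + A' v = v := by
    intro v
    have h3 : ∑ x : R, (x : V ≃ₗ[F] V) v = 0 := by
      have h4 : ∑ x : R, (x : V ≃ₗ[F] V) v ∈ Fx R := by
        intro y hy
        rw [map_sum]
        exact Fintype.sum_equiv (Equiv.mulLeft (⟨y, hy⟩ : R)) _ _ (fun x => rfl)
      rw [h0] at h4
      exact h4
    have h5 : ∑ x : R, (x : V ≃ₗ[F] V) v = A v + (A' v + v) := by
      rw [← Finset.sum_filter_add_sum_filter_not Finset.univ (fun x : R => f x < f x⁻¹)]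
      congr 1
      rw [← Finset.sum_filter_add_sum_filter_not (Finset.univ.filter (fun x : R => ¬ f x < f x⁻¹))
        (fun x : R => f x⁻¹ < f x)]
      congr 1
      · refine Finset.sum_bij' (fun x _ => x⁻¹) (fun x _ => x⁻¹) ?_ ?_ ?_ ?_ ?_
        · intro x hx
          rw [Finset.mem_filter] at hx
          rw [Finset.mem_filter, inv_inv]
          exact ⟨Finset.mem_univ _, hx.2⟩
        · intro x hx
          rw [Finset.mem_filter] at hx
          rw [Finset.mem_filter, Finset.mem_filter, inv_inv]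
          exact ⟨⟨Finset.mem_univ _, not_lt.2 hx.2.le⟩, hx.2⟩
        · intro x _
          exact inv_inv x
        · intro x _
          exact inv_inv x
        · intro x _
          rw [Subgroup.coe_inv, inv_inv]
      · have h6 : (Finset.univ.filter (fun x : R => ¬ f x < f x⁻¹)).filter (fun x : R => ¬ f x⁻¹ < f x) = {1} := by
          ext x
          rw [Finset.mem_filter, Finset.mem_filter, Finset.mem_singleton]
          constructor
          · rintro ⟨⟨-, h7⟩, h8⟩
            exact hinv1 x (le_antisymm (not_lt.1 h8) (not_lt.1 h7))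
          · rintro rfl
            rw [inv_one]
            exact ⟨⟨Finset.mem_univ _, lt_irrefl _⟩, lt_irrefl _⟩
        rw [h6, Finset.sum_singleton]
        rfl
    rw [h3, ← add_assoc] at h5
    have h6 := eq_neg_of_add_eq_zero_left h5.symm
    rw [h6, hneg]
  have hgA : ∀ v, g v = v → g (A v) = A' v := by
    intro v hv
    change g (∑ x ∈ Finset.univ.filter (fun x : R => f x < f x⁻¹), (x : V ≃ₗ[F] V) v) = _
    rw [map_sum]
    apply Finset.sum_congr rfl
    intro x _
    rw [hgx x x.2, hv]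
  have hrk : LinearMap.range (g - LinearMap.id) = LinearMap.ker (g - LinearMap.id) := by
    ext v
    rw [LinearMap.mem_ker, LinearMap.mem_range]
    constructor
    · rintro ⟨w, rfl⟩
      change g (g w - w) - (g w - w) = 0
      rw [map_sub, hg2, sub_eq_zero]
      nth_rewrite 1 [← hneg (w - g w)]
      rw [neg_sub]
    · intro hv
      have hv' : g v = v := sub_eq_zero.1 hv
      refine ⟨A v, ?_⟩
      change g (A v) - A v = v
      rw [hgA v hv', sub_eq_add_neg, hneg, add_comm]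
      exact hA v
  have h3 := LinearMap.finrank_range_add_finrank_ker (g - LinearMap.id)
  rw [← hrk] at h3
  omega

end Cfsg.Agent.H626.IFO
end

-- part: H442/IFO/Frob
section
/-!
# S5719, `|A|` odd, orthogonal groups: the field case (helper442)

`R ≤ O(Q)` commutative of exponent `r` (an odd prime), `F[R]` a field, `V` a cyclic `F[R]`-module, `4 ∣ dim V`, `q` odd:
there is an isometry `φ` with `φ x φ⁻¹ = x^q` for `x ∈ R`; `φ²` shows `EvN Q R`.
-/

set_option autoImplicit false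

namespace Cfsg.Agent.H442.IFO

open QuadraticMap Module Cfsg.Agent.LieClassical.OrthCore Cfsg.Agent.LieClassical.OrthTrans

section core

variable {F V L : Type*} [Field F] [AddCommGroup V] [Module F V] [Field L] [Algebra F L]

/-- a field acting on a quadratic space, closed under adjoints, with a cyclic vector -/
structure Dt (Q : QuadraticForm F V) (ι : L →ₐ[F] Module.End F V) (u : V) : Prop where
  nd : Nondeg Q
  two : (2 : F) ≠ 0
  u0 : u ≠ 0
  sur : ∀ v, ∃ a : L, ι a u = v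
  adj : ∀ a : L, ∃ b : L, ∀ v w, polar Q (ι a v) w = polar Q v (ι b w)

variable {Q : QuadraticForm F V} {ι : L →ₐ[F] Module.End F V} {u : V} (h : Dt Q ι u)

include h

theorem Dt.zero {a : L} (ha : ι a u = 0) : a = 0 := by
  by_contra h0
  apply h.u0
  have e : ι (a⁻¹ * a) u = ι a⁻¹ (ι a u) := by rw [map_mul]; rfl
  rw [inv_mul_cancel₀ h0, map_one, ha, map_zero] at e
  exact e

theorem Dt.inj {a b : L} (ha : ι a u = ι b u) : a = b := by
  apply sub_eq_zero.1
  apply h.zero
  rw [map_sub, LinearMap.sub_apply, ha, sub_self]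

/-- uniqueness of adjoints -/
theorem Dt.uniq {b b' : L} (hb : ∀ v w, polar Q v (ι b w) = polar Q v (ι b' w)) : b = b' := by
  apply h.inj
  apply sub_eq_zero.1
  apply h.nd
  intro y
  rw [polar_sub_left, polar_comm _ _ y, hb y u, polar_comm _ _ y, sub_self]

/-- the adjoint -/
noncomputable def Dt.ad (a : L) : L := (h.adj a).choose

theorem Dt.ad_spec (a : L) (v w : V) : polar Q (ι a v) w = polar Q v (ι (h.ad a) w) := (h.adj a).choose_spec v w

/-- the adjoint as a ring homomorphism -/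
noncomputable def Dt.sg : L →+* L where
  toFun := h.ad
  map_one' := h.uniq fun v w => by
    rw [← h.ad_spec, map_one]; rfl
  map_mul' a b := h.uniq fun v w => by
    rw [← h.ad_spec, map_mul, map_mul]
    change polar Q (ι a (ι b v)) w = polar Q v (ι (h.ad a) (ι (h.ad b) w))
    rw [h.ad_spec, h.ad_spec, ← Module.End.mul_apply, ← Module.End.mul_apply, ← map_mul, ← map_mul, mul_comm]
  map_zero' := h.uniq fun v w => by
    rw [← h.ad_spec, map_zero, LinearMap.zero_apply, LinearMap.zero_apply, polar_zero_left, polar_zero_right]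
  map_add' a b := h.uniq fun v w => by
    rw [← h.ad_spec, map_add, map_add, LinearMap.add_apply, LinearMap.add_apply, polar_add_left, polar_add_right,
      h.ad_spec, h.ad_spec]

theorem Dt.sg_spec (a : L) (v w : V) : polar Q (ι a v) w = polar Q v (ι (h.sg a) w) := h.ad_spec a v w

theorem Dt.sg_eq {a b : L} (hb : ∀ v w, polar Q (ι a v) w = polar Q v (ι b w)) : h.sg a = b :=
  h.uniq fun v w => by rw [← h.sg_spec, hb]

theorem Dt.sg_sg (a : L) : h.sg (h.sg a) = a :=
  h.sg_eq fun v w => by rw [polar_comm, ← h.sg_spec, polar_comm]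

/-- the functional -/
noncomputable def Dt.lam (_h : Dt Q ι u) : L →ₗ[F] F where
  toFun s := polar Q (ι s u) u
  map_add' s t := by rw [map_add, LinearMap.add_apply, polar_add_left]
  map_smul' c s := by rw [map_smul, LinearMap.smul_apply, polar_smul_left]; rfl

theorem Dt.lam_apply (s : L) : h.lam s = polar Q (ι s u) u := rfl

theorem Dt.ff (a b : L) : polar Q (ι a u) (ι b u) = h.lam (h.sg b * a) := by
  rw [polar_comm, h.sg_spec, h.lam_apply, map_mul, polar_comm]
  rfl

theorem Dt.lam_sg (a : L) : h.lam (h.sg a) = h.lam a := by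
  rw [h.lam_apply, h.lam_apply, polar_comm, ← h.sg_spec]

theorem Dt.lam_nd {a : L} (ha : ∀ b, h.lam (b * a) = 0) : a = 0 := by
  apply h.zero
  apply h.nd
  intro y
  obtain ⟨b, rfl⟩ := h.sur y
  rw [h.ff, ha]

/-- the linear equivalence `a ↦ a u` -/
noncomputable def Dt.e (h : Dt Q ι u) : L ≃ₗ[F] V :=
  LinearEquiv.ofBijective ((LinearMap.applyₗ (R := F) u) ∘ₗ ι.toLinearMap) ⟨fun _ _ hab => h.inj hab, h.sur⟩

theorem Dt.e_apply (a : L) : h.e a = ι a u := rfl

end core

section frob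

variable {F V L : Type*} [Field F] [Fintype F] [AddCommGroup V] [Module F V] [Field L] [Finite L] [Algebra F L]
  {Q : QuadraticForm F V} {ι : L →ₐ[F] Module.End F V} {u : V} (h : Dt Q ι u)

include h

theorem Dt.exists_c : ∃ c : L, ∀ s, h.lam (c * s ^ Fintype.card F) = h.lam s := by
  have : FiniteDimensional F L := inferInstance
  let φ : L ≃ₐ[F] L := FiniteField.frobeniusAlgEquivOfAlgebraic F L
  let T : L →ₗ[F] (L →ₗ[F] F) :=
    { toFun := fun c => h.lam ∘ₗ LinearMap.mulLeft F c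
      map_add' := fun a b => by ext s; simp [add_mul]
      map_smul' := fun a b => by ext s; simp }
  have hT : ∀ c s, T c s = h.lam (c * s) := fun c s => rfl
  have hinj : Function.Injective T := by
    rw [injective_iff_map_eq_zero]
    intro a ha
    apply h.lam_nd
    intro b
    rw [mul_comm, ← hT, ha]
    rfl
  have hsur : Function.Surjective T :=
    (LinearMap.injective_iff_surjective_of_finrank_eq_finrank (Subspace.dual_finrank_eq).symm).1 hinj
  obtain ⟨c, hc⟩ := hsur (h.lam ∘ₗ φ.symm.toLinearMap)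
  refine ⟨c, fun s => ?_⟩
  have h1 := congrArg (fun g : L →ₗ[F] F => g (φ s)) hc
  change h.lam (c * φ s) = h.lam (φ.symm (φ s)) at h1
  rw [AlgEquiv.symm_apply_apply] at h1
  exact h1

omit h [AddCommGroup V] [Module F V] in
theorem pow_surj (s : L) : ∃ a : L, a ^ Fintype.card F = s := by
  obtain ⟨a, ha⟩ := (FiniteField.frobeniusAlgEquivOfAlgebraic F L).surjective s
  exact ⟨a, ha⟩

/-- the Frobenius isometry -/
theorem Dt.exists_frob (hs : ∃ a, h.sg a ≠ a) : ∃ Φ : V ≃ₗ[F] V, (∀ v, Q (Φ v) = Q v) ∧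
    ∀ (a : L) (v : V), Φ (ι a v) = ι (a ^ Fintype.card F) (Φ v) := by
  obtain ⟨c, hc⟩ := h.exists_c
  have hcs : h.sg c = c := by
    apply sub_eq_zero.1
    apply h.lam_nd
    intro b
    obtain ⟨a, rfl⟩ := pow_surj (F := F) b
    have e1 : h.lam (h.sg c * a ^ Fintype.card F) = h.lam (c * a ^ Fintype.card F) := by
      rw [hc, ← h.lam_sg, map_mul, h.sg_sg, map_pow, hc, h.lam_sg]
    rw [mul_sub, mul_comm _ (h.sg c), mul_comm _ c, map_sub, e1, sub_self]
  obtain ⟨a₁, ha₁⟩ := hs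
  obtain ⟨t, ht⟩ := Cfsg.Agent.ClassicalGeometry.InvolutiveNorm.exists_mul_sigma_eq (σ := h.sg)
    (fun h1 => ha₁ (by rw [h1]; rfl)) h.sg_sg hcs
  have hc0 : c ≠ 0 := by
    rintro rfl
    have h1 : (1 : L) = 0 := by
      apply h.lam_nd
      intro b
      rw [← hc, zero_mul, map_zero]
    exact one_ne_zero h1
  have ht0 : t ≠ 0 := by
    rintro rfl
    rw [zero_mul] at ht
    exact hc0 ht.symm
  let φ : L ≃ₐ[F] L := FiniteField.frobeniusAlgEquivOfAlgebraic F L
  let Tt : V ≃ₗ[F] V := LinearEquiv.ofLinearMap (ι t) (ι t⁻¹)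
    (by
      have e : ι (t * t⁻¹) = ι t ∘ₗ ι t⁻¹ := by rw [map_mul]; rfl
      rw [← e, mul_inv_cancel₀ ht0, map_one]; rfl)
    (by
      have e : ι (t⁻¹ * t) = ι t⁻¹ ∘ₗ ι t := by rw [map_mul]; rfl
      rw [← e, inv_mul_cancel₀ ht0, map_one]; rfl)
  let Φ : V ≃ₗ[F] V := h.e.symm.trans (φ.toLinearEquiv.trans (h.e.trans Tt))
  have hΦ : ∀ a : L, Φ (ι a u) = ι (t * a ^ Fintype.card F) u := by
    intro a
    change ι t (h.e (φ (h.e.symm (h.e a)))) = _
    rw [LinearEquiv.symm_apply_apply, h.e_apply, map_mul]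
    rfl
  have hpol : ∀ v w, polar Q (Φ v) (Φ w) = polar Q v w := by
    intro v w
    obtain ⟨a, rfl⟩ := h.sur v
    obtain ⟨b, rfl⟩ := h.sur w
    rw [hΦ, hΦ, h.ff, h.ff, map_mul h.sg, map_pow h.sg]
    have e : h.sg t * h.sg b ^ Fintype.card F * (t * a ^ Fintype.card F) = c * (h.sg b * a) ^ Fintype.card F := by
      rw [← ht, mul_pow]; ring
    rw [e, hc]
  refine ⟨Φ, fun v => ?_, fun a v => ?_⟩
  · have h1 := hpol v v
    rw [QuadraticMap.polar_self, QuadraticMap.polar_self] at h1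
    have h2 : (2 : F) * Q (Φ v) = 2 * Q v := by simpa using h1
    exact mul_left_cancel₀ h.two h2
  · obtain ⟨b, rfl⟩ := h.sur v
    have e : ι a (ι b u) = ι (a * b) u := by rw [map_mul]; rfl
    rw [e, hΦ, hΦ, mul_pow, ← Module.End.mul_apply, ← map_mul]
    congr 2
    ring

end frob

section main

variable {F V : Type*} [Field F] [AddCommGroup V] [Module F V] {Q : QuadraticForm F V}

/-- squares of isometries are in `E Q` -/
theorem sq_mem_E [FiniteDimensional F V] (hG : Good Q) {g : V ≃ₗ[F] V} (hg : g ∈ O Q) : g * g ∈ E Q := by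
  have hcomm : ∀ g ∈ O Q, ∀ h ∈ O Q, g * h * g⁻¹ * h⁻¹ ∈ E Q := by
    intro g hg h hh
    rw [← hG.commutator_eq_E]
    exact Subgroup.commutator_mem_commutator hg hh
  rw [O_eq_closure hG.nondeg] at hg
  have hle : ∀ x ∈ Subgroup.closure (reflSet Q ∪ siegelSet Q), x ∈ O Q := fun x hx => by
    rw [O_eq_closure hG.nondeg]; exact hx
  induction hg using Subgroup.closure_induction with
  | mem x hx =>
    rcases hx with ⟨v, hv, rfl⟩ | hx
    · rw [refl_mul_self]; exact one_mem _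
    · exact mul_mem (Subgroup.subset_closure hx) (Subgroup.subset_closure hx)
  | one => rw [one_mul]; exact one_mem _
  | mul g h hg hh h1 h2 =>
    have e : g * h * (g * h) = (g * g) * (g⁻¹ * h * g⁻¹⁻¹ * h⁻¹) * (h * h) := by group
    rw [e]
    exact mul_mem (mul_mem h1 (hcomm _ (inv_mem (hle g hg)) _ (hle h hh))) h2
  | inv g hg h =>
    have e : g⁻¹ * g⁻¹ = (g * g)⁻¹ := by group
    rw [e]
    exact inv_mem h

/-- the generators of the algebra -/
def gens (R : Subgroup (V ≃ₗ[F] V)) : Set (Module.End F V) := {a | ∃ x ∈ R, a = (x : V →ₗ[F] V)}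

theorem coe_pow' (x : V ≃ₗ[F] V) (n : ℕ) : (x : V →ₗ[F] V) ^ n = ((x ^ n : V ≃ₗ[F] V) : V →ₗ[F] V) := by
  induction n with
  | zero => rfl
  | succ n ih => rw [pow_succ, pow_succ, ih]; rfl

/-- conjugation by powers -/
theorem conj_pow_pow {G : Type*} [Group G] {y x : G} {N : ℕ} {R : Subgroup G}
    (h : ∀ x ∈ R, y * x * y⁻¹ = x ^ N) (hx : x ∈ R) (k : ℕ) : y ^ k * x * (y ^ k)⁻¹ = x ^ (N ^ k) := by
  induction k with
  | zero => rw [pow_zero, pow_zero, pow_one, one_mul, inv_one, mul_one]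
  | succ k ih =>
    have e : y ^ (k + 1) * x * (y ^ (k + 1))⁻¹ = y * (y ^ k * x * (y ^ k)⁻¹) * y⁻¹ := by
      rw [pow_succ']; group
    rw [e, ih, conj_pow.symm, h x hx, ← pow_mul, pow_succ']

/-- **the field case, abstract form** -/
theorem evN_of {L : Type*} [Finite F] [FiniteDimensional F V] [Field L] [Finite L] [Algebra F L] (hG : Good Q)
    (h2 : (2 : F) ≠ 0) (h4 : 4 ∣ Module.finrank F V) {R : Subgroup (V ≃ₗ[F] V)} (hR : R ≤ O Q)
    {r : ℕ} (hr : Odd r) (hpow : ∀ x ∈ R, x ^ r = 1) (hR1 : R ≠ ⊥) (ι : L →ₐ[F] Module.End F V)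
    (hι : ∀ x ∈ R, ∃ a : L, ι a = (x : V →ₗ[F] V)) (hιR : ∀ a : L, ι a ∈ Algebra.adjoin F (gens R)) (u : V)
    (hu : ∀ v, ∃ a : L, ι a u = v) : H626.IFO.EvN Q R := by
  classical
  have := Fintype.ofFinite F
  have hu0 : u ≠ 0 := by
    rintro rfl
    obtain ⟨x, hx0, hx⟩ := hG.sing
    obtain ⟨a, ha⟩ := hu x
    rw [map_zero] at ha
    exact hx0 ha.symm
  have hadj : ∀ T ∈ Algebra.adjoin F (gens R), ∃ b : L, ∀ v w, polar Q (T v) w = polar Q v (ι b w) := by
    intro T hT
    induction hT using Algebra.adjoin_induction with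
    | mem T hT =>
      obtain ⟨x, hx, rfl⟩ := hT
      obtain ⟨b, hb⟩ := hι x⁻¹ (inv_mem hx)
      refine ⟨b, fun v w => ?_⟩
      rw [hb]
      have e := polar_map (hR hx) v (x⁻¹ w)
      have e2 : x (x⁻¹ w) = w := by
        change (x * x⁻¹) w = w
        rw [mul_inv_cancel]; rfl
      rw [e2] at e
      exact e
    | algebraMap c =>
      refine ⟨algebraMap F L c, fun v w => ?_⟩
      rw [AlgHom.commutes, Module.algebraMap_end_apply, Module.algebraMap_end_apply, polar_smul_left, polar_smul_right]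
    | add S T _ _ hS hT =>
      obtain ⟨b, hb⟩ := hS
      obtain ⟨c, hc⟩ := hT
      refine ⟨b + c, fun v w => ?_⟩
      rw [LinearMap.add_apply, polar_add_left, map_add, LinearMap.add_apply, polar_add_right, hb, hc]
    | mul S T _ _ hS hT =>
      obtain ⟨b, hb⟩ := hS
      obtain ⟨c, hc⟩ := hT
      refine ⟨c * b, fun v w => ?_⟩
      rw [Module.End.mul_apply, hb, hc, map_mul]
      rfl
  have hD : Dt Q ι u := ⟨hG.nondeg, h2, hu0, hu, fun a => hadj _ (hιR a)⟩
  -- the adjoint is nontrivial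
  obtain ⟨x₀, hx₀, hx₁⟩ : ∃ x ∈ R, x ≠ 1 := by
    by_contra hcon
    push Not at hcon
    exact hR1 ((Subgroup.eq_bot_iff_forall R).2 hcon)
  have hs : ∃ a, hD.sg a ≠ a := by
    obtain ⟨a, ha⟩ := hι x₀ hx₀
    refine ⟨a, fun hsa => hx₁ ?_⟩
    have h1 : x₀ * x₀ = 1 := by
      apply LinearEquiv.ext
      intro w
      apply sub_eq_zero.1
      apply hG.nondeg
      intro y
      have e1 := hD.sg_spec a y (x₀ w)
      rw [hsa, ha] at e1
      change polar Q (x₀ y) (x₀ w) = polar Q y (x₀ (x₀ w)) at e1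
      rw [polar_map (hR hx₀)] at e1
      change polar Q (x₀ (x₀ w) - w) y = 0
      rw [polar_sub_left, polar_comm _ _ y, ← e1, polar_comm _ w y, sub_self]
    obtain ⟨j, rfl⟩ := hr
    have h3 := hpow x₀ hx₀
    rw [pow_succ, pow_mul, pow_two, h1, one_pow, one_mul] at h3
    exact h3
  obtain ⟨Φ, hΦ, hΦ2⟩ := hD.exists_frob hs
  set q := Fintype.card F with hq
  have hconj : ∀ x ∈ R, Φ * x * Φ⁻¹ = x ^ q := by
    intro x hx
    obtain ⟨a, ha⟩ := hι x hx
    rw [mul_inv_eq_iff_eq_mul]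
    apply LinearEquiv.ext
    intro v
    have e := hΦ2 a v
    rw [map_pow, ha] at e
    change Φ (x v) = (x ^ q) (Φ v)
    rw [coe_pow'] at e
    exact e
  have hconj2 : ∀ x ∈ R, Φ * Φ * x * (Φ * Φ)⁻¹ = x ^ (q ^ 2) := by
    intro x hx
    have := conj_pow_pow hconj hx 2
    rwa [pow_two Φ] at this
  refine ⟨Φ * Φ, sq_mem_E hG hΦ, fun x hx => by rw [hconj2 x hx]; exact pow_mem hx _, ?_⟩
  rintro k hk ⟨c, hcs⟩
  -- the power acts trivially
  have h5 : ∀ x ∈ R, x ^ (q ^ (2 * k)) = x := by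
    intro x hx
    have h6 := conj_pow_pow hconj2 hx k
    rw [← pow_mul] at h6
    rw [← h6, mul_inv_eq_iff_eq_mul]
    apply LinearEquiv.ext
    intro v
    change ((Φ * Φ) ^ k) (x v) = x (((Φ * Φ) ^ k) v)
    rw [hcs, hcs, map_smul]
  let φ : L →ₐ[F] L := FiniteField.frobeniusAlgHom F L
  have hφ : ∀ (n : ℕ) (a : L), (φ ^ n) a = a ^ (q ^ n) := by
    intro n a
    rw [AlgHom.coe_pow]
    change (FiniteField.frobeniusAlgHom F L)^[n] a = _
    rw [FiniteField.coe_frobeniusAlgHom, pow_iterate]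
  have h7 : ∀ T ∈ Algebra.adjoin F (gens R), ∃ a : L, ι a = T ∧ (φ ^ (2 * k)) a = a := by
    intro T hT
    induction hT using Algebra.adjoin_induction with
    | mem T hT =>
      obtain ⟨x, hx, rfl⟩ := hT
      obtain ⟨a, ha⟩ := hι x hx
      refine ⟨a, ha, ?_⟩
      rw [hφ]
      apply hD.inj
      rw [map_pow, ha, coe_pow', h5 x hx]
    | algebraMap c => exact ⟨algebraMap F L c, AlgHom.commutes _ _, AlgHom.commutes _ _⟩
    | add S T _ _ hS hT =>
      obtain ⟨a, ha, ha'⟩ := hS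
      obtain ⟨b, hb, hb'⟩ := hT
      exact ⟨a + b, by rw [map_add, ha, hb], by rw [map_add, ha', hb']⟩
    | mul S T _ _ hS hT =>
      obtain ⟨a, ha, ha'⟩ := hS
      obtain ⟨b, hb, hb'⟩ := hT
      exact ⟨a * b, by rw [map_mul, ha, hb], by rw [map_mul, ha', hb']⟩
  have h8 : φ ^ (2 * k) = 1 := by
    apply AlgHom.ext
    intro a
    obtain ⟨b, hb, hb'⟩ := h7 _ (hιR a)
    have : b = a := hD.inj (congrArg (fun T : Module.End F V => T u) hb)
    rw [← this, hb']
    rfl
  have h9 := orderOf_dvd_of_pow_eq_one h8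
  rw [FiniteField.orderOf_frobeniusAlgHom, hD.e.finrank_eq] at h9
  have h10 := h4.trans h9
  obtain ⟨j, rfl⟩ := hk
  omega

/-- a finite commutative ring without zero divisors is a field -/
@[reducible] noncomputable def fieldOf (K : Type*) [CommRing K] [Finite K] [Nontrivial K] [DecidableEq K]
    (h : ∀ a : K, a ≠ 0 → Function.Injective fun b : K => a * b) : Field K :=
  { (inferInstance : CommRing K) with
    inv := fun a => if ha : a = 0 then 0 else
      (Finite.surjective_of_injective (h a ha) 1).choose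
    exists_pair_ne := exists_pair_ne K
    mul_inv_cancel := fun a ha => by
      change a * (if ha : a = 0 then 0 else (Finite.surjective_of_injective (h a ha) 1).choose) = 1
      rw [dif_neg ha]
      exact (Finite.surjective_of_injective (h a ha) 1).choose_spec
    inv_zero := dif_pos rfl
    nnqsmul := _
    nnqsmul_def := fun _ _ => rfl
    qsmul := _
    qsmul_def := fun _ _ => rfl }

/-- **the field case** -/
theorem evN_field [Finite F] [FiniteDimensional F V] (hG : Good Q) (h2 : (2 : F) ≠ 0)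
    (h4 : 4 ∣ Module.finrank F V) {R : Subgroup (V ≃ₗ[F] V)} (hR : R ≤ O Q)
    (hc : ∀ x ∈ R, ∀ y ∈ R, x * y = y * x) {r : ℕ} (hr : r.Prime) (hr2 : r ≠ 2) (hrF : (r : F) ≠ 0)
    (hpow : ∀ x ∈ R, x ^ r = 1) (hR1 : R ≠ ⊥)
    (hK : ∀ a ∈ Algebra.adjoin F {a : Module.End F V | ∃ x ∈ R, a = (x : V →ₗ[F] V)}, a ≠ 0 → Function.Injective a)
    (u : V) (hu : ∀ v, ∃ a ∈ Algebra.adjoin F {a : Module.End F V | ∃ x ∈ R, a = (x : V →ₗ[F] V)}, a u = v) :
    H626.IFO.EvN Q R := by
  classical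
  have hcomm : ∀ a ∈ gens R, ∀ b ∈ gens R, a * b = b * a := by
    rintro _ ⟨x, hx, rfl⟩ _ ⟨y, hy, rfl⟩
    have := hc x hx y hy
    ext v
    exact LinearEquiv.congr_fun this v
  have hVf : Finite V := Module.finite_of_finite F
  have hEf : Finite (Module.End F V) := Finite.of_injective (fun f : Module.End F V => (f : V → V)) DFunLike.coe_injective
  obtain ⟨x₀, hx₀, hx₀'⟩ := hG.sing
  have hVn : Nontrivial V := ⟨x₀, 0, hx₀⟩
  let _ : CommRing ↥(Algebra.adjoin F (gens R)) :=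
    { (inferInstance : Ring ↥(Algebra.adjoin F (gens R))) with
      mul_comm := fun a b => (Algebra.isMulCommutative_adjoin F hcomm).is_comm.comm a b }
  have hKf : Finite ↥(Algebra.adjoin F (gens R)) := inferInstance
  let _ : Field ↥(Algebra.adjoin F (gens R)) := fieldOf _ (fun a ha b c hbc => by
    apply Subtype.ext
    have hinj := hK a.1 a.2 (fun h0 => ha (Subtype.ext h0))
    apply LinearMap.ext
    intro v
    apply hinj
    have := congrArg (fun z : ↥(Algebra.adjoin F (gens R)) => (z : Module.End F V) v) hbc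
    exact this)
  refine evN_of (L := ↥(Algebra.adjoin F (gens R))) hG h2 h4 hR (hr.odd_of_ne_two hr2) hpow hR1
    (Algebra.adjoin F (gens R)).val (fun x hx => ⟨⟨_, Algebra.subset_adjoin ⟨x, hx, rfl⟩⟩, rfl⟩) (fun a => a.2) u ?_
  intro v
  obtain ⟨a, ha, hav⟩ := hu v
  exact ⟨⟨a, ha⟩, hav⟩

end main

end Cfsg.Agent.H442.IFO
end

-- part: H283/Fxo/Swap
section
/-!
# S5719, `|A|` odd, orthogonal groups: no swap in even dimension (helper283, statement of helper626)

`R` a commutative group of isometries of exponent `r`, `M` an irreducible totally singular `R`-submodule of even dimension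
`d`, `dim V = 2 d`, `V` cyclic: impossible. The field `F[R] | M` has `q ^ d` elements; `x ^ (q ^ (d / 2)) = x⁻¹` on `R`, so the
adjoint of `a ∈ F[R]` is `a ^ (q ^ (d / 2))`, and the annihilator of `M` is stable under the adjoint: it is zero.
-/

set_option autoImplicit false

namespace Cfsg.Agent.H283.Fxo

open QuadraticMap Module
open Cfsg.Agent.LieClassical.OrthCore Cfsg.Agent.H626.IFO

universe u v

variable {F : Type u} {V : Type v} [Field F] [AddCommGroup V] [Module F V] {Q : QuadraticForm F V}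
  {R : Subgroup (V ≃ₗ[F] V)}

/-- Frobenius is additive on commuting endomorphisms -/
theorem add_pow_card [Finite F] [Nontrivial V] (k : ℕ) {a b : Module.End F V} (h : a * b = b * a) :
    (a + b) ^ (Nat.card F ^ k) = a ^ (Nat.card F ^ k) + b ^ (Nat.card F ^ k) := by
  cases nonempty_fintype F
  obtain ⟨p, hp⟩ := CharP.exists F
  obtain ⟨n, hn, hc⟩ := FiniteField.card F p
  haveI : Fact p.Prime := ⟨hn⟩
  haveI : CharP (Module.End F V) p := charP_of_injective_algebraMap (algebraMap F (Module.End F V)).injective p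
  rw [Nat.card_eq_fintype_card, hc, ← pow_mul]
  exact add_pow_char_pow_of_commute _ _ h

theorem pow_card_alg [Finite F] (k : ℕ) (c : F) :
    (algebraMap F (Module.End F V) c) ^ (Nat.card F ^ k) = algebraMap F (Module.End F V) c := by
  cases nonempty_fintype F
  rw [← map_pow, Nat.card_eq_fintype_card, FiniteField.pow_card_pow]

theorem alg_apply_mem {M : Submodule F V} (hMi : Inv R M) {a : Module.End F V} (ha : a ∈ Alg (R : Set (V ≃ₗ[F] V)))
    {m : V} (hm : m ∈ M) : a m ∈ M := by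
  revert m
  induction ha using Algebra.adjoin_induction with
  | mem s hs =>
    obtain ⟨x, hx, rfl⟩ := hs
    intro m hm
    exact hMi x hx m hm
  | algebraMap c => intro m hm; exact M.smul_mem c hm
  | add s t _ _ hs ht => intro m hm; exact M.add_mem (hs hm) (ht hm)
  | mul s t _ _ hs ht => intro m hm; exact hs (ht hm)

theorem mem_alg {x : V ≃ₗ[F] V} (hx : x ∈ R) : (x : V →ₗ[F] V) ∈ Alg (R : Set (V ≃ₗ[F] V)) :=
  Algebra.subset_adjoin ⟨x, hx, rfl⟩

theorem coe_pow (x : V ≃ₗ[F] V) (n : ℕ) : ((x : V →ₗ[F] V) : Module.End F V) ^ n = ((x ^ n : V ≃ₗ[F] V) : V →ₗ[F] V) := by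
  induction n with
  | zero => rw [pow_zero, pow_zero]; rfl
  | succ n ih => rw [pow_succ, pow_succ, ih]; rfl

/-- the vectors `a u` -/
theorem cyc_le_range (u : V) {w : V} (hw : w ∈ cyc R u) : ∃ a ∈ Alg (R : Set (V ≃ₗ[F] V)), a u = w := by
  induction hw using Submodule.span_induction with
  | mem w h =>
    obtain ⟨x, hx, rfl⟩ := h
    exact ⟨_, mem_alg hx, rfl⟩
  | zero => exact ⟨0, zero_mem _, rfl⟩
  | add a b _ _ ha hb =>
    obtain ⟨s, hs, rfl⟩ := ha
    obtain ⟨t, ht, rfl⟩ := hb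
    exact ⟨s + t, add_mem hs ht, rfl⟩
  | smul c a _ ha =>
    obtain ⟨s, hs, rfl⟩ := ha
    exact ⟨c • s, Subalgebra.smul_mem _ hs c, rfl⟩

section

variable {M : Submodule F V} (hc : ∀ x ∈ R, ∀ y ∈ R, x * y = y * x) (hMi : Inv R M)
  (hirr : ∀ W ≤ M, Inv R W → W = ⊥ ∨ W = M)

include hc hMi hirr in
/-- an element of `F[R]` is injective on `M` or kills `M` -/
theorem alg_inj {a : Module.End F V} (ha : a ∈ Alg (R : Set (V ≃ₗ[F] V))) {w : V} (hw : w ∈ M) (hw0 : w ≠ 0)
    (h : a w = 0) : ∀ m ∈ M, a m = 0 := by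
  have h1 : Inv R (M ⊓ LinearMap.ker a) := by
    intro x hx v hv
    refine ⟨hMi x hx v hv.1, ?_⟩
    have h2 : a * (x : V →ₗ[F] V) = (x : V →ₗ[F] V) * a := alg_comm (R := (R : Set (V ≃ₗ[F] V))) hc ha (mem_alg hx)
    have h3 := LinearMap.congr_fun h2 v
    change a (x v) = x (a v) at h3
    change a (x v) = 0
    have h4 : a v = 0 := hv.2
    rw [h3, h4, map_zero]
  rcases hirr _ inf_le_left h1 with h2 | h2
  · exfalso
    have h3 : w ∈ M ⊓ LinearMap.ker a := ⟨hw, h⟩
    rw [h2] at h3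
    exact hw0 h3
  · intro m hm
    rw [← h2] at hm
    exact hm.2

include hMi hirr in
theorem alg_surj {w : V} (hw : w ∈ M) (hw0 : w ≠ 0) {m : V} (hm : m ∈ M) :
    ∃ a ∈ Alg (R : Set (V ≃ₗ[F] V)), a w = m := by
  apply cyc_le_range
  rcases hirr _ (cyc_le hMi hw) (inv_cyc w) with h1 | h1
  · exfalso
    have h2 := self_mem_cyc (R := R) w
    rw [h1] at h2
    exact hw0 h2
  · rw [h1]
    exact hm

include hc hMi hirr in
/-- the field `F[R] | M` -/
theorem exists_field [Finite F] [FiniteDimensional F V] (hM : M ≠ ⊥) :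
    ∃ (K : Type v) (_ : Field K) (_ : Fintype K) (φ : Alg (R : Set (V ≃ₗ[F] V)) →+* K),
      Function.Surjective φ ∧ Nat.card K = Nat.card F ^ finrank F M ∧
      ∀ a, φ a = 0 → ∀ m ∈ M, (a : Module.End F V) m = 0 := by
  classical
  obtain ⟨w, hw, hw0⟩ := M.ne_bot_iff.1 hM
  haveI : Finite V := Module.finite_of_finite F
  haveI : Finite (Module.End F V) := DFunLike.finite _
  have hcomm : ∀ a b : Alg (R : Set (V ≃ₗ[F] V)), a * b = b * a := fun a b =>
    Subtype.ext (alg_comm (R := (R : Set (V ≃ₗ[F] V))) hc a.2 b.2)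
  letI iC : CommRing (Alg (R : Set (V ≃ₗ[F] V))) := { (inferInstance : Ring (Alg (R : Set (V ≃ₗ[F] V)))) with
    mul_comm := hcomm }
  let I : Ideal (Alg (R : Set (V ≃ₗ[F] V))) :=
    { carrier := {a | ∀ m ∈ M, (a : Module.End F V) m = 0}
      zero_mem' := fun m _ => rfl
      add_mem' := by
        intro a b ha hb m hm
        change (a : Module.End F V) m + (b : Module.End F V) m = 0
        rw [ha m hm, hb m hm, add_zero]
      smul_mem' := by
        intro a b hb m hm
        change (a : Module.End F V) ((b : Module.End F V) m) = 0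
        rw [hb m hm, map_zero] }
  have hI : ∀ a, a ∈ I ↔ (a : Module.End F V) w = 0 := by
    intro a
    exact ⟨fun h => h w hw, fun h => alg_inj hc hMi hirr a.2 hw hw0 h⟩
  haveI : I.IsPrime := by
    refine ⟨?_, ?_⟩
    · rw [Ideal.ne_top_iff_one]
      intro h
      exact hw0 (h w hw)
    · intro a b h
      by_cases hb : b ∈ I
      · exact Or.inr hb
      · left
        have h1 : (a : Module.End F V) ((b : Module.End F V) w) = 0 := h w hw
        intro m hm
        exact alg_inj hc hMi hirr a.2 (alg_apply_mem hMi b.2 hw) (fun h0 => hb ((hI b).2 h0)) h1 m hm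
  haveI : Finite (Alg (R : Set (V ≃ₗ[F] V)) ⧸ I) := Finite.of_surjective _ Ideal.Quotient.mk_surjective
  letI : Fintype (Alg (R : Set (V ≃ₗ[F] V)) ⧸ I) := Fintype.ofFinite _
  letI : Field (Alg (R : Set (V ≃ₗ[F] V)) ⧸ I) := Fintype.fieldOfDomain _
  refine ⟨Alg (R : Set (V ≃ₗ[F] V)) ⧸ I, inferInstance, inferInstance, Ideal.Quotient.mk I,
    Ideal.Quotient.mk_surjective, ?_, ?_⟩
  · have h1 : Nat.card (Alg (R : Set (V ≃ₗ[F] V)) ⧸ I) = Nat.card M := by
      let f : Alg (R : Set (V ≃ₗ[F] V)) → M := fun a => ⟨(a : Module.End F V) w, alg_apply_mem hMi a.2 hw⟩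
      have hf : ∀ a b, f a = f b ↔ Ideal.Quotient.mk I a = Ideal.Quotient.mk I b := by
        intro a b
        rw [Ideal.Quotient.eq, hI, Subtype.ext_iff]
        change (a : Module.End F V) w = (b : Module.End F V) w ↔ (a : Module.End F V) w - (b : Module.End F V) w = 0
        rw [sub_eq_zero]
      refine Nat.card_eq_of_bijective (fun x => f (Quotient.out x)) ⟨?_, ?_⟩
      · intro x y hxy
        have h2 := (hf _ _).1 hxy
        change Ideal.Quotient.mk I (Quotient.out x) = Ideal.Quotient.mk I (Quotient.out y) at h2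
        have h3 : ∀ z : Alg (R : Set (V ≃ₗ[F] V)) ⧸ I, Ideal.Quotient.mk I (Quotient.out z) = z :=
          fun z => Quotient.out_eq z
        rwa [h3, h3] at h2
      · intro m
        obtain ⟨a, ha, hm⟩ := alg_surj hMi hirr hw hw0 m.2
        refine ⟨Ideal.Quotient.mk I ⟨a, ha⟩, ?_⟩
        have h3 : Ideal.Quotient.mk I (Quotient.out (Ideal.Quotient.mk I (⟨a, ha⟩ : Alg (R : Set (V ≃ₗ[F] V))))) =
            Ideal.Quotient.mk I ⟨a, ha⟩ := Quotient.out_eq _
        change f _ = m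
        rw [(hf _ _).2 h3]
        exact Subtype.ext hm
    rw [h1, Module.natCard_eq_pow_finrank (K := F)]
  · intro a ha m hm
    rw [Ideal.Quotient.eq_zero_iff_mem] at ha
    exact ha m hm

end

/-- the adjoint of `a ∈ F[R]` is `a ^ N` -/
theorem adj_pow [Finite F] [Nontrivial V] (hR : R ≤ O Q) (hc : ∀ x ∈ R, ∀ y ∈ R, x * y = y * x) {k : ℕ}
    (hx : ∀ x ∈ R, x ^ (Nat.card F ^ k) = x⁻¹) {a : Module.End F V} (ha : a ∈ Alg (R : Set (V ≃ₗ[F] V))) :
    ∀ v w, polar Q (a v) w = polar Q v ((a ^ (Nat.card F ^ k)) w) := by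
  induction ha using Algebra.adjoin_induction with
  | mem s hs =>
    obtain ⟨x, hx1, rfl⟩ := hs
    intro v w
    rw [coe_pow, hx x hx1]
    exact polar_inv hR hx1 v w
  | algebraMap c =>
    intro v w
    rw [pow_card_alg]
    change polar Q (c • v) w = polar Q v (c • w)
    rw [polar_smul_left, polar_smul_right]
  | add s t hs' ht' hs ht =>
    intro v w
    rw [add_pow_card k (alg_comm (R := (R : Set (V ≃ₗ[F] V))) hc hs' ht')]
    change polar Q (s v + t v) w = polar Q v ((s ^ (Nat.card F ^ k)) w + (t ^ (Nat.card F ^ k)) w)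
    rw [polar_add_left, polar_add_right, hs, ht]
  | mul s t hs' ht' hs ht =>
    intro v w
    have h1 : Commute s t := alg_comm (R := (R : Set (V ≃ₗ[F] V))) hc hs' ht'
    rw [h1.mul_pow, (h1.pow_pow _ _).eq]
    change polar Q (s (t v)) w = polar Q v ((t ^ (Nat.card F ^ k)) ((s ^ (Nat.card F ^ k)) w))
    rw [hs, ht]

theorem pow_fix [Finite F] [Nontrivial V] (hc : ∀ x ∈ R, ∀ y ∈ R, x * y = y * x) {k : ℕ}
    (hx : ∀ x ∈ R, x ^ (Nat.card F ^ k) = x) {a : Module.End F V} (ha : a ∈ Alg (R : Set (V ≃ₗ[F] V))) :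
    a ^ (Nat.card F ^ k) = a := by
  induction ha using Algebra.adjoin_induction with
  | mem s hs =>
    obtain ⟨x, hx1, rfl⟩ := hs
    rw [coe_pow, hx x hx1]
  | algebraMap c => exact pow_card_alg k c
  | add s t hs' ht' hs ht =>
    rw [add_pow_card k (alg_comm (R := (R : Set (V ≃ₗ[F] V))) hc hs' ht'), hs, ht]
  | mul s t hs' ht' hs ht =>
    have h1 : Commute s t := alg_comm (R := (R : Set (V ≃ₗ[F] V))) hc hs' ht'
    rw [h1.mul_pow, hs, ht]

/-- **No swap in even dimension.** -/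
theorem no_swap [Finite F] [FiniteDimensional F V] (hQ : Nondeg Q) (hR : R ≤ O Q)
    (hc : ∀ x ∈ R, ∀ y ∈ R, x * y = y * x) {r : ℕ} (hr : r.Prime) (hpow : ∀ x ∈ R, x ^ r = 1)
    {M : Submodule F V} (hM : M ≠ ⊥) (hMi : Inv R M)
    (hirr : ∀ W ≤ M, Inv R W → W = ⊥ ∨ W = M) (hM0 : M ⊓ Fx R = ⊥) (hMM : M ≤ perp Q M) (hev : Even (finrank F M))
    (hn : finrank F V = 2 * finrank F M) (u : V) (hu : cyc R u = ⊤) : False := by
  classical
  obtain ⟨w, hw, hw0⟩ := M.ne_bot_iff.1 hM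
  haveI : Nontrivial V := ⟨⟨w, 0, hw0⟩⟩
  obtain ⟨k, hk⟩ := hev
  have hd0 : 0 < finrank F M := by
    rw [Nat.pos_iff_ne_zero]
    intro h
    exact hM (Submodule.finrank_eq_zero.1 h)
  have hk0 : k ≠ 0 := by omega
  obtain ⟨K, iK, iF, φ, hφ, hcard, hker⟩ := exists_field hc hMi hirr hM
  set q := Nat.card F with hq
  have hq2 : 2 ≤ q := Finite.one_lt_card
  have hcK : Fintype.card K = q ^ (k + k) := by rw [← Nat.card_eq_fintype_card, hcard, hk]
  -- an element of `R` moving `M`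
  obtain ⟨x0, hx0, hx1⟩ : ∃ x ∈ R, x w ≠ w := by
    by_contra hcon
    push Not at hcon
    have h1 : w ∈ M ⊓ Fx R := ⟨hw, fun x hx => hcon x hx⟩
    rw [hM0] at h1
    exact hw0 h1
  have hdvd : r ∣ q ^ (k + k) - 1 := by
    set z : K := φ ⟨_, mem_alg hx0⟩ with hz
    have hz1 : z ^ r = 1 := by
      rw [hz, ← map_pow, ← map_one φ]
      congr 1
      apply Subtype.ext
      change ((x0 : V →ₗ[F] V) : Module.End F V) ^ r = 1
      rw [coe_pow, hpow x0 hx0]
      rfl
    have hz2 : z ≠ 1 := by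
      intro h
      have h1 : φ (⟨_, mem_alg hx0⟩ - 1) = 0 := by rw [map_sub, map_one, sub_eq_zero]; exact h
      have h2 := hker _ h1 w hw
      change x0 w - w = 0 at h2
      exact hx1 (sub_eq_zero.1 h2)
    have hz0 : z ≠ 0 := by
      intro h
      rw [h, zero_pow hr.ne_zero] at hz1
      exact zero_ne_one hz1
    have h3 : z ^ (q ^ (k + k) - 1) = 1 := by
      rw [← hcK]
      exact FiniteField.pow_card_sub_one_eq_one z hz0
    have h4 := orderOf_dvd_of_pow_eq_one hz1
    rcases (Nat.dvd_prime hr).1 h4 with h5 | h5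
    · exact absurd (orderOf_eq_one_iff.1 h5) hz2
    · rw [← h5]
      exact orderOf_dvd_of_pow_eq_one h3
  have hfac : q ^ (k + k) - 1 = (q ^ k + 1) * (q ^ k - 1) := by
    rw [pow_add, ← Nat.sq_sub_sq, one_pow, pow_two]
  have hqk : 2 ≤ q ^ k := hq2.trans (Nat.le_self_pow hk0 q)
  rw [hfac, hr.dvd_mul] at hdvd
  rcases hdvd with hdvd | hdvd
  · -- `x ^ (q ^ k) = x⁻¹`
    have hxi : ∀ x ∈ R, x ^ (q ^ k) = x⁻¹ := by
      intro x hx
      apply eq_inv_of_mul_eq_one_left
      rw [← pow_succ]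
      obtain ⟨c, hc'⟩ := hdvd
      rw [hc', pow_mul, hpow x hx, one_pow]
    have hadj := fun a ha => adj_pow hR hc hxi (a := a) ha
    -- `perp M = M`
    have hperp : perp Q M = M := by
      have h1 := LinearMap.BilinForm.finrank_add_finrank_orthogonal' (B := polarBilin Q) M
      have h2 : LinearMap.ker (polarBilin Q) = ⊥ := by
        rw [LinearMap.ker_eq_bot']
        intro v hv
        apply hQ
        intro y
        exact LinearMap.congr_fun hv y
      rw [h2, inf_bot_eq, finrank_bot, add_zero] at h1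
      have h3 : perp Q M ≤ LinearMap.BilinForm.orthogonal (polarBilin Q) M := by
        intro v hv m hm
        change polar Q m v = 0
        rw [polar_comm]
        exact hv m hm
      have h4 := Submodule.finrank_mono h3
      exact (Submodule.eq_of_le_of_finrank_le hMM (by omega)).symm
    have hzero : ∀ a ∈ Alg (R : Set (V ≃ₗ[F] V)), (∀ m ∈ M, a m = 0) → a = 0 := by
      intro a ha h
      have h1 : ∀ j, j ≠ 0 → ∀ m ∈ M, (a ^ j) m = 0 := by
        intro j hj m hm
        obtain ⟨i, rfl⟩ := Nat.exists_eq_succ_of_ne_zero hj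
        rw [pow_succ]
        change (a ^ i) (a m) = 0
        rw [h m hm, map_zero]
      have h2 : ∀ v, a v ∈ M := by
        intro v
        rw [← hperp]
        intro m hm
        rw [hadj a ha, h1 _ (by rw [← hq]; omega) m hm, polar_zero_right]
      have h3 : a * a = 0 := by
        ext v
        exact h _ (h2 v)
      have h4 : a ^ (q ^ k) = 0 := by
        obtain ⟨j, hj⟩ := Nat.exists_eq_add_of_le hqk
        rw [hj, pow_add, pow_two, h3, zero_mul]
      ext v
      apply hQ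
      intro y
      rw [hadj a ha, h4]
      exact polar_zero_right Q v
    -- dimensions
    let f : Alg (R : Set (V ≃ₗ[F] V)) →ₗ[F] M :=
      { toFun := fun a => ⟨(a : Module.End F V) w, alg_apply_mem hMi a.2 hw⟩
        map_add' := fun a b => rfl
        map_smul' := fun c a => rfl }
    let g : Alg (R : Set (V ≃ₗ[F] V)) →ₗ[F] V :=
      { toFun := fun a => (a : Module.End F V) u
        map_add' := fun a b => rfl
        map_smul' := fun c a => rfl }
    have hf : Function.Injective f := by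
      rw [injective_iff_map_eq_zero]
      intro a ha
      apply Subtype.ext
      apply hzero _ a.2
      apply alg_inj hc hMi hirr a.2 hw hw0
      exact congrArg Subtype.val ha
    have hg : Function.Surjective g := by
      intro v
      obtain ⟨a, ha, h⟩ := cyc_le_range (R := R) u (w := v) (by rw [hu]; trivial)
      exact ⟨⟨a, ha⟩, h⟩
    have h1 := LinearMap.finrank_le_finrank_of_injective hf
    have h2 : finrank F V ≤ finrank F (Alg (R : Set (V ≃ₗ[F] V))) := by
      rw [← LinearMap.finrank_range_add_finrank_ker g, LinearMap.range_eq_top.2 hg, finrank_top]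
      exact Nat.le_add_right _ _
    omega
  · -- `x ^ (q ^ k) = x`
    have hxi : ∀ x ∈ R, x ^ (q ^ k) = x := by
      intro x hx
      obtain ⟨c, hc'⟩ := hdvd
      have h1 : q ^ k = r * c + 1 := by omega
      rw [h1, pow_succ, pow_mul, hpow x hx, one_pow, one_mul]
    have h1 : ∀ z : K, z ^ (q ^ k) = z := by
      intro z
      obtain ⟨a, rfl⟩ := hφ z
      rw [← map_pow]
      congr 1
      exact Subtype.ext (pow_fix hc hxi a.2)
    have h2 := Polynomial.card_le_degree_of_subset_roots (R := K) (p := Polynomial.X ^ (q ^ k) - Polynomial.X)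
      (Z := Finset.univ) (fun z _ => by
        rw [Polynomial.mem_roots', Polynomial.IsRoot, Polynomial.eval_sub, Polynomial.eval_pow, Polynomial.eval_X,
          h1 z, sub_self]
        exact ⟨FiniteField.X_pow_card_sub_X_ne_zero K (by omega), rfl⟩)
    rw [FiniteField.X_pow_card_sub_X_natDegree_eq K (by omega), Finset.card_univ, hcK] at h2
    have h3 : q ^ k < q ^ (k + k) := Nat.pow_lt_pow_right (by omega) (by omega)
    omega

end Cfsg.Agent.H283.Fxo
end

-- part: H626/IFO/Four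
section
/-!
# S5719, `|A|` odd, orthogonal groups of dimension divisible by four (helper626)
-/

set_option autoImplicit false

namespace Cfsg.Agent.H626.IFO

open QuadraticMap Cfsg.Agent.LieClassical.OrthCore Cfsg.Agent.LieClassical.OrthTrans Module Cfsg.Agent.H382.Own5

variable {F V : Type*} [Field F] [AddCommGroup V] [Module F V] {Q : QuadraticForm F V}
  {R : Subgroup (V ≃ₗ[F] V)}

/-- `g` inverts `R` -/
def Anti (R : Subgroup (V ≃ₗ[F] V)) (g : V ≃ₗ[F] V) : Prop := ∀ x ∈ R, ∀ v, g (x v) = (x⁻¹ : V ≃ₗ[F] V) (g v)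

/-- `g` centralises `R` -/
def Cen (R : Subgroup (V ≃ₗ[F] V)) (g : V ≃ₗ[F] V) : Prop := ∀ x ∈ R, ∀ v, g (x v) = x (g v)

theorem Anti.mul_cen {g s : V ≃ₗ[F] V} (hg : Anti R g) (hs : Cen R s) : Anti R (g * s) := by
  intro x hx v
  change g (s (x v)) = (x⁻¹ : V ≃ₗ[F] V) (g (s v))
  rw [hs x hx, hg x hx]

theorem Cen.norm {g : V ≃ₗ[F] V} (hg : Cen R g) : ∀ x ∈ R, g * x * g⁻¹ ∈ R := by
  intro x hx
  have h1 : g * x * g⁻¹ = x := by
    apply LinearEquiv.ext
    intro v
    change g (x (g⁻¹ v)) = x v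
    rw [hg x hx]
    exact congrArg x (LinearEquiv.apply_symm_apply g v)
  rw [h1]
  exact hx

theorem EvN.of_anti (hodd : ∀ x ∈ R, ∀ v, x (x v) = v → x v = v) (hR1 : R ≠ ⊥) {y : V ≃ₗ[F] V} (hy : y ∈ E Q)
    (h : Anti R y) : EvN Q R := by
  refine ⟨y, hy, ?_, ?_⟩
  · intro x hx
    have h1 : y * x * y⁻¹ = x⁻¹ := by
      apply LinearEquiv.ext
      intro v
      change y (x (y⁻¹ v)) = (x⁻¹ : V ≃ₗ[F] V) v
      rw [h x hx]
      exact congrArg (x⁻¹ : V ≃ₗ[F] V) (LinearEquiv.apply_symm_apply y v)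
    rw [h1]
    exact inv_mem hx
  · rintro k ⟨j, rfl⟩ ⟨c, hcs⟩
    have heven : ∀ i : ℕ, ∀ x ∈ R, ∀ v, (y ^ (2 * i)) (x v) = x ((y ^ (2 * i)) v) := by
      intro i
      induction i with
      | zero => intro x _ v; rfl
      | succ i ih =>
        intro x hx v
        have e : y ^ (2 * (i + 1)) = y ^ (2 * i) * (y * y) := by rw [← pow_two, ← pow_add]; ring_nf
        rw [e]
        change (y ^ (2 * i)) (y (y (x v))) = x ((y ^ (2 * i)) (y (y v)))
        rw [h x hx, h _ (inv_mem hx), inv_inv, ih x hx]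
    apply hR1
    rw [Subgroup.eq_bot_iff_forall]
    intro x hx
    apply LinearEquiv.ext
    intro v
    apply hodd x hx
    have h1 : (y ^ (2 * j + 1)) (x v) = (x⁻¹ : V ≃ₗ[F] V) ((y ^ (2 * j + 1)) v) := by
      rw [pow_succ]
      change (y ^ (2 * j)) (y (x v)) = (x⁻¹ : V ≃ₗ[F] V) ((y ^ (2 * j)) (y v))
      rw [h x hx, heven j _ (inv_mem hx)]
    rw [hcs, hcs, map_smul] at h1
    by_cases hc0 : c = 0
    · have h2 : ∀ w : V, w = 0 := by
        intro w
        have h3 := hcs w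
        rw [hc0, zero_smul] at h3
        exact (LinearEquiv.map_eq_zero_iff _).1 h3
      rw [h2 v, map_zero, map_zero]
    · have h2 : x v = (x⁻¹ : V ≃ₗ[F] V) v := by
        have h3 := congrArg (fun w => c⁻¹ • w) h1
        simpa only [smul_smul, inv_mul_cancel₀ hc0, one_smul] using h3
      rw [h2]
      exact LinearEquiv.apply_symm_apply x v

theorem nd_Fx [Fintype R] (hQ : Nondeg Q) (hR : R ≤ O Q) (hcard : (Fintype.card R : F) ≠ 0) : ND Q (Fx R) := by
  intro v hv h
  apply hQ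
  intro y
  have h1 : polarBilin Q v (es R y) = polar Q v y := by
    rw [es_apply, map_smul, map_sum]
    have h2 : ∀ x : R, polarBilin Q v ((x : V ≃ₗ[F] V) y) = polar Q v y := by
      intro x
      rw [polarBilin_apply_apply, polar_comm, polar_inv hR x.2, hv _ (inv_mem x.2), polar_comm]
    rw [Finset.sum_congr rfl (fun x _ => h2 x), Finset.sum_const, Finset.card_univ, ← Nat.cast_smul_eq_nsmul F,
      smul_smul, inv_mul_cancel₀ hcard, one_smul]
  rw [← h1]
  exact h _ (es_mem_Fx y)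

theorem exists_nonsing_Fx {W : Submodule F V} (hW : ND Q W) (hne : W ≠ ⊥) : ∃ v ∈ W, Q v ≠ 0 := by
  by_contra hcon
  push Not at hcon
  apply hne
  rw [Submodule.eq_bot_iff]
  intro v hv
  apply hW v hv
  intro w hw
  have h1 := Q_add (Q := Q) v w
  rw [hcon v hv, hcon w hw, hcon _ (W.add_mem hv hw), zero_add, zero_add] at h1
  exact h1.symm

theorem cen_refl (hR : R ≤ O Q) {v : V} (hv : v ∈ Fx R) (hQv : Q v ≠ 0) : Cen R (refl Q v hQv) := by
  intro x hx w
  rw [refl_apply, refl_apply, map_sub, map_smul, hv x hx]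
  have h1 : polar Q v (x w) = polar Q v w := by rw [polar_comm, polar_inv hR hx, hv _ (inv_mem hx), polar_comm]
  rw [h1]

/-- minus one on `W`, one on the orthogonal space -/
theorem exists_neg [FiniteDimensional F V] (hQ : Nondeg Q) {W : Submodule F V} (hW : ND Q W) :
    ∃ z ∈ O Q, (∀ v ∈ W, z v = -v) ∧ ∀ v ∈ perp Q W, z v = v := by
  let p : (W ⊕ perp Q W) → V := Sum.elim (fun v => (v : V)) (fun v => (v : V))
  let p' : (W ⊕ perp Q W) → V := Sum.elim (fun v => -(v : V)) (fun v => (v : V))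
  have hsp : Submodule.span F (Set.range p) = ⊤ := by
    rw [eq_top_iff]
    intro v _
    obtain ⟨w, hw, z, hz, rfl⟩ := split hW v
    exact add_mem (Submodule.subset_span ⟨Sum.inl ⟨w, hw⟩, rfl⟩) (Submodule.subset_span ⟨Sum.inr ⟨z, hz⟩, rfl⟩)
  have hsp' : Submodule.span F (Set.range p') = ⊤ := by
    rw [eq_top_iff]
    intro v _
    obtain ⟨w, hw, z, hz, rfl⟩ := split hW v
    refine add_mem (Submodule.subset_span ⟨Sum.inl ⟨-w, neg_mem hw⟩, ?_⟩) (Submodule.subset_span ⟨Sum.inr ⟨z, hz⟩, rfl⟩)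
    exact neg_neg w
  obtain ⟨z, hz, hzp⟩ := exists_isom hQ p p' (by
      rintro (v | v)
      · exact (QuadraticMap.map_neg Q (v : V)).symm
      · rfl) (by
      rintro (v | v) (w | w)
      · change polar Q (v : V) (w : V) = polar Q (-(v : V)) (-(w : V))
        rw [polar_neg_left, polar_neg_right, neg_neg]
      · change polar Q (v : V) (w : V) = polar Q (-(v : V)) (w : V)
        rw [polar_neg_left, polar_comm, w.2 v v.2, neg_zero]
      · change polar Q (v : V) (w : V) = polar Q (v : V) (-(w : V))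
        rw [polar_neg_right, v.2 w w.2, neg_zero]
      · rfl) hsp hsp'
  exact ⟨z, hz, fun v hv => hzp (Sum.inl ⟨v, hv⟩), fun v hv => hzp (Sum.inr ⟨v, hv⟩)⟩

theorem det_neg [FiniteDimensional F V] (h2 : (2 : F) ≠ 0) {W : Submodule F V} (hW : ND Q W) {z : V ≃ₗ[F] V}
    (hz1 : ∀ v ∈ W, z v = -v) (hz2 : ∀ v ∈ perp Q W, z v = v) :
    LinearMap.det (z : V →ₗ[F] V) = (-1) ^ finrank F W := by
  have hzz : ∀ v, z (z v) = v := by
    intro v
    obtain ⟨w, hw, a, ha, rfl⟩ := split hW v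
    rw [map_add, map_add, hz1 w hw, map_neg, hz1 w hw, hz2 a ha, hz2 a ha, neg_neg]
  have hW' : eig (z : V →ₗ[F] V) (-1) = W := by
    ext v
    rw [mem_eig, neg_smul, one_smul]
    constructor
    · intro hv
      obtain ⟨w, hw, a, ha, rfl⟩ := split hW v
      have h3 : -w + a = -w - a := by
        have h4 : z (w + a) = -(w + a) := hv
        rw [map_add, hz1 w hw, hz2 a ha] at h4
        rw [h4]; abel
      have h5 : (2 : F) • a = 0 := by
        rw [two_smul]
        have h6 : a + a = (-w + a) - (-w - a) := by abel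
        rw [h6, h3, sub_self]
      rw [(smul_eq_zero.1 h5).resolve_left h2, add_zero]
      exact hw
    · intro hv
      exact hz1 v hv
  rw [det_invol h2 (s := (z : V →ₗ[F] V)) hzz, hW']

theorem cen_neg [FiniteDimensional F V] (hR : R ≤ O Q) {W : Submodule F V} (hW : ND Q W) (hWi : Inv R W)
    {z : V ≃ₗ[F] V} (hz1 : ∀ v ∈ W, z v = -v) (hz2 : ∀ v ∈ perp Q W, z v = v) : Cen R z := by
  intro x hx v
  obtain ⟨w, hw, a, ha, rfl⟩ := split hW v
  rw [map_add, map_add, map_add, map_add, hz1 w hw, hz1 _ (hWi x hx w hw), hz2 a ha,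
    hz2 _ (inv_perp hR hWi x hx a ha), map_neg]

theorem EvN.of_neg [FiniteDimensional F V] (hR : R ≤ O Q) (h2 : (2 : F) ≠ 0) {W : Submodule F V} (hW : ND Q W)
    (hWi : Inv R W) (hW1 : W ≠ ⊥) (hW2 : perp Q W ≠ ⊥) {z : V ≃ₗ[F] V} (hz1 : ∀ v ∈ W, z v = -v)
    (hz2 : ∀ v ∈ perp Q W, z v = v) (hz : z ∈ E Q) : EvN Q R := by
  refine EvN.of_inv hz (Cen.norm (cen_neg hR hW hWi hz1 hz2)) ?_ ?_
  · apply LinearEquiv.ext
    intro v
    change z (z v) = v
    obtain ⟨w, hw, a, ha, rfl⟩ := split hW v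
    rw [map_add, map_add, hz1 w hw, map_neg, hz1 w hw, hz2 a ha, hz2 a ha, neg_neg]
  · rintro ⟨c, hcs⟩
    obtain ⟨w, hw, hw0⟩ := Submodule.exists_mem_ne_zero_of_ne_bot hW1
    obtain ⟨a, ha, ha0⟩ := Submodule.exists_mem_ne_zero_of_ne_bot hW2
    have h3 : c = 1 := by
      have h4 := hcs a
      rw [hz2 a ha] at h4
      have h5 : (c - 1) • a = 0 := by rw [sub_smul, one_smul, ← h4, sub_self]
      exact sub_eq_zero.1 ((smul_eq_zero.1 h5).resolve_right ha0)
    have h4 := hcs w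
    rw [hz1 w hw, h3, one_smul] at h4
    have h5 : (2 : F) • w = 0 := by
      rw [two_smul]
      nth_rewrite 1 [← h4]
      rw [neg_add_cancel]
    exact hw0 ((smul_eq_zero.1 h5).resolve_left h2)

theorem EvN.of_refl (hQ : Nondeg Q) (hR : R ≤ O Q) (hp : perp Q (Fx R) ≠ ⊥) {v : V} (hv : v ∈ Fx R)
    (hQv : Q v ≠ 0) (hs : refl Q v hQv ∈ E Q) : EvN Q R := by
  refine EvN.of_inv hs (Cen.norm (cen_refl hR hv hQv)) (refl_mul_self hQv) ?_
  rintro ⟨c, hcs⟩
  obtain ⟨w, hw, hw0⟩ := Submodule.exists_mem_ne_zero_of_ne_bot hp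
  have h1 : c = 1 := by
    have h4 := hcs w
    rw [refl_apply, polar_comm, hw v hv, mul_zero, zero_smul, sub_zero] at h4
    have h5 : (c - 1) • w = 0 := by rw [sub_smul, one_smul, ← h4, sub_self]
    exact sub_eq_zero.1 ((smul_eq_zero.1 h5).resolve_right hw0)
  apply hQv
  have hv0 : v = 0 := by
    by_contra hv0
    obtain ⟨y, hy⟩ := hQ.exists_polar_ne hv0
    have h4 := hcs y
    rw [refl_apply, h1, one_smul, sub_eq_self, smul_eq_zero] at h4
    rcases h4 with h4 | h4
    · exact (mul_ne_zero (inv_ne_zero hQv) hy) h4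
    · exact hv0 h4
  rw [hv0, QuadraticMap.map_zero]

/-- the data attached to `R` -/
structure Dat (Q : QuadraticForm F V) (R : Subgroup (V ≃ₗ[F] V)) : Prop where
  good : Good Q
  le : R ≤ O Q
  comm : ∀ x ∈ R, ∀ y ∈ R, x * y = y * x
  card : (Nat.card R : F) ≠ 0
  odd : ∀ x ∈ R, ∀ v, x (x v) = v → x v = v
  ne : R ≠ ⊥

section Dat

variable [FiniteDimensional F V] [Finite R]

theorem Dat.nd_Fx (h : Dat Q R) : ND Q (Fx R) := by
  have : Fintype R := Fintype.ofFinite R
  exact IFO.nd_Fx h.good.nondeg h.le (by rw [← Nat.card_eq_fintype_card]; exact h.card)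

theorem Dat.perp_ne (h : Dat Q R) : perp Q (Fx R) ≠ ⊥ := by
  intro h0
  apply h.ne
  rw [Subgroup.eq_bot_iff_forall]
  intro x hx
  apply LinearEquiv.ext
  intro v
  obtain ⟨w, hw, z, hz, rfl⟩ := split h.nd_Fx v
  rw [h0, Submodule.mem_bot] at hz
  rw [hz, add_zero]
  exact hw x hx

theorem Dat.inf_eq (h : Dat Q R) : perp Q (Fx R) ⊓ Fx R = ⊥ := by
  rw [eq_bot_iff]
  rintro v ⟨hv1, hv2⟩
  exact h.nd_Fx v hv2 hv1

theorem Dat.inv (h : Dat Q R) {W : Submodule F V} (hW : ND Q W) (hWi : Inv R W) (hW0 : W ⊓ Fx R = ⊥) :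
    ∃ g ∈ O Q, (∀ v, g (g v) = v) ∧ (∀ v ∈ perp Q W, g v = v) ∧ (∀ v ∈ W, g v ∈ W) ∧
      ∀ x ∈ R, ∀ v ∈ W, g (x v) = (x⁻¹ : V ≃ₗ[F] V) (g v) := by
  have : Fintype R := Fintype.ofFinite R
  exact exists_inv h.good.nondeg h.le h.comm (by rw [← Nat.card_eq_fintype_card]; exact h.card) h.odd hW hWi hW0

theorem Dat.even (h : Dat Q R) (h2 : (2 : F) ≠ 0) {W : Submodule F V} (hW : ND Q W) (hWi : Inv R W)
    (hW0 : W ⊓ Fx R = ⊥) : Even (finrank F W) := by
  obtain ⟨g, -, hg2, hgp, hgW, hgx⟩ := h.inv hW hWi hW0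
  rw [finrank_eq h2 h.comm h.card h.odd hW hWi hW0 (g := (g : V →ₗ[F] V)) hg2 hgp hgW hgx]
  exact even_two_mul _

/-- the global inverting isometry -/
theorem Dat.anti (h : Dat Q R) : ∃ g ∈ O Q, (∀ v, g (g v) = v) ∧ (∀ v ∈ Fx R, g v = v) ∧ Anti R g := by
  obtain ⟨g, hg, hg2, hgp, hgW, hgx⟩ := h.inv (nd_perp h.good.nondeg h.nd_Fx)
    (inv_perp h.le (inv_Fx h.comm le_rfl)) h.inf_eq
  have hF : ∀ v ∈ Fx R, g v = v := fun v hv => hgp v (perp_perp_le hv)
  refine ⟨g, hg, hg2, hF, ?_⟩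
  intro x hx v
  obtain ⟨w, hw, z, hz, rfl⟩ := split h.nd_Fx v
  rw [map_add, map_add, map_add, map_add, hgx x hx z hz, hw x hx, hF w hw, hw _ (inv_mem hx)]

/-- an inverting isometry of determinant one -/
theorem Dat.anti_det (h : Dat Q R) (h2 : (2 : F) ≠ 0) (h4 : 4 ∣ finrank F V) :
    ∃ g ∈ O Q, LinearMap.det (g : V →ₗ[F] V) = 1 ∧ Anti R g := by
  obtain ⟨g, hg, hg2, hgF, hga⟩ := h.anti
  by_cases h0 : Fx R = ⊥
  · refine ⟨g, hg, ?_, hga⟩
    have hT : ND Q (⊤ : Submodule F V) := fun w _ hw => h.good.nondeg w (fun y => hw y trivial)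
    have hfr := finrank_eq (W := (⊤ : Submodule F V)) h2 h.comm h.card h.odd hT (fun _ _ _ _ => trivial)
      (by rw [h0, inf_bot_eq]) (g := (g : V →ₗ[F] V)) hg2
      (fun v hv => by
        have h5 : v = 0 := h.good.nondeg v (fun y => hv y trivial)
        rw [h5, map_zero])
      (fun _ _ => trivial) (fun x hx v _ => hga x hx v)
    rw [finrank_top] at hfr
    rw [det_invol h2 (s := (g : V →ₗ[F] V)) hg2]
    apply Even.neg_one_pow
    rw [even_iff_two_dvd]
    obtain ⟨k, hk⟩ := h4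
    exact ⟨k, by omega⟩
  · obtain ⟨v, hv, hQv⟩ := exists_nonsing_Fx h.nd_Fx h0
    have hd := det_invol h2 (s := (g : V →ₗ[F] V)) hg2
    rcases Nat.even_or_odd (finrank F (eig (g : V →ₗ[F] V) (-1))) with he | he
    · exact ⟨g, hg, by rw [hd, he.neg_one_pow], hga⟩
    · refine ⟨g * refl Q v hQv, (O Q).mul_mem hg (refl_mem_O hQv), ?_, hga.mul_cen (cen_refl h.le hv hQv)⟩
      have h5 : ((g * refl Q v hQv : V ≃ₗ[F] V) : V →ₗ[F] V) =
          (g : V →ₗ[F] V) ∘ₗ ((refl Q v hQv : V ≃ₗ[F] V) : V →ₗ[F] V) := rfl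
      rw [h5, LinearMap.det_comp, hd, he.neg_one_pow, H353.IFO.det_refl hQv]
      ring

/-- characteristic `≠ 2`, a decomposition -/
theorem Dat.evN_of_dec [Finite F] (h : Dat Q R) (h2 : (2 : F) ≠ 0) (h4 : 4 ∣ finrank F V) {W : Submodule F V} (hW : ND Q W)
    (hWi : Inv R W) (hW0 : W ⊓ Fx R = ⊥) (hW1 : W ≠ ⊥) (hW2 : perp Q W ≠ ⊥) : EvN Q R := by
  obtain ⟨g, hg, hgd, hga⟩ := h.anti_det h2 h4
  by_cases hgE : g ∈ E Q
  · exact EvN.of_anti h.odd h.ne hgE hga
  obtain ⟨z, hz, hz1, hz2⟩ := exists_neg h.good.nondeg hW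
  by_cases hzE : z ∈ E Q
  · exact EvN.of_neg h.le h2 hW hWi hW1 hW2 hz1 hz2 hzE
  have hzd : LinearMap.det (z : V →ₗ[F] V) = 1 := by
    rw [det_neg h2 hW hz1 hz2, (h.even h2 hW hWi hW0).neg_one_pow]
  exact EvN.of_anti h.odd h.ne (H353.IFO.mul_mem_det h2 h.good hg hz hgd hzd hgE hzE)
    (hga.mul_cen (cen_neg h.le hW hWi hz1 hz2))

theorem Dat.evN_two [Finite F] (h : Dat Q R) (h2 : (2 : F) = 0) (h4 : 4 ∣ finrank F V) : EvN Q R := by
  obtain ⟨g, hg, hg2, hgF, hga⟩ := h.anti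
  by_cases hgE : g ∈ E Q
  · exact EvN.of_anti h.odd h.ne hgE hga
  by_cases h0 : Fx R = ⊥
  · exfalso
    apply hgE
    apply H353.IFO.mem_of_even h2 h.good hg
    have : Fintype R := Fintype.ofFinite R
    have h5 := finrank_range h2 h.odd h0 (g := (g : V →ₗ[F] V)) hg2 hga
    rw [even_iff_two_dvd]
    obtain ⟨k, hk⟩ := h4
    exact ⟨k, by omega⟩
  · obtain ⟨v, hv, hQv⟩ := exists_nonsing_Fx h.nd_Fx h0
    by_cases hs : refl Q v hQv ∈ E Q
    · exact EvN.of_refl h.good.nondeg h.le h.perp_ne hv hQv hs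
    · exact EvN.of_anti h.odd h.ne (H353.IFO.mul_mem_two h2 h.good hg (refl_mem_O hQv) hgE hs)
        (hga.mul_cen (cen_refl h.le hv hQv))

/-- characteristic `≠ 2`: fixed vectors -/
theorem Dat.evN_fix [Finite F] (h : Dat Q R) (h2 : (2 : F) ≠ 0) (h4 : 4 ∣ finrank F V) (h0 : Fx R ≠ ⊥) : EvN Q R := by
  refine h.evN_of_dec h2 h4 (nd_perp h.good.nondeg h.nd_Fx) (inv_perp h.le (inv_Fx h.comm le_rfl)) h.inf_eq
    h.perp_ne ?_
  intro h1
  apply h0
  rw [eq_bot_iff, ← h1]
  exact perp_perp_le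

theorem finrank_perp (hQ : Nondeg Q) (W : Submodule F V) : finrank F (perp Q W) = finrank F V - finrank F W := by
  have h1 : perp Q W = LinearMap.BilinForm.orthogonal (polarBilin Q) W := by
    ext v
    rw [mem_perp, LinearMap.BilinForm.mem_orthogonal_iff]
    constructor
    · intro h w hw
      change polar Q w v = 0
      rw [polar_comm]
      exact h w hw
    · intro h w hw
      rw [polar_comm]
      exact h w hw
  rw [h1]
  apply LinearMap.BilinForm.finrank_orthogonal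
  refine ⟨fun x hx => hQ x hx, fun x hx => hQ x (fun y => ?_)⟩
  rw [polar_comm]
  exact hx y

theorem perp_perp (hQ : Nondeg Q) (W : Submodule F V) : perp Q (perp Q W) = W := by
  symm
  apply Submodule.eq_of_le_of_finrank_le perp_perp_le
  rw [finrank_perp hQ, finrank_perp hQ]
  have := Submodule.finrank_le W
  omega

omit [FiniteDimensional F V] [Finite R] in
theorem comm_adjoin (hc : ∀ x ∈ R, ∀ y ∈ R, x * y = y * x) {a : Module.End F V}
    (ha : a ∈ Algebra.adjoin F {a : Module.End F V | ∃ x ∈ R, a = (x : V →ₗ[F] V)}) :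
    ∀ x ∈ R, ∀ v, a (x v) = x (a v) := by
  induction ha using Algebra.adjoin_induction with
  | mem a ha =>
    obtain ⟨y, hy, rfl⟩ := ha
    intro x hx v
    change y (x v) = x (y v)
    rw [← LinearEquiv.mul_apply, hc y hy x hx]
    rfl
  | algebraMap c =>
    intro x hx v
    rw [Module.algebraMap_end_apply, Module.algebraMap_end_apply, map_smul]
  | add a b _ _ ha hb =>
    intro x hx v
    rw [LinearMap.add_apply, LinearMap.add_apply, map_add, ha x hx, hb x hx]
  | mul a b _ _ ha hb =>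
    intro x hx v
    rw [Module.End.mul_apply, Module.End.mul_apply, hb x hx, ha x hx]

/-- `V` indecomposable -/
theorem Dat.evN_ind [Finite F] (h : Dat Q R) (h2 : (2 : F) ≠ 0) (h4 : 4 ∣ finrank F V) {r : ℕ} (hr : r.Prime)
    (hr2 : r ≠ 2) (hrF : (r : F) ≠ 0) (hpow : ∀ x ∈ R, x ^ r = 1) (h0 : Fx R = ⊥)
    (hind : ∀ W : Submodule F V, ND Q W → Inv R W → W = ⊥ ∨ perp Q W = ⊥) : EvN Q R := by
  have hRf : Fintype R := Fintype.ofFinite R
  have hcard : (Fintype.card R : F) ≠ 0 := by rw [← Nat.card_eq_fintype_card]; exact h.card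
  have hQ := h.good.nondeg
  have hdim := h.good.dim
  have hT : ND Q (⊤ : Submodule F V) := fun w _ hw => hQ w (fun y => hw y trivial)
  have hTop : ∀ W : Submodule F V, ND Q W → perp Q W = ⊥ → W = ⊤ := by
    intro W hW hp
    rw [eq_top_iff]
    intro v _
    obtain ⟨w, hw, z, hz, rfl⟩ := split hW v
    rw [hp, Submodule.mem_bot] at hz
    rw [hz, add_zero]
    exact hw
  -- a cyclic vector
  obtain ⟨u, hu⟩ : ∃ u, cyc R u = ⊤ := by
    obtain ⟨S, hS⟩ := exists_fam (U := (⊤ : Submodule F V)) h.le hcard h.odd _ le_rfl hT (fun _ _ _ _ => trivial)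
      (by rw [h0, inf_bot_eq])
    have hSne : S.Nonempty := by
      by_contra hcon
      rw [Set.not_nonempty_iff_eq_empty] at hcon
      have h5 := hS.span
      have h6 : {w | ∃ u ∈ S, ∃ x ∈ R, w = x u} = (∅ : Set V) := by
        rw [Set.eq_empty_iff_forall_notMem]
        rintro _ ⟨v, hv, -⟩
        rw [hcon] at hv
        exact hv
      rw [h6, Submodule.span_empty, top_le_iff] at h5
      have h7 : finrank F (⊤ : Submodule F V) = 0 := by rw [← h5, finrank_bot]
      rw [finrank_top] at h7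
      omega
    obtain ⟨u, hu⟩ := hSne
    refine ⟨u, ?_⟩
    rcases hind _ (hS.nd u hu) (inv_cyc u) with h5 | h5
    · exfalso
      apply hS.ne u hu
      have h6 := self_mem_cyc (R := R) u
      rw [h5] at h6
      exact h6
    · exact hTop _ (hS.nd u hu) h5
  -- a minimal invariant subspace
  obtain ⟨M, ⟨hMi, hM⟩, hmin⟩ : ∃ M : Submodule F V, (Inv R M ∧ M ≠ ⊥) ∧
      ∀ W : Submodule F V, (Inv R W ∧ W ≠ ⊥) → finrank F M ≤ finrank F W := by
    have hex : ∃ n, ∃ M : Submodule F V, (Inv R M ∧ M ≠ ⊥) ∧ finrank F M = n := by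
      refine ⟨_, ⊤, ⟨fun _ _ _ _ => trivial, ?_⟩, rfl⟩
      intro h5
      have h7 : finrank F (⊤ : Submodule F V) = 0 := by rw [h5, finrank_bot]
      rw [finrank_top] at h7
      omega
    classical
    obtain ⟨M, hM, hMn⟩ := Nat.find_spec hex
    exact ⟨M, hM, fun W hW => by rw [hMn]; exact Nat.find_min' hex ⟨W, hW, rfl⟩⟩
  have hirr : ∀ W ≤ M, Inv R W → W = ⊥ ∨ W = M := by
    intro W hWM hW
    by_cases hW0 : W = ⊥
    · exact Or.inl hW0
    · exact Or.inr (Submodule.eq_of_le_of_finrank_le hWM (hmin W ⟨hW, hW0⟩))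
  rcases hirr (M ⊓ perp Q M) inf_le_left (inv_inf hMi (inv_perp h.le hMi)) with hD | hD
  · -- irreducible
    have hMnd : ND Q M := by
      intro w hw h5
      have h6 : w ∈ M ⊓ perp Q M := ⟨hw, h5⟩
      rw [hD] at h6
      exact h6
    have hMT : M = ⊤ := hTop M hMnd ((hind M hMnd hMi).resolve_left hM)
    refine H442.IFO.evN_field h.good h2 h4 h.le h.comm hr hr2 hrF hpow h.ne ?_ u ?_
    · intro a ha ha0
      have hac := comm_adjoin h.comm ha
      have hki : Inv R (LinearMap.ker a) := by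
        intro x hx v hv
        rw [LinearMap.mem_ker] at hv ⊢
        rw [hac x hx, hv, map_zero]
      rcases hirr (LinearMap.ker a) (by rw [hMT]; exact le_top) hki with h5 | h5
      · exact LinearMap.ker_eq_bot.1 h5
      · exfalso
        apply ha0
        apply LinearMap.ext
        intro v
        have h6 : v ∈ LinearMap.ker a := by rw [h5, hMT]; trivial
        exact h6
    · intro v
      have hv : v ∈ cyc R u := by rw [hu]; trivial
      induction hv using Submodule.span_induction with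
      | mem w hw =>
        obtain ⟨x, hx, rfl⟩ := hw
        exact ⟨(x : V →ₗ[F] V), Algebra.subset_adjoin ⟨x, hx, rfl⟩, rfl⟩
      | zero => exact ⟨0, Subalgebra.zero_mem _, rfl⟩
      | add v w _ _ hv hw =>
        obtain ⟨a, ha, rfl⟩ := hv
        obtain ⟨b, hb, rfl⟩ := hw
        exact ⟨a + b, Subalgebra.add_mem _ ha hb, rfl⟩
      | smul c v _ hv =>
        obtain ⟨a, ha, rfl⟩ := hv
        exact ⟨c • a, Subalgebra.smul_mem _ ha c, rfl⟩
  · exfalso
    have hMM : M ≤ perp Q M := by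
      intro v hv
      rw [← hD] at hv
      exact hv.2
    -- `perp M = M`
    have hMp : perp Q M = M := by
      obtain ⟨D', hD'⟩ := Submodule.exists_isCompl M
      let π0 : V →ₗ[F] V := M.subtype ∘ₗ (M.projectionOnto D' hD')
      have hπ0 : ∀ v, π0 v ∈ M := fun v => (M.projectionOnto D' hD' v).2
      have hπ1 : ∀ v ∈ M, π0 v = v := by
        intro v hv
        change ((M.projectionOnto D' hD' v : M) : V) = v
        rw [Submodule.projectionOnto_apply_left hD' ⟨v, hv⟩]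
      set π := av R π0 with hπ
      have hπm : ∀ v, π v ∈ M := av_mem hMi hπ0
      have hπi : ∀ v ∈ M, π v = v := fun v hv => av_id hcard hMi hπ1 hv
      have hπc : ∀ x ∈ R, ∀ v, x (π v) = π (x v) := fun x hx v => av_comm π0 hx v
      set N := perp Q M ⊓ LinearMap.ker π with hN
      have hNi : Inv R N := by
        apply inv_inf (inv_perp h.le hMi)
        intro x hx v hv
        rw [LinearMap.mem_ker] at hv ⊢
        rw [← hπc x hx, hv, map_zero]
      have hdec : ∀ y ∈ perp Q M, y - π y ∈ N := by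
        intro y hy
        refine ⟨(perp Q M).sub_mem hy (hMM (hπm y)), ?_⟩
        rw [SetLike.mem_coe, LinearMap.mem_ker, map_sub, hπi _ (hπm y), sub_self]
      have hNnd : ND Q N := by
        intro v hv hvN
        have h5 : v ∈ perp Q (perp Q M) := by
          intro y hy
          have h6 : y = π y + (y - π y) := by abel
          rw [h6, polar_add_right, hv.1 _ (hπm y), hvN _ (hdec y hy), add_zero]
        rw [perp_perp hQ] at h5
        have h6 : π v = 0 := hv.2
        rw [← hπi v h5, h6]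
      rcases hind N hNnd hNi with h5 | h5
      · apply le_antisymm _ hMM
        intro y hy
        have h6 := hdec y hy
        rw [h5, Submodule.mem_bot, sub_eq_zero] at h6
        rw [h6]
        exact hπm y
      · exfalso
        apply hM
        rw [eq_bot_iff, ← h5]
        intro m hm n hn
        rw [polar_comm]
        exact hn.1 m hm
    have hfin := finrank_perp hQ M
    rw [hMp] at hfin
    have hMle := Submodule.finrank_le M
    have hn : finrank F V = 2 * finrank F M := by omega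
    refine H283.Fxo.no_swap hQ h.le h.comm hr hpow hM hMi hirr (by rw [h0, inf_bot_eq]) hMM ?_ hn u hu
    rw [even_iff_two_dvd]
    obtain ⟨k, hk⟩ := h4
    exact ⟨k, by omega⟩

/-- **`EvN` for `4 ∣ n`.** -/
theorem evN_four [Finite F] (hG : Good Q) (h4 : 4 ∣ finrank F V) (hR : R ≤ O Q)
    (hc : ∀ x ∈ R, ∀ y ∈ R, x * y = y * x) {r : ℕ} (hr : r.Prime) (hr2 : r ≠ 2) (hrF : (r : F) ≠ 0)
    (hpow : ∀ x ∈ R, x ^ r = 1) (hR1 : R ≠ ⊥) : EvN Q R := by
  have hodd : ∀ x ∈ R, ∀ v, x (x v) = v → x v = v := by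
    intro x hx v hv
    obtain ⟨k, hk⟩ := hr.odd_of_ne_two hr2
    have h5 : ∀ i : ℕ, (x ^ (2 * i)) v = v := by
      intro i
      induction i with
      | zero => rfl
      | succ i ih =>
        have e : x ^ (2 * (i + 1)) = x ^ (2 * i) * (x * x) := by rw [← pow_two, ← pow_add]; ring_nf
        rw [e]
        change (x ^ (2 * i)) (x (x v)) = v
        rw [hv, ih]
    have h6 : (x ^ r) v = v := by rw [hpow x hx]; rfl
    rw [hk, pow_succ'] at h6
    change x ((x ^ (2 * k)) v) = v at h6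
    rwa [h5] at h6
  have hcard : (Nat.card R : F) ≠ 0 := by
    have : Fact r.Prime := ⟨hr⟩
    have hp : IsPGroup r R := by
      intro x
      refine ⟨1, ?_⟩
      rw [pow_one]
      exact Subtype.ext (hpow x x.2)
    obtain ⟨k, hk⟩ := IsPGroup.iff_card.1 hp
    rw [hk, Nat.cast_pow]
    exact pow_ne_zero _ hrF
  have h : Dat Q R := ⟨hG, hR, hc, hcard, hodd, hR1⟩
  by_cases h2 : (2 : F) = 0
  · exact h.evN_two h2 h4
  by_cases h0 : Fx R = ⊥
  · by_cases hind : ∀ W : Submodule F V, ND Q W → Inv R W → W = ⊥ ∨ perp Q W = ⊥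
    · exact h.evN_ind h2 h4 hr hr2 hrF hpow h0 hind
    · push Not at hind
      obtain ⟨W, hW, hWi, hW1, hW2⟩ := hind
      exact h.evN_of_dec h2 h4 hW hWi (by rw [h0, inf_bot_eq]) hW1 hW2
  · exact h.evN_fix h2 h4 h0

end Dat

end Cfsg.Agent.H626.IFO
end

-- part: H626/IFO/Glue
section
/-!
# S5719, `|A|` odd, orthogonal groups: `EvN` for the lift of `R` is impossible (helper626)
-/

set_option autoImplicit false

namespace Cfsg.Agent.H626.IFO

open QuadraticMap Cfsg.Agent.LieClassical.OrthCore Cfsg.Agent.LieClassical.OrthTrans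
  Cfsg.Agent.ClassicalGeometry.OrthAut1 Cfsg.Agent.H209.Fxy

variable {F V : Type*} [Field F] [AddCommGroup V] [Module F V] {Q : QuadraticForm F V}

theorem center_sq (hG : Good Q) {z : ↥(E Q)} (hz : z ∈ Subgroup.center ↥(E Q)) : z * z = 1 := by
  obtain ⟨c, hc⟩ := center_scalar hG hz
  obtain ⟨x, y, hxy⟩ := hG.exists_hyp
  have h1 : c * c = 1 := by
    have h2 := polar_map (E_le_O z.2) x y
    rw [hc, hc, polar_smul_left, polar_smul_right, hxy.pair] at h2
    simpa using h2
  apply Subtype.ext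
  apply LinearEquiv.ext
  intro v
  change (z : V ≃ₗ[F] V) ((z : V ≃ₗ[F] V) v) = v
  rw [hc, hc, smul_smul, h1, one_smul]

/-- **the odd order lift of `R`** -/
theorem exists_hat (hG : Good Q) {R : Subgroup (P Q)} {r : ℕ} (hr : r.Prime) (hr2 : r ≠ 2) (hR : R ≠ ⊥)
    (hpow : ∀ x ∈ R, x ^ r = 1) (hcomm : ∀ x ∈ R, ∀ y ∈ R, x * y = y * x) :
    ∃ H : Subgroup (V ≃ₗ[F] V), H ≤ E Q ∧ H ≠ ⊥ ∧ (∀ x ∈ H, x ^ r = 1) ∧ (∀ x ∈ H, ∀ y ∈ H, x * y = y * x) ∧
      (∀ (x : V ≃ₗ[F] V) (hx : x ∈ E Q), x ∈ H ↔ x ^ r = 1 ∧ ((⟨x, hx⟩ : E Q) : P Q) ∈ R) ∧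
      ∀ ρ ∈ R, ∃ (x : V ≃ₗ[F] V) (hx : x ∈ E Q), x ∈ H ∧ ((⟨x, hx⟩ : E Q) : P Q) = ρ := by
  have hodd := hr.odd_of_ne_two hr2
  have hzr : ∀ z : E Q, z ∈ Subgroup.center (E Q) → z ^ r = z := by
    intro z hz
    obtain ⟨k, hk⟩ := hodd
    rw [hk, pow_succ, pow_mul, pow_two, center_sq hG hz, one_pow, one_mul]
  have hcm : ∀ x y : E Q, x ^ r = 1 → y ^ r = 1 → (x : P Q) ∈ R → (y : P Q) ∈ R → x * y = y * x := by
    intro x y hx hy hxR hyR
    have h1 : (x * y * x⁻¹ * y⁻¹ : E Q) ∈ Subgroup.center (E Q) := by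
      rw [← QuotientGroup.eq_one_iff]
      change (x : P Q) * (y : P Q) * (x : P Q)⁻¹ * (y : P Q)⁻¹ = 1
      rw [hcomm _ hxR _ hyR]
      group
    set z := (x * y * x⁻¹ * y⁻¹ : E Q) with hz
    have h2 : x * y * x⁻¹ = z * y := by rw [hz]; group
    have h3 : (x * y * x⁻¹) ^ r = 1 := by rw [conj_pow, hy, mul_one, mul_inv_cancel]
    have h4 : Commute z y := (Subgroup.mem_center_iff.1 h1 y).symm
    rw [h2, h4.mul_pow, hy, mul_one, hzr z h1] at h3
    rw [h3, one_mul] at h2
    exact mul_inv_eq_iff_eq_mul.1 h2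
  let H : Subgroup (V ≃ₗ[F] V) :=
    { carrier := {x | ∃ hx : x ∈ E Q, x ^ r = 1 ∧ ((⟨x, hx⟩ : E Q) : P Q) ∈ R}
      one_mem' := ⟨one_mem _, one_pow _, one_mem R⟩
      mul_mem' := by
        rintro x y ⟨hx, hxr, hxR⟩ ⟨hy, hyr, hyR⟩
        refine ⟨mul_mem hx hy, ?_, R.mul_mem hxR hyR⟩
        have h1 : Commute x y :=
          congrArg Subtype.val (hcm ⟨x, hx⟩ ⟨y, hy⟩ (Subtype.ext hxr) (Subtype.ext hyr) hxR hyR)
        rw [h1.mul_pow, hxr, hyr, one_mul]
      inv_mem' := by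
        rintro x ⟨hx, hxr, hxR⟩
        refine ⟨inv_mem hx, ?_, R.inv_mem hxR⟩
        rw [inv_pow, hxr, inv_one] }
  have hlift : ∀ ρ ∈ R, ∃ (x : V ≃ₗ[F] V) (hx : x ∈ E Q), x ∈ H ∧ ((⟨x, hx⟩ : E Q) : P Q) = ρ := by
    intro ρ hρ
    obtain ⟨x, rfl⟩ := QuotientGroup.mk_surjective ρ
    have h1 : x ^ r ∈ Subgroup.center (E Q) := by
      rw [← QuotientGroup.eq_one_iff]
      exact hpow _ hρ
    have h2 : ((x * x ^ r : E Q) : P Q) = x := by
      rw [QuotientGroup.mk_mul, (QuotientGroup.eq_one_iff _).2 h1, mul_one]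
    have h3 : (x * x ^ r) ^ r = 1 := by
      have h4 : Commute x (x ^ r) := (Commute.refl x).pow_right r
      rw [h4.mul_pow, hzr _ h1, center_sq hG h1]
    refine ⟨((x * x ^ r : E Q) : V ≃ₗ[F] V), (x * x ^ r : E Q).2, ⟨(x * x ^ r : E Q).2, congrArg Subtype.val h3, ?_⟩, h2⟩
    rw [← h2] at hρ
    exact hρ
  refine ⟨H, fun x hx => hx.1, ?_, fun x hx => hx.2.1, ?_, fun x hx => ⟨fun h => h.2, fun h => ⟨hx, h⟩⟩, hlift⟩
  · intro h0
    apply hR
    rw [Subgroup.eq_bot_iff_forall]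
    intro ρ hρ
    obtain ⟨x, hx, hxH, rfl⟩ := hlift ρ hρ
    rw [h0, Subgroup.mem_bot] at hxH
    subst hxH
    rfl
  · rintro x ⟨hx, hxr, hxR⟩ y ⟨hy, hyr, hyR⟩
    exact congrArg Subtype.val (hcm ⟨x, hx⟩ ⟨y, hy⟩ (Subtype.ext hxr) (Subtype.ext hyr) hxR hyR)

/-- **`EvN` is impossible for the lift of `R`** -/
theorem false_of_evN [Finite F] (hG : Good Q) {A : Subgroup (P Q)} {Γ : Subgroup (MulAut (P Q))} (h : IF A Γ)
    (hodd : Odd (Nat.card A)) {r : ℕ} {R : Subgroup (P Q)} (hRA : R ≤ A) (hR : R ≠ ⊥)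
    (hinv : ∀ σ ∈ Γ, ∀ x ∈ R, σ x ∈ R) {H : Subgroup (V ≃ₗ[F] V)}
    (hH : ∀ (x : V ≃ₗ[F] V) (hx : x ∈ E Q), x ∈ H ↔ x ^ r = 1 ∧ ((⟨x, hx⟩ : E Q) : P Q) ∈ R)
    (hlift : ∀ ρ ∈ R, ∃ (x : V ≃ₗ[F] V) (hx : x ∈ E Q), x ∈ H ∧ ((⟨x, hx⟩ : E Q) : P Q) = ρ)
    (hE : EvN Q H) : False := by
  have hfd : Module.Finite F V := Module.finite_of_finrank_pos (by have := hG.dim; omega)
  have hP : Finite (P Q) := Cfsg.Agent.ClassicalGeometry.OrthAut2b.finite_P (F := F) (V := V)
  have := Cfsg.Agent.LieClassical.OrthSimple.good_isSimpleGroup hG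
  obtain ⟨y, hy, hyn, hys⟩ := hE
  have h1 : Odd (orderOf ((⟨y, hy⟩ : E Q) : P Q)) := by
    refine H447.IFO.odd_orderOf h hodd hRA hR hinv ?_
    intro ρ hρ
    obtain ⟨x, hx, hxH, rfl⟩ := hlift ρ hρ
    have h2 := hyn x hxH
    exact ((hH _ (mul_mem (mul_mem hy hx) (inv_mem hy))).1 h2).2
  apply hys _ h1
  have h2 : (⟨y, hy⟩ : E Q) ^ (orderOf ((⟨y, hy⟩ : E Q) : P Q)) ∈ Subgroup.center (E Q) := by
    rw [← QuotientGroup.eq_one_iff, QuotientGroup.mk_pow]
    exact pow_orderOf_eq_one _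
  obtain ⟨c, hc⟩ := center_scalar hG h2
  exact ⟨c, hc⟩

end Cfsg.Agent.H626.IFO
end

-- part: H626/IFO/FourO
section
/-!
# S5719, `|A|` odd: the orthogonal groups of dimension divisible by four (helper626)
-/

set_option autoImplicit false

namespace Cfsg.Agent.H626.IFO

open QuadraticMap Cfsg.Agent.LieClassical.OrthCore Cfsg.Agent.LieClassical.OrthTrans
  Cfsg.Agent.ClassicalGeometry.OrthAut1 Cfsg.Agent.H209.Fxy

/-- **`KillO` for `4 ∣ n`**, no condition on `Γ` -/
theorem killO_four {F V : Type*} [Field F] [AddCommGroup V] [Module F V] {Q : QuadraticForm F V} [Finite F]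
    (hG : Good Q) (h4 : 4 ∣ Module.finrank F V) : KillO (P Q) := by
  intro A Γ h hodd
  have hfd : Module.Finite F V := Module.finite_of_finrank_pos (by have := hG.dim; omega)
  have hP : Finite (P Q) := Cfsg.Agent.ClassicalGeometry.OrthAut2b.finite_P (F := F) (V := V)
  obtain ⟨r, R, hr, hr2, hRA, hR, hpow, hcomm, hinv⟩ := H447.IFO.exists_elemAb h hodd
  obtain ⟨H, hHE, hHb, hHp, hHc, hH, hlift⟩ := exists_hat hG hr hr2 hR hpow hcomm
  have h7 : 7 ≤ Module.finrank F V := by
    have := hG.dim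
    omega
  by_cases hrF : (r : F) = 0
  · by_cases h2 : (2 : F) = 0
    · -- `r = 2`
      exfalso
      apply hr2
      have h5 : ringChar F ∣ r := ringChar.dvd hrF
      have h6 : ringChar F ∣ 2 := ringChar.dvd (by exact_mod_cast h2)
      have h7 : ringChar F ≠ 1 := CharP.ringChar_ne_one
      have h8 := ((Nat.dvd_prime hr).1 h5).resolve_left h7
      have h9 := ((Nat.dvd_prime Nat.prime_two).1 h6).resolve_left h7
      rw [← h8, h9]
    · exact H22.IFO.no_p hG h hodd hr hr2 hRA hR hpow hcomm hinv h2 h7 hrF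
  · have hVf : Finite V := Module.finite_of_finite F
    have : Finite (V ≃ₗ[F] V) := Finite.of_injective (fun f : V ≃ₗ[F] V => (f : V → V)) DFunLike.coe_injective
    exact false_of_evN hG h hodd hRA hR hinv hH hlift
      (evN_four hG h4 (hHE.trans E_le_O) hHc hr hr2 hrF hHp hHb)

/-- transport -/
theorem killO_congr {T T' : Type*} [Group T] [Group T'] (e : T ≃* T') (h : KillO T) : KillO T' := by
  intro A Γ hA ho
  refine h _ _ (hA.map e.symm) ?_
  rwa [Nat.card_congr (A.equivMapOfInjective e.symm.toMonoidHom e.symm.injective).toEquiv.symm]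

/-- the form on `F ^ ι` -/
theorem killO_POmega {ι : Type} [Fintype ι] [DecidableEq ι] {F : Type*} [Field F] [Finite F]
    {Q : QuadraticForm F (ι → F)} (hG : Good Q) (h : KillO (P Q)) : KillO (Cfsg.POmega F ⇑Q) :=
  killO_congr (Cfsg.Agent.AutOrth.Main.pe hG).symm h

/-- **plus type, `m` even** (`O8+` with triality included) -/
theorem plus_O_even {F : Type} [Field F] [Fintype F] {m : ℕ} (hm : 4 ≤ m) (he : Even m) :
    KillO (Cfsg.POmega F (Cfsg.quadFormPlus m F)) := by
  have hfr : Module.finrank F (Fin m ⊕ Fin m → F) = 2 * m := by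
    rw [Module.finrank_fintype_fun_eq_card, Fintype.card_sum, Fintype.card_fin]
    ring
  have hG : Good (Cfsg.Agent.LieClassical.OrthForms.plusForm m F) :=
    Cfsg.Agent.LieClassical.OrthFinite.good_of_finite (Cfsg.Agent.LieClassical.OrthForms.nondeg_plusForm _ _) (by omega)
  rw [← Cfsg.Agent.LieClassical.OrthForms.coe_plusForm]
  apply killO_POmega hG
  apply killO_four hG
  rw [hfr]
  obtain ⟨k, rfl⟩ := he
  exact ⟨k, by ring⟩

/-- **minus type, `m` even** -/
theorem minus_O_even {F : Type} [Field F] [Fintype F] {m : ℕ} (a b : F) (hm : 4 ≤ m) (he : Even m)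
    (hab : ∀ z₁ z₂ : F, z₁ ^ 2 + a * z₁ * z₂ + b * z₂ ^ 2 = 0 → z₁ = 0 ∧ z₂ = 0) :
    KillO (Cfsg.POmega F (Cfsg.quadFormMinus (m - 1) F a b)) := by
  have hfr : Module.finrank F ((Fin (m - 1) ⊕ Fin (m - 1)) ⊕ Fin 2 → F) = 2 * m := by
    rw [Module.finrank_fintype_fun_eq_card, Fintype.card_sum, Fintype.card_sum, Fintype.card_fin, Fintype.card_fin]
    omega
  have hG : Good (Cfsg.Agent.LieClassical.OrthForms.minusForm (m - 1) F a b) :=
    Cfsg.Agent.LieClassical.OrthFinite.good_of_finite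
      (Cfsg.Agent.LieClassical.OrthForms.nondeg_minusForm (m - 1) F a b hab) (by omega)
  rw [← Cfsg.Agent.LieClassical.OrthForms.coe_minusForm]
  apply killO_POmega hG
  apply killO_four hG
  rw [hfr]
  obtain ⟨k, rfl⟩ := he
  exact ⟨k, by ring⟩

end Cfsg.Agent.H626.IFO
end

-- part: H283/Fxo/Beta
section
/-!
# S5719, `|A|` odd, orthogonal groups: (β) and the odd dimensional groups (helper283)

* `beta`: the algebra of the lift of `R` has a self-adjoint idempotent `≠ 0, 1`: impossible;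
* `semi_of`: all automorphisms are induced by semisimilarities (dimension at least 7, no totally singular 4-space in
  dimension 8);
* `killO_odd`: `KillO (P Q)`, odd dimension; `odd_O`: the cell of `CellsO`.
-/

set_option autoImplicit false

namespace Cfsg.Agent.H283.Fxo

open QuadraticMap Module
open Cfsg.Agent.LieClassical.OrthCore Cfsg.Agent.LieClassical.OrthTrans Cfsg.Agent.LieClassical.OrthSimple
open Cfsg.Agent.AutOrth.SemiSim Cfsg.Agent.ClassicalGeometry.OrthAut1 Cfsg.Agent.H209.Fxy Cfsg.Agent.H429.IFO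

section

variable {F V : Type*} [Field F] [AddCommGroup V] [Module F V] {Q : QuadraticForm F V} [Finite F]
  {A : Subgroup (P Q)} {Γ : Subgroup (MulAut (P Q))} {R : Subgroup (P Q)} {r : ℕ}

/-- **(β)** -/
theorem beta (hG : Good Q) (h : IF A Γ) (hodd : Odd (Nat.card A)) (hΓ : Semi Q Γ) (hr : r.Prime) (hr2 : r ≠ 2)
    (hcomm : ∀ x ∈ R, ∀ y ∈ R, x * y = y * x) (hinv : ∀ σ ∈ Γ, ∀ x ∈ R, σ x ∈ R)
    (hid : ∃ e ∈ Idm Q (hatSet R r), e ≠ 0 ∧ e ≠ 1) : False := by
  obtain ⟨e, he, h0, h1⟩ := hid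
  have hro := hr.odd_of_ne_two hr2
  obtain ⟨⟨x, hx, hxx, hxs, hxc⟩, hN⟩ := exists_invol hG (R := hatSet R r) (fun x hx => hat_O hx)
    (fun x hx y hy => hat_comm hG hro hcomm hx hy) hro (fun x hx => hat_pow hx) he h0 h1
  refine kill_of_set hG h hodd hΓ hinv (Idm Q (hatSet R r)) (fun M σ c hM hg => idm_semi hM hg) hx
    ⟨1, fun v => ?_⟩ hxs (fun a ha => ⟨a, ha, fun v => (hxc a ha v).symm⟩) ?_
  · rw [one_smul]
    exact LinearEquiv.congr_fun hxx v
  · by_contra hcon
    push Not at hcon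
    apply hN
    intro g hg d hd
    obtain ⟨b, hb, hbg⟩ := hcon g hg d hd
    have h2 : (g : V →ₗ[F] V) * d * ((g⁻¹ : V ≃ₗ[F] V) : V →ₗ[F] V) = b := by
      ext v
      change g (d ((g⁻¹ : V ≃ₗ[F] V) v)) = b v
      rw [← hbg]
      congr 1
      exact LinearEquiv.apply_symm_apply g v
    rw [h2]
    exact hb

/-- all automorphisms are induced by semisimilarities -/
theorem semi_of (hG : Good Q) (h7 : 7 ≤ finrank F V)
    (h8 : finrank F V = 8 → ∀ W : Submodule F V, TS Q W → finrank F W ≠ 4) (Γ : Subgroup (MulAut (P Q))) :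
    Semi Q Γ := by
  have hfd : FiniteDimensional F V := Module.finite_of_finrank_pos (by omega)
  intro α _
  exact Cfsg.Agent.ClassicalGeometry.OrthAut4.exists_semi_P hG h7 α
    (Cfsg.Agent.AutOrth.Main.pt_of_no_four hG h7 h8 α)

theorem beta_odd (hG : Good Q) (h2 : (2 : F) ≠ 0) (hn : Odd (finrank F V)) (h : IF A Γ) (hodd : Odd (Nat.card A))
    (hΓ : Semi Q Γ) (hr : r.Prime) (hr2 : r ≠ 2) (hrF : (r : F) ≠ 0) (hR : R ≠ ⊥) (hpow : ∀ x ∈ R, x ^ r = 1)
    (hcomm : ∀ x ∈ R, ∀ y ∈ R, x * y = y * x) (hinv : ∀ σ ∈ Γ, ∀ x ∈ R, σ x ∈ R) : False := by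
  obtain ⟨g, hg, hg1⟩ := exists_hat_ne hG (hr.odd_of_ne_two hr2) hpow hR
  obtain ⟨e, he, h0, h1⟩ := exists_idm_of_odd h2 hG.nondeg hn (R := hatSet R r) (fun x hx => hat_O hx) hr hr2 hrF hg
    (hat_pow hg) hg1
  exact beta hG h hodd hΓ hr hr2 hcomm hinv ⟨e, he, h0, h1⟩

end

/-- **`KillO` in odd dimension.** -/
theorem killO_odd {F V : Type*} [Field F] [AddCommGroup V] [Module F V] {Q : QuadraticForm F V} [Finite F]
    (hG : Good Q) (h2 : (2 : F) ≠ 0) (h7 : 7 ≤ finrank F V) (hn : Odd (finrank F V)) : KillO (P Q) := by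
  intro A Γ h hodd
  have hP := Cfsg.Agent.H429.IFO.finite_P hG
  obtain ⟨r, R, hr, hr2, hRA, hR, hpow, hcomm, hinv⟩ := H447.IFO.exists_elemAb h hodd
  by_cases hrF : (r : F) = 0
  · exact H22.IFO.no_p hG h hodd hr hr2 hRA hR hpow hcomm hinv h2 h7 hrF
  · refine beta_odd hG h2 hn h hodd (semi_of hG h7 (fun h8 => ?_) Γ) hr hr2 hrF hR hpow hcomm hinv
    exfalso
    rw [h8] at hn
    exact (Nat.not_even_iff_odd.2 hn) ⟨4, rfl⟩

/-- **The cell `odd_O`.** -/
theorem odd_O (F : Type) [Field F] [Fintype F] (m : ℕ) (ho : Odd (Fintype.card F)) (hm : 3 ≤ m) :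
    KillO (Cfsg.POmega F (Cfsg.quadFormOdd m F)) := by
  have h2 : (2 : F) ≠ 0 := by
    intro h
    have h1 : ringChar F ∣ 2 := ringChar.dvd (by exact_mod_cast h)
    have h3 : ringChar F = 2 := ((Nat.dvd_prime Nat.prime_two).1 h1).resolve_left CharP.ringChar_ne_one
    have h4 := FiniteField.even_card_of_char_two h3
    obtain ⟨k, hk⟩ := ho
    omega
  have hG : Good (Cfsg.Agent.LieClassical.OrthForms.oddForm m F) := by
    apply Cfsg.Agent.LieClassical.OrthFinite.good_of_finite (Cfsg.Agent.LieClassical.OrthForms.nondeg_oddForm m F h2)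
    rw [Module.finrank_fintype_fun_eq_card, Fintype.card_sum, Fintype.card_sum, Fintype.card_fin, Fintype.card_unit]
    omega
  have hfr : finrank F (Unit ⊕ (Fin m ⊕ Fin m) → F) = 2 * m + 1 := by
    rw [Module.finrank_fintype_fun_eq_card, Fintype.card_sum, Fintype.card_sum, Fintype.card_fin, Fintype.card_unit]
    omega
  rw [← Cfsg.Agent.LieClassical.OrthForms.coe_oddForm]
  apply H626.IFO.killO_POmega hG
  exact killO_odd hG h2 (by rw [hfr]; omega) ⟨m, hfr⟩

end Cfsg.Agent.H283.Fxo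
end

private theorem dce_c4450d991ae4 : _root_.True := by
  try have : _root_.True := by simp only [_root_.Cfsg.Agent.H626.IFO.es.eq_1]
  try have : _root_.True := by simp only [_root_.Cfsg.Agent.H442.IFO.Dt.lam.congr_simp]
  exact _root_.True.intro
end

-- part: H511/IF/SpF_mg
section
prune_inst 0x11000210140020000040010402040a11000042000000c0004a601020000802009822000080000000a00000100010000014400000200000000000000000505010000000011400100000018000000000000000000000000000000000000000000200000000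
set_option linter.all false
open scoped Cfsg.Agent.FastGrp

-- part: H511/IF/SpF
section
/-!
# S5719, `PSp_2m(q)`, `q` odd, `m ≥ 3`: the stabiliser contains no fundamental involution (helper511)

* `zz x y` : the involution with `-1` on the hyperbolic plane `⟨x, y⟩`, `f x y = 1`, and `1` on its perpendicular space;
* `step` : if `zz x y ∈ Â` then `Â` contains all transvections with centre perpendicular to `x, y`;
* `fund` : `zz x y ∈ Â` is impossible;
* `fund_eig` : the same for an element given by its eigenspaces.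
-/

set_option autoImplicit false
set_option linter.unusedSectionVars false

namespace Cfsg.Agent.H511.IF

open Cfsg Subgroup
open Cfsg.Agent.ClassicalGeometry.SympBasic Cfsg.Agent.ClassicalGeometry.SympSiegel
open Cfsg.Agent.H74.Psp Cfsg.Agent.H914.Gs
open Cfsg.Agent.H209.Fxy (IF)

variable {F : Type*} [Field F] {m : ℕ}

local notation "V" => (Fin m ⊕ Fin m → F)
local notation "G" => Matrix.symplecticGroup (Fin m) F
local notation "f" => sympForm m F

/-- `-1` on `⟨x, y⟩`, `1` on the perpendicular space (for `f x y = 1`) -/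
def zz (x y : V) : G := (transv x 1 * transv y 1 * transv x 1) * (transv x 1 * transv y 1 * transv x 1)

theorem zz_smul {x y : V} (hxy : f x y = 1) (v : V) :
    zz x y • v = v - (2 : F) • (f v y • x - f v x • y) := by
  have hyx : f y x = -1 := by rw [sympForm_swap, hxy]
  simp only [zz, mul_smul, transv_smul, sympForm_add_left, sympForm_smul_left, sympForm_self, hxy, hyx]
  module

theorem conj_zz (g : G) (x y : V) : g * zz x y * g⁻¹ = zz (g • x) (g • y) := by
  have h1 : ∀ a b : G, g * (a * b) * g⁻¹ = (g * a * g⁻¹) * (g * b * g⁻¹) := fun a b => by group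
  simp only [zz, h1, conj_transv]

theorem zz_add {x y : V} (hxy : f x y = 1) (c : F) : zz x (y + c • x) = zz x y := by
  apply ext_smul
  intro v
  rw [zz_smul hxy, zz_smul (by rw [sympForm_add_right, sympForm_smul_right, sympForm_self, hxy, mul_zero, add_zero]),
    sympForm_add_right, sympForm_smul_right]
  module

theorem zz_sq {x y : V} (hxy : f x y = 1) : zz x y * zz x y = 1 := by
  have hyx : f y x = -1 := by rw [sympForm_swap, hxy]
  apply ext_smul
  intro v
  rw [mul_smul, zz_smul hxy, zz_smul hxy, one_smul]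
  simp only [sympForm_sub_left, sympForm_smul_left, sympForm_self, hxy, hyx]
  module

/-- the projection to the plane -/
def pl (x y : V) : V →ₗ[F] V where
  toFun v := f v y • x - f v x • y
  map_add' u v := by simp only [sympForm_add_left]; module
  map_smul' c v := by simp only [sympForm_smul_left, RingHom.id_apply]; module

theorem pl_apply (x y v : V) : pl x y v = f v y • x - f v x • y := rfl

/-- the perpendicular space of the plane -/
def UU (x y : V) : Submodule F (Fin m ⊕ Fin m → F) where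
  carrier := {v | f v x = 0 ∧ f v y = 0}
  zero_mem' := ⟨sympForm_zero_left _, sympForm_zero_left _⟩
  add_mem' {u v} hu hv := ⟨by rw [sympForm_add_left, hu.1, hv.1, add_zero], by rw [sympForm_add_left, hu.2, hv.2, add_zero]⟩
  smul_mem' c v hv := ⟨by rw [sympForm_smul_left, hv.1, mul_zero], by rw [sympForm_smul_left, hv.2, mul_zero]⟩

theorem mem_UU {x y v : V} : v ∈ UU x y ↔ f v x = 0 ∧ f v y = 0 := Iff.rfl

section plane

variable {x y : Fin m ⊕ Fin m → F} (hxy : sympForm m F x y = 1)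
include hxy

theorem sub_pl_mem (v : V) : v - pl x y v ∈ UU x y := by
  have hyx : f y x = -1 := by rw [sympForm_swap, hxy]
  rw [mem_UU, pl_apply]
  simp only [sympForm_sub_left, sympForm_smul_left, sympForm_self, hxy, hyx]
  constructor <;> ring

/-- the projection to `U` -/
def prU : V →ₗ[F] UU x y :=
  LinearMap.codRestrict (UU x y) (LinearMap.id - pl x y) (fun v => (by exact sub_pl_mem hxy v))

theorem coe_prU (v : V) : (prU hxy v : V) = v - pl x y v := rfl

omit hxy in
theorem pl_of_mem {v : V} (hv : v ∈ UU x y) : pl x y v = 0 := by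
  rw [pl_apply, hv.1, hv.2]; simp

theorem prU_of_mem {v : V} (hv : v ∈ UU x y) : prU hxy v = ⟨v, hv⟩ := by
  apply Subtype.ext
  rw [coe_prU, pl_of_mem hv, sub_zero]

omit hxy in
theorem form_pl_left {u : V} (hu : u ∈ UU x y) (v : V) : f (pl x y v) u = 0 := by
  rw [pl_apply, sympForm_sub_left, sympForm_smul_left, sympForm_smul_left, sympForm_swap x u, sympForm_swap y u, hu.1,
    hu.2]
  simp

omit hxy in
theorem form_pl_right {u : V} (hu : u ∈ UU x y) (v : V) : f u (pl x y v) = 0 := by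
  rw [sympForm_swap, form_pl_left hu, neg_zero]

/-- the form on `U` -/
def BU (x y : V) : UU x y →ₗ[F] UU x y →ₗ[F] F := (sympBilin m F).compl₁₂ (UU x y).subtype (UU x y).subtype

omit hxy in
theorem BU_apply (u v : UU x y) : BU x y u v = f (u : V) (v : V) := rfl

theorem symp_BU : Symp (BU x y) := by
  refine ⟨fun u => sympForm_self _, fun u hu => ?_⟩
  apply Subtype.ext
  apply eq_zero_of_forall_sympForm_right
  intro v
  have h1 : v = (prU hxy v : V) + pl x y v := by rw [coe_prU]; abel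
  have h2 := hu (prU hxy v)
  rw [BU_apply] at h2
  rw [h1, sympForm_add_right, h2, form_pl_right u.2, add_zero]

/-- the extension of an isometry of `U` -/
def extL (g : Sp (BU x y)) : V →ₗ[F] V :=
  (UU x y).subtype ∘ₗ ((g : UU x y ≃ₗ[F] UU x y) : UU x y →ₗ[F] UU x y) ∘ₗ prU hxy + pl x y

theorem extL_apply (g : Sp (BU x y)) (v : V) : extL hxy g v = ((g • prU hxy v : UU x y) : V) + pl x y v := rfl

theorem form_extL (g : Sp (BU x y)) (u v : V) : f (extL hxy g u) (extL hxy g v) = f u v := by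
  rw [extL_apply, extL_apply, sympForm_add_left, sympForm_add_right, sympForm_add_right, form_pl_right (Subtype.prop _),
    form_pl_left (Subtype.prop _), ← BU_apply, B_smul_smul, BU_apply]
  have h1 : u = (prU hxy u : V) + pl x y u := by rw [coe_prU]; abel
  have h2 : v = (prU hxy v : V) + pl x y v := by rw [coe_prU]; abel
  conv_rhs => rw [h1, h2, sympForm_add_left, sympForm_add_right, sympForm_add_right, form_pl_right (Subtype.prop _),
    form_pl_left (Subtype.prop _)]

/-- `Sp(U) → Sp(V)` -/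
noncomputable def th : Sp (BU x y) →* G where
  toFun g := ofIso (extL hxy g) (form_extL hxy g)
  map_one' := by
    apply ext_smul
    intro v
    rw [ofIso_smul, extL_apply, one_smul, one_smul, coe_prU]
    abel
  map_mul' g h := by
    apply ext_smul
    intro v
    rw [ofIso_smul, mul_smul, ofIso_smul, ofIso_smul, extL_apply, extL_apply, extL_apply, mul_smul]
    have h1 : prU hxy (((h • prU hxy v : UU x y) : V) + pl x y v) = h • prU hxy v := by
      rw [map_add, prU_of_mem hxy (Subtype.prop _)]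
      have h2 : prU hxy (pl x y v) = 0 := by
        have hyx : f y x = -1 := by rw [sympForm_swap, hxy]
        apply Subtype.ext
        rw [coe_prU, pl_apply, pl_apply]
        simp only [sympForm_sub_left, sympForm_smul_left, sympForm_self, hxy, hyx, ZeroMemClass.coe_zero]
        module
      rw [h2, add_zero]
    rw [h1]
    congr 1
    have hyx : f y x = -1 := by rw [sympForm_swap, hxy]
    rw [map_add, pl_of_mem (Subtype.prop _), zero_add, pl_apply, pl_apply]
    simp only [sympForm_sub_left, sympForm_smul_left, sympForm_self, hxy, hyx]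
    module

theorem th_smul (g : Sp (BU x y)) (v : V) : th hxy g • v = ((g • prU hxy v : UU x y) : V) + pl x y v := by
  show ofIso (extL hxy g) (form_extL hxy g) • v = _
  rw [ofIso_smul, extL_apply]

theorem th_t (u : UU x y) (c : F) : th hxy (t (BU x y) u c) = transv (u : V) c := by
  apply ext_smul
  intro v
  rw [th_smul, t_smul (symp_BU hxy), transv_smul, BU_apply]
  have h1 : f (prU hxy v : V) (u : V) = f v (u : V) := by
    rw [coe_prU, sympForm_sub_left, form_pl_left u.2, sub_zero]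
  rw [h1]
  show (prU hxy v : V) + (c * f v (u : V)) • (u : V) + pl x y v = _
  rw [coe_prU]
  abel

theorem th_comm (g : Sp (BU x y)) : th hxy g * zz x y = zz x y * th hxy g := by
  have hyx : f y x = -1 := by rw [sympForm_swap, hxy]
  have hx : th hxy g • x = x := by
    rw [th_smul]
    have h1 : prU hxy x = 0 := by
      apply Subtype.ext
      rw [coe_prU, pl_apply, hxy, sympForm_self]
      simp
    rw [h1, smul_zero, pl_apply, hxy, sympForm_self]
    simp
  have hy : th hxy g • y = y := by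
    rw [th_smul]
    have h1 : prU hxy y = 0 := by
      apply Subtype.ext
      rw [coe_prU, pl_apply, hyx, sympForm_self]
      simp only [_root_.zero_smul, _root_.neg_smul, _root_.one_smul, _root_.sub_neg_eq_add, _root_.zero_add, _root_.sub_self, _root_.ZeroMemClass.coe_zero]
    rw [h1, smul_zero, pl_apply, hyx, sympForm_self]
    simp only [_root_.ZeroMemClass.coe_zero, _root_.zero_smul, _root_.neg_smul, _root_.one_smul, _root_.sub_neg_eq_add, _root_.zero_add]
  have h1 := conj_zz (th hxy g) x y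
  rw [hx, hy] at h1
  exact (mul_inv_eq_iff_eq_mul).1 h1

/-- `V = U + ⟨x, y⟩` -/
theorem card_UU [Finite F] : Nat.card V = Nat.card (UU x y) * Nat.card F ^ 2 := by
  have hyx : f y x = -1 := by rw [sympForm_swap, hxy]
  have e : V ≃ UU x y × F × F :=
    { toFun := fun v => (prU hxy v, f v x, f v y)
      invFun := fun p => (p.1 : V) + (p.2.2 • x - p.2.1 • y)
      left_inv := fun v => by
        show (prU hxy v : V) + (f v y • x - f v x • y) = v
        rw [coe_prU, pl_apply]; abel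
      right_inv := fun p => by
        obtain ⟨u, a, b⟩ := p
        have h1 : f ((u : V) + (b • x - a • y)) x = a := by
          simp only [sympForm_add_left, sympForm_sub_left, sympForm_smul_left, sympForm_self, u.2.1, hyx]
          ring
        have h2 : f ((u : V) + (b • x - a • y)) y = b := by
          simp only [sympForm_add_left, sympForm_sub_left, sympForm_smul_left, sympForm_self, u.2.2, hxy]
          ring
        refine Prod.ext ?_ (Prod.ext h1 h2)
        apply Subtype.ext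
        show (prU hxy ((u : V) + (b • x - a • y)) : V) = u
        rw [coe_prU, pl_apply, h1, h2]
        abel }
  rw [Nat.card_congr e, Nat.card_prod, Nat.card_prod, pow_two]

end plane

/-! ### more hyperbolic planes -/

/-- a hyperbolic plane in `U` perpendicular to `b ∈ U` -/
theorem exists_plane (hm : 3 ≤ m) {x y b : V} (hxy : f x y = 1) (hb : b ∈ UU x y) :
    ∃ x' ∈ UU x y, ∃ y' ∈ UU x y, f x' y' = 1 ∧ f x' b = 0 ∧ f y' b = 0 := by
  have hyx : f y x = -1 := by rw [sympForm_swap, hxy]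
  let i0 : Fin m := ⟨0, by omega⟩
  let i1 : Fin m := ⟨1, by omega⟩
  let i2 : Fin m := ⟨2, by omega⟩
  have h01 : i0 ≠ i1 := fun h => by simpa [i0, i1] using congrArg Fin.val h
  have h02 : i0 ≠ i2 := fun h => by simpa [i0, i2] using congrArg Fin.val h
  have h12 : i1 ≠ i2 := fun h => by simpa [i1, i2] using congrArg Fin.val h
  have fee : ∀ i j : Fin m, f (e i) (e j) = 0 := fun i j => by
    rw [form_e_left]; simp [e]
  have fee' : ∀ i j : Fin m, f (e i) (e' j) = if i = j then 1 else 0 := fun i j => by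
    rw [form_e_left]
    by_cases h : i = j
    · subst h; simp [e']
    · rw [if_neg h]
      simp [e', h]
  have fe'e : ∀ i j : Fin m, f (e' i) (e j) = if i = j then -1 else 0 := fun i j => by
    rw [sympForm_swap, fee']
    by_cases h : i = j
    · subst h; simp
    · rw [if_neg h, if_neg (fun h' => h h'.symm), neg_zero]
  have fe'e' : ∀ i j : Fin m, f (e' i) (e' j) = 0 := fun i j => by
    rw [form_e'_left]; simp [e']
  -- it is enough to move `x, y, b` to `e 0, e' 0, c • e 1`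
  have key : ∀ (g : G) (c : F), g • x = e i0 → g • y = e' i0 → g • b = c • e i1 →
      ∃ x' ∈ UU x y, ∃ y' ∈ UU x y, f x' y' = 1 ∧ f x' b = 0 ∧ f y' b = 0 := by
    intro g c h1 h2 h3
    have h4 : ∀ u v : V, f (g⁻¹ • u) v = f u (g • v) := fun u v => by
      rw [form_smul_left, inv_inv]
    refine ⟨g⁻¹ • e i2, ⟨?_, ?_⟩, g⁻¹ • e' i2, ⟨?_, ?_⟩, ?_, ?_, ?_⟩
    · rw [h4, h1, fee]
    · rw [h4, h2, fee', if_neg (Ne.symm h02)]
    · rw [h4, h1, fe'e, if_neg (Ne.symm h02)]
    · rw [h4, h2, fe'e']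
    · rw [form_smul, fee', if_pos rfl]
    · rw [h4, h3, sympForm_smul_right, fee, mul_zero]
    · rw [h4, h3, sympForm_smul_right, fe'e, if_neg (Ne.symm h12), mul_zero]
  by_cases hb0 : b = 0
  · obtain ⟨g, h1, h2⟩ := witt_pair (linInd_of_form (F := F) (m := m) (u := x) (v := y) (by rw [hxy]; exact one_ne_zero))
      (linInd_of_form (F := F) (m := m) (u := e i0) (v := e' i0) (by rw [fee', if_pos rfl]; exact one_ne_zero))
      (by rw [hxy, fee', if_pos rfl])
    refine key g 0 h1 h2 ?_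
    rw [hb0, smul_zero', zero_smul]
  · have hlin : LinearIndependent F ![x, y, b] := by
      rw [Fintype.linearIndependent_iff]
      intro c hc
      rw [Fin.sum_univ_three] at hc
      simp only [Matrix.cons_val_zero, Matrix.cons_val_one, Matrix.cons_val_two, Matrix.head_cons, Matrix.tail_cons] at hc
      have hc' : c 0 • x + c 1 • y + c 2 • b = 0 := hc
      have h0 : c 0 = 0 := by
        have h1 := congrArg (fun v => f v y) hc'
        simp only [sympForm_add_left, sympForm_smul_left, hxy, sympForm_self, hb.2, sympForm_zero_left] at h1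
        linear_combination h1
      have h1 : c 1 = 0 := by
        have h1 := congrArg (fun v => f v x) hc'
        simp only [sympForm_add_left, sympForm_smul_left, hyx, sympForm_self, hb.1, sympForm_zero_left] at h1
        linear_combination -h1
      have h2 : c 2 = 0 := by
        rw [h0, h1, zero_smul, zero_smul, zero_add, zero_add] at hc'
        exact (smul_eq_zero.1 hc').resolve_right hb0
      intro i
      fin_cases i
      · exact h0
      · exact h1
      · exact h2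
    have hlin' : LinearIndependent F ![(e i0 : V), e' i0, e i1] := by
      rw [Fintype.linearIndependent_iff]
      intro c hc
      rw [Fin.sum_univ_three] at hc
      have hc' : c 0 • (e i0 : V) + c 1 • e' i0 + c 2 • e i1 = 0 := hc
      have h0 : c 0 = 0 := by
        have h1 := congrArg (fun v => f v (e' i0)) hc'
        simp only [sympForm_add_left, sympForm_smul_left, fee', fe'e', sympForm_zero_left, if_true,
          if_neg (Ne.symm h01)] at h1
        linear_combination h1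
      have h1 : c 1 = 0 := by
        have h1 := congrArg (fun v => f v (e i0)) hc'
        simp only [sympForm_add_left, sympForm_smul_left, fee, fe'e, sympForm_zero_left, if_true] at h1
        linear_combination -h1
      have h2 : c 2 = 0 := by
        have h1 := congrArg (fun v => f v (e' i1)) hc'
        simp only [sympForm_add_left, sympForm_smul_left, fee', fe'e', sympForm_zero_left, if_true,
          if_neg h01] at h1
        linear_combination h1
      intro i
      fin_cases i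
      · exact h0
      · exact h1
      · exact h2
    have hbx : f x b = 0 := by rw [sympForm_swap, hb.1, neg_zero]
    have hby : f y b = 0 := by rw [sympForm_swap, hb.2, neg_zero]
    obtain ⟨g, hg⟩ := witt ![x, y, b] ![(e i0 : V), e' i0, e i1] hlin hlin' (by
      have q1 := fee i0 i1
      have q2 := fe'e i0 i1
      have q3 := fee i1 i0
      have q4 := fee' i1 i0
      have q5 := fee' i0 i0
      have q6 := fe'e i0 i0
      rw [if_neg h01] at q2
      rw [if_neg (Ne.symm h01)] at q4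
      rw [if_pos rfl] at q5 q6
      intro i j
      fin_cases i <;> fin_cases j
      · exact (sympForm_self _).trans (sympForm_self _).symm
      · exact hxy.trans q5.symm
      · exact hbx.trans q1.symm
      · exact hyx.trans q6.symm
      · exact (sympForm_self _).trans (sympForm_self _).symm
      · exact hby.trans q2.symm
      · exact hb.1.trans q3.symm
      · exact hb.2.trans q4.symm
      · exact (sympForm_self _).trans (sympForm_self _).symm)
    refine key g 1 (hg 0) (hg 1) ?_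
    rw [one_smul]
    exact hg 2

/-! ### the class of `zz x y` -/

theorem cent_index_le [Finite F] {x y : V} (hxy : f x y = 1) :
    (centralizer ({zz x y} : Set G)).index * Nat.card F ^ 2 ≤ Nat.card V ^ 2 := by
  classical
  set C := centralizer ({zz x y} : Set G) with hC
  have hwt : ∀ v : V, ∃ w : V, v ≠ 0 → f v w = 1 := fun v => by
    by_cases hv : v = 0
    · exact ⟨0, fun h => absurd hv h⟩
    · obtain ⟨w, hw⟩ := exists_form_eq_one hv
      exact ⟨w, fun _ => hw⟩
  choose wt hwt using hwt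
  have hx0 : x ≠ 0 := by
    rintro rfl
    rw [sympForm_zero_left] at hxy
    exact zero_ne_one hxy
  let Φ : (G ⧸ C) × F × F → V × V := fun p =>
    (p.1.out • x, p.1.out • y + p.2.1 • p.1.out • x + p.2.2 • wt (p.1.out • x))
  have hinj : Function.Injective Φ := by
    rintro ⟨a, c, d⟩ ⟨b, c', d'⟩ hab
    have h1 : a.out • x = b.out • x := congrArg Prod.fst hab
    have h2 : a.out • y + c • a.out • x + d • wt (a.out • x) = b.out • y + c' • b.out • x + d' • wt (b.out • x) :=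
      congrArg Prod.snd hab
    have hne : a.out • x ≠ 0 := smul_ne_zero' _ hx0
    have h3 := congrArg (fun v => f (a.out • x) v) h2
    rw [← h1] at h3
    simp only [sympForm_add_right, sympForm_smul_right, sympForm_self, hwt _ hne] at h3
    have h4 : f (a.out • x) (b.out • y) = 1 := by rw [h1, form_smul, hxy]
    rw [h4, form_smul, hxy] at h3
    have hd : d = d' := by linear_combination h3
    rw [← h1, hd] at h2
    have h5 : a.out • y + c • a.out • x = b.out • y + c' • a.out • x := add_right_cancel h2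
    have h6 : zz (a.out • x) (a.out • y) = zz (b.out • x) (b.out • y) := by
      rw [← zz_add (by rw [form_smul, hxy]) c, h5, h1, zz_add (by rw [form_smul, hxy])]
    rw [← conj_zz, ← conj_zz] at h6
    have h7 : a.out⁻¹ * b.out ∈ C := by
      refine mem_centralizer_iff.2 ?_
      rintro _ rfl
      have h8 : zz x y = a.out⁻¹ * (b.out * zz x y * b.out⁻¹) * a.out := by rw [← h6]; group
      conv_lhs => rw [h8]
      group
    have h8 : a = b := by
      rw [← QuotientGroup.out_eq' a, ← QuotientGroup.out_eq' b]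
      exact QuotientGroup.eq.2 h7
    subst h8
    have h9 : (c - c') • a.out • x = 0 := by
      rw [sub_smul, sub_eq_zero]
      exact add_left_cancel h5
    have h10 := (smul_eq_zero.1 h9).resolve_right hne
    rw [sub_eq_zero.1 h10, hd]
  have h := Nat.card_le_card_of_injective Φ hinj
  rw [Nat.card_prod, Nat.card_prod, Nat.card_prod] at h
  rw [pow_two, pow_two]
  exact h

/-! ### the small case -/

section small

variable {x y : Fin m ⊕ Fin m → F} (hxy : sympForm m F x y = 1)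
include hxy

/-- `|F|` prime, index less than `|F|²`: all transvections of `U` -/
theorem Tv_of_small (hm : 3 ≤ m) (h2 : (2 : F) ≠ 0) (hn : ∀ a b : F, a ≠ 0 → ∃ k : ℕ, b = k * a) [Finite F]
    {K : Subgroup (Sp (BU x y))}
    (hK : K.index < Nat.card F ^ 2) (u : UU x y) : Tv K u := by
  classical
  have hB := symp_BU hxy
  by_cases hu : u = 0
  · subst hu
    intro a
    have h1 : t (BU x y) 0 a = 1 := by
      apply Sp.ext'
      intro v
      rw [t_smul hB]
      simp
    rw [h1]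
    exact K.one_mem
  by_contra hcon
  -- no nontrivial transvection with centre `u` in `K`
  have hno : ∀ a : F, t (BU x y) u a ∈ K → a = 0 := by
    intro a ha
    by_contra ha0
    apply hcon
    intro b
    obtain ⟨k, rfl⟩ := hn a b ha0
    have h1 : t (BU x y) u (k * a) = (t (BU x y) u a) ^ k := by
      induction k with
      | zero =>
        rw [pow_zero, Nat.cast_zero, zero_mul]
        apply Sp.ext'
        intro v
        rw [t_smul hB]
        simp only [_root_.MulZeroClass.zero_mul, _root_.zero_smul, _root_.add_zero, _root_.one_smul]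
      | succ k ih =>
        rw [pow_succ, ← ih, ← E_zero, ← E_zero, ← E_zero, E_mul hB (map_zero _) (map_zero _), add_zero]
        congr 1
        push_cast
        rw [map_zero]
        ring
    rw [h1]
    exact K.pow_mem ha k
  obtain ⟨w, hw, w', hw', hww, hwu, hwu'⟩ := exists_plane hm hxy u.2
  -- an element of `K` over every vector perpendicular to `u`
  have hex : ∀ w : UU x y, BU x y u w = 0 → ∃ c, E (BU x y) u w c ∈ K := by
    intro w hw
    have hcard : Nat.card (Sp (BU x y) ⧸ K) < Nat.card (F × F) := by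
      rw [Nat.card_prod, ← pow_two]
      exact hK
    obtain ⟨⟨a, c⟩, ⟨a', c'⟩, hne, hac⟩ : ∃ p p' : F × F, p ≠ p' ∧
        ((E (BU x y) u (p.1 • w) p.2 : Sp (BU x y)) : Sp (BU x y) ⧸ K) = (E (BU x y) u (p'.1 • w) p'.2 : Sp (BU x y)) := by
      by_contra hcon2
      push Not at hcon2
      have hinj : Function.Injective (fun p : F × F => ((E (BU x y) u (p.1 • w) p.2 : Sp (BU x y)) : Sp (BU x y) ⧸ K)) := by
        intro p p' h
        by_contra hne
        exact hcon2 p p' hne h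
      exact absurd (Nat.card_le_card_of_injective _ hinj) (not_le.2 hcard)
    have hperp : ∀ a : F, BU x y u (a • w) = 0 := fun a => by rw [map_smul, hw, smul_zero]
    have h1 := QuotientGroup.eq.1 hac
    have h3 : (E (BU x y) u (a • w) c)⁻¹ = E (BU x y) u (-(a • w)) (-c) := by
      rw [inv_eq_iff_mul_eq_one, E_mul hB (hperp a) (by rw [map_neg, hperp, neg_zero])]
      apply Sp.ext'
      intro v
      rw [add_neg_cancel, E_smul hB (map_zero _), map_neg, LinearMap.neg_apply, hB.alt]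
      simp only [_root_.smul_zero, _root_.add_zero, _root_.map_zero, _root_.zero_smul, _root_.add_neg_cancel, _root_.neg_zero, _root_.MulZeroClass.zero_mul, _root_.one_smul]
    have h4 : E (BU x y) u ((a' - a) • w) (c' - c) ∈ K := by
      have h5 : (E (BU x y) u (a • w) c)⁻¹ * E (BU x y) u (a' • w) c' = E (BU x y) u ((a' - a) • w) (c' - c) := by
        rw [h3, E_mul hB (by rw [map_neg, hperp, neg_zero]) (hperp a')]
        congr 1
        · module
        · rw [map_neg, map_smul, map_smul, LinearMap.smul_apply, hB.alt]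
          simp
          ring
      rw [← h5]
      exact h1
    by_cases hδ : a' - a = 0
    · exfalso
      rw [hδ, zero_smul] at h4
      have h5 := hno _ h4
      apply hne
      rw [sub_eq_zero.1 hδ, sub_eq_zero.1 h5]
    · obtain ⟨k, hk⟩ := hn _ 1 hδ
      have h5 : ∀ k : ℕ, ∃ c, E (BU x y) u ((k * (a' - a)) • w) c ∈ K := by
        intro k
        induction k with
        | zero =>
          refine ⟨0, ?_⟩
          have h6 : E (BU x y) u (((0 : ℕ) * (a' - a)) • w) 0 = 1 := by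
            apply Sp.ext'
            intro v
            rw [Nat.cast_zero, zero_mul, zero_smul, E_smul hB (map_zero _)]
            simp only [_root_.smul_zero, _root_.add_zero, _root_.map_zero, _root_.zero_smul, _root_.MulZeroClass.zero_mul, _root_.one_smul]
          rw [h6]
          exact K.one_mem
        | succ k ih =>
          obtain ⟨c0, hc0⟩ := ih
          have h6 := K.mul_mem hc0 h4
          rw [E_mul hB (hperp _) (hperp _), ← add_smul] at h6
          have h7 : (k : F) * (a' - a) + (a' - a) = ((k + 1 : ℕ) : F) * (a' - a) := by push_cast; ring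
          rw [h7] at h6
          exact ⟨_, h6⟩
      obtain ⟨c0, hc0⟩ := h5 k
      rw [← hk, one_smul] at hc0
      exact ⟨c0, hc0⟩
  obtain ⟨c, hc⟩ := hex ⟨w, hw⟩ (by rw [BU_apply]; rw [sympForm_swap, hwu, neg_zero])
  obtain ⟨c', hc'⟩ := hex ⟨w', hw'⟩ (by rw [BU_apply]; rw [sympForm_swap, hwu', neg_zero])
  have p1 : BU x y u ⟨w, hw⟩ = 0 := by rw [BU_apply]; rw [sympForm_swap, hwu, neg_zero]
  have p2 : BU x y u ⟨w', hw'⟩ = 0 := by rw [BU_apply]; rw [sympForm_swap, hwu', neg_zero]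
  have h1 := K.mul_mem hc hc'
  have h3 := K.mul_mem hc' hc
  rw [E_mul hB p1 p2] at h1
  rw [E_mul hB p2 p1] at h3
  have h4 := K.mul_mem h1 (K.inv_mem h3)
  have p3 : BU x y u (⟨w', hw'⟩ + ⟨w, hw⟩) = 0 := by rw [map_add, p1, p2, add_zero]
  have h5 : (E (BU x y) u (⟨w', hw'⟩ + ⟨w, hw⟩) (c' + c + BU x y ⟨w, hw⟩ ⟨w', hw'⟩))⁻¹ =
      E (BU x y) u (-(⟨w', hw'⟩ + ⟨w, hw⟩)) (-(c' + c + BU x y ⟨w, hw⟩ ⟨w', hw'⟩)) := by
    rw [inv_eq_iff_mul_eq_one, E_mul hB p3 (by rw [map_neg, p3, neg_zero])]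
    apply Sp.ext'
    intro v
    rw [add_neg_cancel, E_smul hB (map_zero _), map_neg, LinearMap.neg_apply, hB.alt]
    simp
  rw [h5, add_comm (⟨w, hw⟩ : UU x y) ⟨w', hw'⟩, E_mul hB p3 (by rw [map_neg, p3, neg_zero]), add_neg_cancel, map_neg,
    LinearMap.neg_apply, hB.alt] at h4
  have h6 := hno _ h4
  have h7 : BU x y ⟨w, hw⟩ ⟨w', hw'⟩ = 1 := hww
  have h8 : BU x y ⟨w', hw'⟩ ⟨w, hw⟩ = -1 := by rw [skew hB, h7]
  rw [h7, h8] at h6
  apply h2
  linear_combination -h6

end small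

/-! ### the theorem -/

section main

variable [Fintype F] {A : Subgroup (PSp m F)} {Γ : Subgroup (MulAut (PSp m F))}

/-- the projection -/
abbrev pi (m : ℕ) (F : Type*) [Field F] : Matrix.symplecticGroup (Fin m) F →* PSp m F :=
  QuotientGroup.mk' (center (Matrix.symplecticGroup (Fin m) F))

theorem pi_surj : Function.Surjective (pi m F) := QuotientGroup.mk'_surjective _

theorem two_ne (ho : Odd (Fintype.card F)) : (2 : F) ≠ 0 := by
  intro h2
  have : CharP F 2 := CharTwo.of_one_ne_zero_of_two_eq_zero one_ne_zero h2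
  have h3 := FiniteField.even_card_of_char_two (F := F) (ringChar.eq F 2)
  rw [Nat.odd_iff] at ho
  omega

/-- an element of the kernel is a scalar -/
theorem scalar_of_pi {g : G} (h : pi m F g = 1) : ∃ a : F, ∀ v : V, g • v = a • v := by
  have h1 : g ∈ center G := by
    have := (QuotientGroup.eq_one_iff (N := center G) g).1 h
    exact this
  obtain ⟨b, -, hb⟩ := Cfsg.Agent.ClassicalGeometry.SympAutCentral.center_scalar h1
  exact ⟨b, hb⟩

theorem exists_U (hm : 3 ≤ m) {x y : V} (hxy : f x y = 1) : ∃ u : V, u ≠ 0 ∧ f u x = 0 ∧ f u y = 0 := by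
  obtain ⟨x', hx', y', -, h1, -, -⟩ := exists_plane (F := F) hm (b := 0) hxy ⟨sympForm_zero_left _, sympForm_zero_left _⟩
  refine ⟨x', ?_, hx'⟩
  rintro rfl
  rw [sympForm_zero_left] at h1
  exact zero_ne_one h1

theorem pi_zz_ne (hm : 3 ≤ m) (h2 : (2 : F) ≠ 0) {x y : V} (hxy : f x y = 1) : pi m F (zz x y) ≠ 1 := by
  intro h
  obtain ⟨a, ha⟩ := scalar_of_pi h
  obtain ⟨u, hu, hux, huy⟩ := exists_U (F := F) hm hxy
  have h1 := ha u
  have h3 := ha x
  rw [zz_smul hxy, hux, huy] at h1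
  rw [zz_smul hxy, hxy, sympForm_self] at h3
  have hx0 : x ≠ 0 := by
    rintro rfl
    rw [sympForm_zero_left] at hxy
    exact zero_ne_one hxy
  have ha1 : (1 - a) • u = 0 := by
    rw [sub_smul, one_smul, ← h1]
    module
  have ha2 : (1 + a) • x = 0 := by
    rw [add_smul, one_smul, ← h3]
    module
  have h4 := (smul_eq_zero.1 ha1).resolve_right hu
  have h5 := (smul_eq_zero.1 ha2).resolve_right hx0
  apply h2
  linear_combination h4 + h5

theorem noncomm (hm : 3 ≤ m) : ∃ a b : PSp m F, a * b ≠ b * a := by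
  obtain ⟨x, y, hxy⟩ := Cfsg.Agent.ClassicalGeometry.SympAutExists.exists_hyperbolic (m := m) (F := F) (by omega)
  have hyx : f y x = -1 := by rw [sympForm_swap, hxy]
  refine ⟨pi m F (transv x 1), pi m F (transv y 1), fun h => ?_⟩
  have h1 : pi m F ((transv y 1 * transv x 1)⁻¹ * (transv x 1 * transv y 1)) = 1 := by
    rw [map_mul, map_inv, map_mul, map_mul, h, inv_mul_cancel]
  obtain ⟨a, ha⟩ := scalar_of_pi h1
  have h2 : ∀ v : V, (transv x (1 : F)) • (transv y (1 : F)) • v = a • (transv y (1 : F)) • (transv x (1 : F)) • v := by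
    intro v
    have := congrArg (fun w => (transv y (1 : F) * transv x (1 : F)) • w) (ha v)
    simp only [← mul_smul] at this
    rw [mul_inv_cancel_left] at this
    rw [← mul_smul, this, smul_smul', mul_smul]
  obtain ⟨u, hu, hux, huy⟩ := exists_U (F := F) hm hxy
  have h3 := h2 u
  simp only [transv_smul, hux, huy, mul_zero, zero_smul, add_zero] at h3
  have ha1 : (1 - a) • u = 0 := by rw [sub_smul, one_smul, ← h3, sub_self]
  have h4 := sub_eq_zero.1 ((smul_eq_zero.1 ha1).resolve_right hu)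
  have h5 := congrArg (fun v => f v x) (h2 y)
  simp only [transv_smul, sympForm_add_left, sympForm_smul_left, ← h4, hxy, hyx, sympForm_self, one_smul] at h5
  have h6 : (1 : F) = 0 := by linear_combination -h5
  exact one_ne_zero h6

/-- numbers -/
theorem num {q m K C : ℕ} (hq : 3 ≤ q) (hm : 3 ≤ m) (h1 : K ^ 5 < C) (h2 : C * q ^ 2 ≤ (q ^ (2 * m)) ^ 2)
    (h3 : q ^ (2 * (m - 1)) - 1 ≤ K * (q - 1)) : False := by
  obtain ⟨k, rfl⟩ : ∃ k, m = k + 3 := ⟨m - 3, by omega⟩
  have h4 : q ^ (2 * k + 3) ≤ K := by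
    by_contra hlt
    push Not at hlt
    obtain ⟨r, rfl⟩ : ∃ r, q = r + 1 := ⟨q - 1, by omega⟩
    rw [Nat.add_sub_cancel, show 2 * (k + 3 - 1) = (2 * k + 3) + 1 by omega, pow_succ] at h3
    have h5 : K * r ≤ ((r + 1) ^ (2 * k + 3) - 1) * r := Nat.mul_le_mul_right _ (by omega)
    set P := (r + 1) ^ (2 * k + 3) with hP
    have hP1 : 2 ≤ P := by
      rw [hP]
      calc 2 ≤ (r + 1) ^ 1 := by rw [pow_one]; omega
        _ ≤ _ := Nat.pow_le_pow_right (by omega) (by omega)
    obtain ⟨P', hP'⟩ : ∃ P', P = P' + 2 := ⟨P - 2, by omega⟩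
    rw [hP'] at h3 h5
    have e1 : (P' + 2) * (r + 1) - 1 = P' * r + 2 * r + P' + 1 := by
      have : (P' + 2) * (r + 1) = P' * r + 2 * r + P' + 1 + 1 := by ring
      omega
    have e2 : (P' + 2 - 1) * r = P' * r + r := by
      have : P' + 2 - 1 = P' + 1 := by omega
      rw [this]; ring
    rw [e1] at h3
    rw [e2] at h5
    omega
  have h5 : (q ^ (2 * k + 3)) ^ 5 * q ^ 2 < (q ^ (2 * (k + 3))) ^ 2 :=
    lt_of_lt_of_le (Nat.mul_lt_mul_of_pos_right (lt_of_le_of_lt (Nat.pow_le_pow_left h4 5) h1)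
      (Nat.pow_pos (by omega))) h2
  rw [← pow_mul, ← pow_mul, ← pow_add] at h5
  have h6 := (Nat.pow_lt_pow_iff_right (by omega : 1 < q)).1 h5
  omega

/-- **The step.** -/
theorem step [IsSimpleGroup (PSp m F)] (h : IF A Γ) (hm : 3 ≤ m) (ho : Odd (Fintype.card F)) {x y : V}
    (hxy : f x y = 1) (hz : pi m F (zz x y) ∈ A) {u : V} (hu : u ∈ UU x y) (c : F) : pi m F (transv u c) ∈ A := by
  classical
  have h2 := two_ne ho
  set! K := (A.comap (pi m F)).comap (th hxy) with hK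
  suffices hT : Tv K (⟨u, hu⟩ : UU x y) by
    have h1 := hT c
    rw [hK, mem_comap, mem_comap, th_t] at h1
    exact h1
  have hq3 : 3 ≤ Nat.card F := by
    rw [Nat.card_eq_fintype_card]
    have h3 : 1 < Fintype.card F := Fintype.one_lt_card
    rcases ho with ⟨k, hk⟩
    omega
  have hE := Cfsg.Agent.H847.IF.lift_E2 h (noncomm hm) (pi m F) pi_surj hz (pi_zz_ne hm h2 hxy)
    (by rw [zz_sq hxy, map_one]) (B := (th hxy).range) (by
      rintro _ ⟨g, rfl⟩
      rw [th_comm])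
  rw [← index_comap, ← hK] at hE
  have hC := cent_index_le (F := F) hxy
  have hV : Nat.card V = Nat.card F ^ (2 * m) := by
    rw [Nat.card_fun, Nat.card_sum, Nat.card_fin, two_mul]
  have hU : Nat.card (UU x y) = Nat.card F ^ (2 * (m - 1)) := by
    have h3 := card_UU (F := F) hxy
    rw [hV, show 2 * m = 2 * (m - 1) + 2 by omega, pow_add] at h3
    exact (Nat.eq_of_mul_eq_mul_right (Nat.pow_pos (by omega)) h3).symm
  rw [hV] at hC
  by_cases hex : m - 1 = 2 ∧ Nat.card F = 3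
  · obtain ⟨hm3, hF3⟩ := hex
    have hm3 : m = 3 := by omega
    refine Tv_of_small hxy hm h2 ?_ ?_ _
    · intro a b ha
      have hc : (3 : F) = 0 := by
        have h3 : ((Fintype.card F : ℕ) : F) = 0 := FiniteField.cast_card_eq_zero F
        rw [← Nat.card_eq_fintype_card, hF3] at h3
        exact_mod_cast h3
      -- F = {0, a, 2a}
      have hcard : Fintype.card F = 3 := by rw [← Nat.card_eq_fintype_card, hF3]
      have hS : ({0, a, 2 * a} : Finset F) = Finset.univ := by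
        apply Finset.eq_univ_of_card
        rw [hcard]
        have h01 : (0 : F) ≠ a := Ne.symm ha
        have h02 : (0 : F) ≠ 2 * a := (mul_ne_zero h2 ha).symm
        have h12 : a ≠ 2 * a := by
          intro h3
          apply ha
          linear_combination -h3
        rw [Finset.card_insert_of_notMem, Finset.card_insert_of_notMem, Finset.card_singleton]
        · rw [Finset.mem_singleton]; exact h12
        · rw [Finset.mem_insert, Finset.mem_singleton]
          push Not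
          exact ⟨h01, h02⟩
      have hb : b ∈ ({0, a, 2 * a} : Finset F) := by rw [hS]; exact Finset.mem_univ b
      rw [Finset.mem_insert, Finset.mem_insert, Finset.mem_singleton] at hb
      rcases hb with rfl | rfl | rfl
      · exact ⟨0, by simp⟩
      · exact ⟨1, by simp⟩
      · exact ⟨2, by push_cast; ring⟩
    · rw [hF3]
      rw [hF3] at hC
      subst hm3
      by_contra hlt
      push Not at hlt
      have h4 : (3 ^ 2) ^ 5 ≤ K.index ^ 5 := Nat.pow_le_pow_left hlt 5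
      norm_num at h4 hC
      omega
  · by_contra hcon
    have h3 := min_index (symp_BU hxy) ⟨_, hcon⟩ (m := m - 1) (by omega) hU hq3 hex
    rw [hU] at h3
    exact num hq3 hm hE hC h3

/-- **`Â` contains no fundamental involution.** -/
theorem fund [IsSimpleGroup (PSp m F)] (h : IF A Γ) (hm : 3 ≤ m) (ho : Odd (Fintype.card F)) {x y : V}
    (hxy : f x y = 1) (hz : pi m F (zz x y) ∈ A) : False := by
  apply h.ne_top
  have hall : ∀ (v : V) (c : F), transv v c ∈ A.comap (pi m F) := by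
    intro v c
    rw [mem_comap]
    obtain ⟨x', hx', y', hy', h1, h2, h3⟩ := exists_plane hm hxy (sub_pl_mem hxy v)
    have hz' : pi m F (zz x' y') ∈ A := by
      have k1 := step h hm ho hxy hz hx' 1
      have k2 := step h hm ho hxy hz hy' 1
      have k3 := A.mul_mem (A.mul_mem k1 k2) k1
      rw [← map_mul, ← map_mul] at k3
      rw [zz, map_mul]
      exact A.mul_mem k3 k3
    refine step h hm ho h1 hz' ?_ c
    have e1 : v = (v - pl x y v) + pl x y v := by abel
    rw [mem_UU]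
    constructor
    · rw [e1, sympForm_add_left, form_pl_left hx', add_zero, sympForm_swap, h2, neg_zero]
    · rw [e1, sympForm_add_left, form_pl_left hy', add_zero, sympForm_swap, h3, neg_zero]
  have htop : A.comap (pi m F) = ⊤ := by
    rw [eq_top_iff, ← T_univ, T_le]
    intro v _ c
    exact hall v c
  rw [eq_top_iff]
  intro a _
  obtain ⟨g, rfl⟩ := pi_surj (m := m) (F := F) a
  have : g ∈ A.comap (pi m F) := by rw [htop]; exact mem_top _
  exact this

/-- `fund` for an element given by its eigenspaces: `-e` on the hyperbolic plane `⟨x, y⟩`, `e` on its perpendicular space -/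
theorem fund_eig [IsSimpleGroup (PSp m F)] (h : IF A Γ) (hm : 3 ≤ m) (ho : Odd (Fintype.card F)) {x y : V}
    (hxy : f x y = 1) {g : G} {e : F} (he : e * e = 1) (hx : g • x = -(e • x)) (hy : g • y = -(e • y))
    (hu : ∀ u : V, f u x = 0 → f u y = 0 → g • u = e • u) (hg : pi m F g ∈ A) : False := by
  refine fund h hm ho hxy ?_
  have h1 : pi m F (zz x y) = pi m F g := by
    refine Cfsg.Agent.ClassicalGeometry.SympAutCentral.mk_eq_mk_iff.2 ⟨e, he, fun v => ?_⟩
    have h2 := sub_pl_mem hxy v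
    have h3 : g • v = g • (v - pl x y v) + g • (pl x y v) := by
      rw [← Cfsg.Agent.ClassicalGeometry.SympSiegel.smul_add', sub_add_cancel]
    have h4 : g • (pl x y v) = f v y • (g • x) - f v x • (g • y) := by
      rw [pl_apply, sub_eq_add_neg, Cfsg.Agent.ClassicalGeometry.SympSiegel.smul_add', ← neg_smul, Cfsg.Agent.ClassicalGeometry.SympSiegel.smul_smul', Cfsg.Agent.ClassicalGeometry.SympSiegel.smul_smul',
        neg_smul, ← sub_eq_add_neg]
    rw [h3, h4, hu _ h2.1 h2.2, hx, hy, zz_smul hxy, pl_apply]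
    module
  rw [h1]
  exact hg

end main

end Cfsg.Agent.H511.IF
end

-- part: H900/IF/Zeta
section
/-!
# S5719, orthogonal groups, `q` odd: fundamental involutions of an overgroup of a fundamental `SL₂` (helper900)

`h : Four Q e₁ f₁ e₂ f₂`, `K₁ = h.rhoE.range`, `z = h.rhoE (-1)`.

* `card_le_of_not_comm` : an element `g` of `E Q` not commuting with `z` is centralized by at most `q` elements of `SL₂(q)`;
* `card_le_of_comm` : an element commuting with `z`, not `±1` on `V_-(z)`, by at most `2q`;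
* `zeta` : dimension seven, `K₁ ≤ A`: `z` is the only fundamental involution of `A` or there are at least
  `(q² + 1)/2` of them.
-/

set_option autoImplicit false
set_option linter.unusedSimpArgs false
set_option linter.unusedVariables false
set_option linter.unusedSectionVars false

namespace Cfsg.Agent.H900.IF

open Module QuadraticMap Cfsg.Agent.LieClassical Cfsg.Agent.LieClassical.OrthCore Cfsg.Agent.LieClassical.OrthTrans
  Cfsg.Agent.LieClassical.OrthSimple Cfsg.Agent.AutOrth.SemiSim Cfsg.Agent.AutOrth.Gen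
  Cfsg.Agent.H989.Gs.Gen Cfsg.Agent.H989.Fx Cfsg.Agent.H198.IF
open Cfsg.Agent.UGT.U2.FOne.Orth (Four)
open Matrix (SpecialLinearGroup)

variable {F V : Type*} [Field F] [AddCommGroup V] [Module F V] {Q : QuadraticForm F V}
  {e₁ f₁ e₂ f₂ : V}

theorem neg_entries : (neg₂ F).1 0 0 = -1 ∧ (neg₂ F).1 0 1 = 0 ∧ (neg₂ F).1 1 0 = 0 ∧ (neg₂ F).1 1 1 = -1 := by
  simp only [neg₂, _root_.Fin.isValue, _root_.Matrix.neg_apply, _root_.Matrix.one_apply_eq, _root_.ne_eq, _root_.zero_ne_one, _root_.not_false_eq_true, _root_.Matrix.one_apply_ne, _root_.neg_zero, _root_.one_ne_zero, _root_.and_self]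

theorem inv_entries (k : _root_.Matrix.SpecialLinearGroup (Fin 2) F) : (k⁻¹).1 0 0 = k.1 1 1 ∧ (k⁻¹).1 0 1 = -k.1 0 1 ∧
    (k⁻¹).1 1 0 = -k.1 1 0 ∧ (k⁻¹).1 1 1 = k.1 0 0 := by
  rw [Matrix.SpecialLinearGroup.coe_inv, Matrix.adjugate_fin_two]
  exact ⟨rfl, rfl, rfl, rfl⟩

/-- `2 (k + k⁻¹) = (2 + tr k) + (2 - tr k) z` -/
theorem two_add_inv (h : Four Q e₁ f₁ e₂ f₂) (k : _root_.Matrix.SpecialLinearGroup (Fin 2) F) (v : V) :
    (2 : F) • (ap (h.rhoE k) v + ap (h.rhoE k⁻¹) v) =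
      (2 + (k.1 0 0 + k.1 1 1)) • v + (2 - (k.1 0 0 + k.1 1 1)) • ap (h.rhoE (neg₂ F)) v := by
  have key : ∀ (k : _root_.Matrix.SpecialLinearGroup (Fin 2) F) (v : V), ap (h.rhoE k) v = h.phi k v := fun _ _ => rfl
  obtain ⟨i00, i01, i10, i11⟩ := inv_entries k
  obtain ⟨m00, m01, m10, m11⟩ := neg_entries (F := F)
  rw [key, key, key]
  unfold Four.phi
  rw [i00, i01, i10, i11, m00, m01, m10, m11]
  module

/-- an element commuting with a nontrivial semisimple element of `K₁` commutes with `z` -/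
theorem comm_z_of_comm (h : Four Q e₁ f₁ e₂ f₂) {k : _root_.Matrix.SpecialLinearGroup (Fin 2) F} {g : ↥(E Q)}
    (hk : g * h.rhoE k = h.rhoE k * g) (ht : k.1 0 0 + k.1 1 1 ≠ 2) :
    g * h.rhoE (neg₂ F) = h.rhoE (neg₂ F) * g := by
  have hk' : g * h.rhoE k⁻¹ = h.rhoE k⁻¹ * g := by
    rw [map_inv]
    exact (Commute.inv_right (show Commute g (h.rhoE k) from hk)).eq
  apply ext_ap
  intro v
  have h1 := two_add_inv h k (ap g v)
  have h2 := congrArg (ap g) (two_add_inv h k v)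
  rw [← ap_mul, ← ap_mul, ← hk, ← hk', ap_mul, ap_mul] at h1
  rw [ap_smul, ap_add, ap_add, ap_smul, ap_smul] at h2
  rw [h1] at h2
  have h3 : (2 - (k.1 0 0 + k.1 1 1)) • (ap (h.rhoE (neg₂ F)) (ap g v) - ap g (ap (h.rhoE (neg₂ F)) v)) = 0 := by
    rw [smul_sub, sub_eq_zero]
    exact add_left_cancel h2
  rcases smul_eq_zero.1 h3 with h4 | h4
  · exact absurd (sub_eq_zero.1 h4).symm ht
  · rw [ap_mul, ap_mul]
    exact (sub_eq_zero.1 h4).symm

/-- the elements of `SL₂` commuting with `g` -/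
def St (h : Four Q e₁ f₁ e₂ f₂) (g : ↥(E Q)) : Subgroup (_root_.Matrix.SpecialLinearGroup (Fin 2) F) :=
  (Subgroup.centralizer ({g} : Set ↥(E Q))).comap h.rhoE

theorem mem_St {h : Four Q e₁ f₁ e₂ f₂} {g : ↥(E Q)} {k : _root_.Matrix.SpecialLinearGroup (Fin 2) F} :
    k ∈ St h g ↔ g * h.rhoE k = h.rhoE k * g := by
  rw [St, Subgroup.mem_comap, Subgroup.mem_centralizer_singleton_iff]
  exact eq_comm

/-- the conjugates of `g` under `K₁` -/
def Cj (h : Four Q e₁ f₁ e₂ f₂) (g : ↥(E Q)) : Set ↥(E Q) :=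
  Set.range fun k : _root_.Matrix.SpecialLinearGroup (Fin 2) F => h.rhoE k * g * (h.rhoE k)⁻¹

theorem card_SL2 [Finite F] : Nat.card (_root_.Matrix.SpecialLinearGroup (Fin 2) F) = Nat.card F * (Nat.card F ^ 2 - 1) := by
  have : Fintype F := Fintype.ofFinite F
  have h1 := Cfsg.Agent.S0242.result (F := F) rfl 2 (by norm_num)
  have hq : 2 ≤ Fintype.card F := Fintype.one_lt_card
  rw [Fin.prod_univ_two] at h1
  have h3 : Fintype.card F ^ 2 - Fintype.card F ^ 1 = (Fintype.card F - 1) * Fintype.card F := by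
    rw [Nat.sub_mul, one_mul, pow_one, pow_two]
  simp only [Fin.val_zero, Fin.val_one, pow_zero] at h1
  rw [h3] at h1
  have h4 : (Fintype.card F - 1) * Nat.card (Matrix.SpecialLinearGroup (Fin 2) F) =
      (Fintype.card F - 1) * (Fintype.card F * (Fintype.card F ^ 2 - 1)) := by rw [h1]; ring
  rw [Nat.card_eq_fintype_card (α := F)]
  exact Nat.eq_of_mul_eq_mul_left (by omega) h4

/-- orbit and stabilizer -/
theorem card_Cj [Finite F] (h : Four Q e₁ f₁ e₂ f₂) (g : ↥(E Q)) :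
    (Cj h g).ncard * Nat.card (St h g) = Nat.card F * (Nat.card F ^ 2 - 1) := by
  rw [← card_SL2 (F := F), ← Subgroup.index_mul_card (St h g)]
  congr 1
  rw [Subgroup.index, ← Nat.card_coe_set_eq]
  refine (Nat.card_congr (Equiv.ofBijective (Quotient.lift
    (fun k : _root_.Matrix.SpecialLinearGroup (Fin 2) F => (⟨h.rhoE k * g * (h.rhoE k)⁻¹, ⟨k, rfl⟩⟩ : Cj h g)) ?_) ⟨?_, ?_⟩)).symm
  · intro a b hab
    have h1 : a⁻¹ * b ∈ St h g := QuotientGroup.leftRel_apply.1 hab
    rw [mem_St, map_mul, map_inv] at h1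
    apply Subtype.ext
    change h.rhoE a * g * (h.rhoE a)⁻¹ = h.rhoE b * g * (h.rhoE b)⁻¹
    rw [eq_mul_inv_iff_mul_eq, mul_assoc, mul_assoc, h1]
    group
  · intro a b hab
    induction a using QuotientGroup.induction_on with
    | H a =>
      induction b using QuotientGroup.induction_on with
      | H b =>
        have h1 : h.rhoE a * g * (h.rhoE a)⁻¹ = h.rhoE b * g * (h.rhoE b)⁻¹ := congrArg Subtype.val hab
        rw [QuotientGroup.eq, mem_St, map_mul, map_inv]
        rw [eq_mul_inv_iff_mul_eq] at h1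
        have h2 : g * ((h.rhoE a)⁻¹ * h.rhoE b) = (h.rhoE a)⁻¹ * (h.rhoE a * g * (h.rhoE a)⁻¹ * h.rhoE b) := by group
        rw [h2, h1]
        group
  · rintro ⟨_, ⟨k, rfl⟩⟩
    exact ⟨(k : _root_.Matrix.SpecialLinearGroup (Fin 2) F ⧸ St h g), rfl⟩

/-- **an element not commuting with `z` commutes with at most `q` elements of `SL₂(q)`** -/
theorem card_le_of_not_comm [Finite F] (h : Four Q e₁ f₁ e₂ f₂) {g : ↥(E Q)}
    (hg : g * h.rhoE (neg₂ F) ≠ h.rhoE (neg₂ F) * g) : Nat.card (St h g) ≤ Nat.card F := by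
  classical
  have := Fintype.ofFinite F
  obtain ⟨p, hp⟩ := CharP.exists F
  have hpf : Fact p.Prime := ⟨CharP.char_is_prime F p⟩
  have h1 : IsPGroup p (St h g) := by
    intro x
    refine ⟨1, ?_⟩
    apply Subtype.ext
    have h2 : (x : _root_.Matrix.SpecialLinearGroup (Fin 2) F).1 0 0 + (x : _root_.Matrix.SpecialLinearGroup (Fin 2) F).1 1 1 = 2 := by
      by_contra hne
      exact hg (comm_z_of_comm h (mem_St.1 x.2) hne)
    rw [pow_one]
    exact Cfsg.Agent.H94.IF.pow_char_of_trace_two (p := p) h2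
  obtain ⟨n, hn⟩ := IsPGroup.iff_card.1 h1
  obtain ⟨m, -, hm⟩ := FiniteField.card F p
  have hm' : Nat.card F = p ^ (m : ℕ) := by rw [Nat.card_eq_fintype_card, hm]
  have hq2 : 2 ≤ Nat.card F := by
    have := Fintype.one_lt_card (α := F)
    rw [Nat.card_eq_fintype_card]; omega
  have h3 : p ^ n ∣ Nat.card F * (Nat.card F ^ 2 - 1) := by
    rw [← hn, ← card_SL2 (F := F)]
    exact Subgroup.card_subgroup_dvd_card _
  have h4 : Nat.Coprime (p ^ n) (Nat.card F ^ 2 - 1) := by
    apply Nat.Coprime.pow_left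
    rw [Nat.Prime.coprime_iff_not_dvd hpf.out]
    intro hd
    have h5 : p ∣ Nat.card F ^ 2 := by
      rw [hm', ← pow_mul]
      exact dvd_pow_self _ (by have := m.2; positivity)
    have h6 : 1 ≤ Nat.card F ^ 2 := Nat.one_le_pow _ _ (by omega)
    have h7 := Nat.dvd_sub h5 hd
    rw [Nat.sub_sub_self h6] at h7
    exact hpf.out.one_lt.ne' (Nat.dvd_one.1 h7)
  rw [hn]
  exact Nat.le_of_dvd (by omega) (h4.dvd_of_dvd_mul_right h3)

/-! ### The commuting case -/

theorem det_rel (k : _root_.Matrix.SpecialLinearGroup (Fin 2) F) : k.1 0 0 * k.1 1 1 - k.1 0 1 * k.1 1 0 = 1 := by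
  have := k.2
  rwa [Matrix.det_fin_two] at this

theorem sl_ext' {a b : _root_.Matrix.SpecialLinearGroup (Fin 2) F} (h00 : a.1 0 0 = b.1 0 0) (h01 : a.1 0 1 = b.1 0 1)
    (h10 : a.1 1 0 = b.1 1 0) (h11 : a.1 1 1 = b.1 1 1) : a = b := by
  apply Subtype.ext
  ext i j
  fin_cases i <;> fin_cases j <;> assumption

/-- elements of `SL₂` proportional to a nonscalar matrix, modulo scalars -/
theorem card_le_two [Finite F] (h2 : (2 : F) ≠ 0) (S : Subgroup (_root_.Matrix.SpecialLinearGroup (Fin 2) F)) {a b d : F}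
    (hne : ¬ (a = 0 ∧ b = 0 ∧ d = 0))
    (hS : ∀ k ∈ S, k.1 1 0 * a = k.1 0 1 * b ∧ k.1 1 0 * d = b * (k.1 0 0 - k.1 1 1) ∧
      k.1 0 1 * d = a * (k.1 0 0 - k.1 1 1)) : Nat.card S ≤ 2 * Nat.card F := by
  classical
  have := Fintype.ofFinite F
  have := Fintype.ofFinite S
  have hs : ∀ k : S, ∃ s : F, (k : _root_.Matrix.SpecialLinearGroup (Fin 2) F).1 0 1 = s * a ∧
      (k : _root_.Matrix.SpecialLinearGroup (Fin 2) F).1 1 0 = s * b ∧
      (k : _root_.Matrix.SpecialLinearGroup (Fin 2) F).1 0 0 - (k : _root_.Matrix.SpecialLinearGroup (Fin 2) F).1 1 1 = s * d := by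
    intro k
    obtain ⟨h1, h3, h4⟩ := hS k k.2
    by_cases ha : a = 0
    · by_cases hb : b = 0
      · have hd : d ≠ 0 := fun hd => hne ⟨ha, hb, hd⟩
        refine ⟨(k.1.1 0 0 - k.1.1 1 1) / d, ?_, ?_, ?_⟩
        · rw [ha, mul_zero]
          rw [ha, zero_mul] at h4
          exact (mul_eq_zero.1 h4).resolve_right hd
        · rw [hb, mul_zero]
          rw [hb, zero_mul] at h3
          exact (mul_eq_zero.1 h3).resolve_right hd
        · rw [div_mul_cancel₀ _ hd]
      · refine ⟨k.1.1 1 0 / b, ?_, ?_, ?_⟩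
        · rw [div_mul_eq_mul_div, eq_div_iff hb]
          exact h1.symm
        · rw [div_mul_cancel₀ _ hb]
        · rw [div_mul_eq_mul_div, eq_div_iff hb]
          linear_combination -h3
    · refine ⟨k.1.1 0 1 / a, ?_, ?_, ?_⟩
      · rw [div_mul_cancel₀ _ ha]
      · rw [div_mul_eq_mul_div, eq_div_iff ha]
        exact h1
      · rw [div_mul_eq_mul_div, eq_div_iff ha]
        linear_combination -h4
  choose f hf1 hf2 hf3 using hs
  have hrel : ∀ k : S, (k.1.1 0 0 + k.1.1 1 1) ^ 2 = f k ^ 2 * (d ^ 2 + 4 * a * b) + 4 := by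
    intro k
    have e1 := hf1 k
    have e2 := hf2 k
    have e3 := hf3 k
    have e4 := det_rel k.1
    have e5 : (k.1.1 0 0 - k.1.1 1 1) ^ 2 = (f k * d) ^ 2 := by rw [e3]
    have e6 : k.1.1 0 1 * k.1.1 1 0 = (f k * a) * (f k * b) := by rw [e1, e2]
    linear_combination e5 + 4 * e6 + 4 * e4
  rw [Nat.card_eq_fintype_card, Nat.card_eq_fintype_card, ← Finset.card_univ, ← Finset.card_univ]
  refine Finset.card_le_mul_card_image_of_maps_to (f := f) (fun _ _ => Finset.mem_univ _) 2 ?_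
  intro s _
  have h1 : Finset.card (Finset.univ.filter fun k => f k = s) ≤
      Finset.card (Polynomial.nthRoots 2 (s ^ 2 * (d ^ 2 + 4 * a * b) + 4)).toFinset := by
    refine Finset.card_le_card_of_injOn (fun k => k.1.1 0 0 + k.1.1 1 1) ?_ ?_
    · intro k hk
      rw [Finset.mem_coe, Finset.mem_filter] at hk
      rw [Finset.mem_coe, Multiset.mem_toFinset, Polynomial.mem_nthRoots (by norm_num)]
      rw [← hk.2]
      exact hrel k
    · intro k hk k' hk' h
      rw [Finset.mem_coe, Finset.mem_filter] at hk hk'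
      apply Subtype.ext
      have e1 := hf1 k
      have e2 := hf2 k
      have e3 := hf3 k
      have e1' := hf1 k'
      have e2' := hf2 k'
      have e3' := hf3 k'
      rw [hk.2] at e1 e2 e3
      rw [hk'.2] at e1' e2' e3'
      have h : k.1.1 0 0 + k.1.1 1 1 = k'.1.1 0 0 + k'.1.1 1 1 := h
      apply sl_ext'
      · apply mul_left_cancel₀ h2
        linear_combination e3 - e3' + h
      · rw [e1, e1']
      · rw [e2, e2']
      · apply mul_left_cancel₀ h2
        linear_combination -e3 + e3' + h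
  refine h1.trans ((Multiset.toFinset_card_le _).trans (Polynomial.card_nthRoots 2 _))

/-- a block of an element commuting with `k` commutes with `k` -/
theorem blk (h : Four Q e₁ f₁ e₂ f₂) {s : ↥(E Q)} {k : _root_.Matrix.SpecialLinearGroup (Fin 2) F}
    (hs : s * h.rhoE k = h.rhoE k * s) {b₁ b₂ : V} {l₁ l₂ : V →ₗ[F] F}
    (hb1 : ap (h.rhoE k) b₁ = k.1 0 0 • b₁ + k.1 1 0 • b₂) (hb2 : ap (h.rhoE k) b₂ = k.1 0 1 • b₁ + k.1 1 1 • b₂)
    (hl1 : ∀ v, l₁ (ap (h.rhoE k) v) = k.1 0 0 * l₁ v + k.1 0 1 * l₂ v)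
    (hl2 : ∀ v, l₂ (ap (h.rhoE k) v) = k.1 1 0 * l₁ v + k.1 1 1 * l₂ v) :
    k.1 1 0 * l₁ (ap s b₂) = k.1 0 1 * l₂ (ap s b₁) ∧
    k.1 1 0 * (l₁ (ap s b₁) - l₂ (ap s b₂)) = l₂ (ap s b₁) * (k.1 0 0 - k.1 1 1) ∧
    k.1 0 1 * (l₁ (ap s b₁) - l₂ (ap s b₂)) = l₁ (ap s b₂) * (k.1 0 0 - k.1 1 1) := by
  have key : ∀ v, ap s (ap (h.rhoE k) v) = ap (h.rhoE k) (ap s v) := by
    intro v
    rw [← ap_mul, hs, ap_mul]
  have c1 := congrArg l₁ (key b₁)
  have c2 := congrArg l₂ (key b₁)
  have c3 := congrArg l₁ (key b₂)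
  have c4 := congrArg l₂ (key b₂)
  rw [hb1, ap_add, ap_smul, ap_smul, map_add, map_smul, map_smul, smul_eq_mul, smul_eq_mul, hl1] at c1
  rw [hb1, ap_add, ap_smul, ap_smul, map_add, map_smul, map_smul, smul_eq_mul, smul_eq_mul, hl2] at c2
  rw [hb2, ap_add, ap_smul, ap_smul, map_add, map_smul, map_smul, smul_eq_mul, smul_eq_mul, hl1] at c3
  refine ⟨?_, ?_, ?_⟩
  · linear_combination c1
  · linear_combination -c2
  · linear_combination c3

/-- a vector of the `-1` space of `z` -/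
theorem eq_comb (h2 : (2 : F) ≠ 0) (h : Four Q e₁ f₁ e₂ f₂) {v : V} (hv : ap (h.rhoE (neg₂ F)) v = -v) :
    v = polar Q f₁ v • e₁ + polar Q f₂ v • e₂ + polar Q e₂ v • f₂ + polar Q e₁ v • f₁ := by
  have key : ap (h.rhoE (neg₂ F)) v = h.phi (neg₂ F) v := rfl
  obtain ⟨m00, m01, m10, m11⟩ := neg_entries (F := F)
  rw [key] at hv
  unfold Four.phi at hv
  rw [m00, m01, m10, m11] at hv
  have h3 : (2 : F) • (v - (polar Q f₁ v • e₁ + polar Q f₂ v • e₂ + polar Q e₂ v • f₂ + polar Q e₁ v • f₁)) = 0 := by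
    have : (2 : F) • (v - (polar Q f₁ v • e₁ + polar Q f₂ v • e₂ + polar Q e₂ v • f₂ + polar Q e₁ v • f₁)) =
      (v + ((-1 - 1) * polar Q f₁ v + 0 * polar Q f₂ v) • e₁ + (0 * polar Q f₁ v + (-1 - 1) * polar Q f₂ v) • e₂ +
        ((-1 - 1) * polar Q e₁ v - 0 * polar Q e₂ v) • f₁ + (-0 * polar Q e₁ v + (-1 - 1) * polar Q e₂ v) • f₂) + v := by
      module
    rw [this, hv, neg_add_cancel]
  exact sub_eq_zero.1 ((smul_eq_zero.1 h3).resolve_left h2)

/-- **an involution commuting with `z`** -/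
theorem comm_case [Finite F] (h2 : (2 : F) ≠ 0) (h : Four Q e₁ f₁ e₂ f₂) {s : ↥(E Q)} (hs : s * s = 1)
    (hz : s * h.rhoE (neg₂ F) = h.rhoE (neg₂ F) * s) : Nat.card (St h s) ≤ 2 * Nat.card F ∨
    ∃ c : F, (c = 1 ∨ c = -1) ∧ ap s e₁ = c • e₁ ∧ ap s f₁ = c • f₁ ∧ ap s e₂ = c • e₂ ∧ ap s f₂ = c • f₂ := by
  by_cases hc : Nat.card (St h s) ≤ 2 * Nat.card F
  · exact Or.inl hc
  right
  obtain ⟨p1, p2, p3, p4, p5, p6, p7, p8, p9, p10, p11, p12, p13, p14, p15, p16⟩ := h.pols
  have k1 : ∀ k : _root_.Matrix.SpecialLinearGroup (Fin 2) F, ap (h.rhoE k) e₁ = k.1 0 0 • e₁ + k.1 1 0 • e₂ := fun k => h.rho_e1 k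
  have k2 : ∀ k : _root_.Matrix.SpecialLinearGroup (Fin 2) F, ap (h.rhoE k) e₂ = k.1 0 1 • e₁ + k.1 1 1 • e₂ := fun k => h.rho_e2 k
  have k3 : ∀ k : _root_.Matrix.SpecialLinearGroup (Fin 2) F, ap (h.rhoE k) f₂ = k.1 0 0 • f₂ + k.1 1 0 • (-f₁) := fun k => by
    refine (h.rho_f2 k).trans ?_
    module
  have k4 : ∀ k : _root_.Matrix.SpecialLinearGroup (Fin 2) F, ap (h.rhoE k) (-f₁) = k.1 0 1 • f₂ + k.1 1 1 • (-f₁) := fun k => by
    rw [ap_neg]
    refine (congrArg _ (h.rho_f1 k)).trans ?_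
    module
  let L1 : V →ₗ[F] F := polarBilin Q f₁
  let L2 : V →ₗ[F] F := polarBilin Q f₂
  let M1 : V →ₗ[F] F := polarBilin Q e₂
  let M2 : V →ₗ[F] F := -polarBilin Q e₁
  have hL1 : ∀ v, L1 v = polar Q f₁ v := fun _ => rfl
  have hL2 : ∀ v, L2 v = polar Q f₂ v := fun _ => rfl
  have hM1 : ∀ v, M1 v = polar Q e₂ v := fun _ => rfl
  have hM2 : ∀ v, M2 v = -polar Q e₁ v := fun _ => rfl
  have l1 : ∀ (k : _root_.Matrix.SpecialLinearGroup (Fin 2) F) v, L1 (ap (h.rhoE k) v) = k.1 0 0 * L1 v + k.1 0 1 * L2 v :=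
    fun k v => h.polar_f1 k v
  have l2 : ∀ (k : _root_.Matrix.SpecialLinearGroup (Fin 2) F) v, L2 (ap (h.rhoE k) v) = k.1 1 0 * L1 v + k.1 1 1 * L2 v :=
    fun k v => h.polar_f2 k v
  have m1 : ∀ (k : _root_.Matrix.SpecialLinearGroup (Fin 2) F) v, M1 (ap (h.rhoE k) v) = k.1 0 0 * M1 v + k.1 0 1 * M2 v := by
    intro k v
    rw [hM1, hM1, hM2]
    refine (h.polar_e2 k v).trans ?_
    ring
  have m2 : ∀ (k : _root_.Matrix.SpecialLinearGroup (Fin 2) F) v, M2 (ap (h.rhoE k) v) = k.1 1 0 * M1 v + k.1 1 1 * M2 v := by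
    intro k v
    rw [hM1, hM2, hM2]
    refine (congrArg _ (h.polar_e1 k v)).trans ?_
    ring
  have gen : ∀ {b₁ b₂ : V} {l₁ l₂ : V →ₗ[F] F},
      (∀ k : _root_.Matrix.SpecialLinearGroup (Fin 2) F, ap (h.rhoE k) b₁ = k.1 0 0 • b₁ + k.1 1 0 • b₂) →
      (∀ k : _root_.Matrix.SpecialLinearGroup (Fin 2) F, ap (h.rhoE k) b₂ = k.1 0 1 • b₁ + k.1 1 1 • b₂) →
      (∀ (k : _root_.Matrix.SpecialLinearGroup (Fin 2) F) v, l₁ (ap (h.rhoE k) v) = k.1 0 0 * l₁ v + k.1 0 1 * l₂ v) →
      (∀ (k : _root_.Matrix.SpecialLinearGroup (Fin 2) F) v, l₂ (ap (h.rhoE k) v) = k.1 1 0 * l₁ v + k.1 1 1 * l₂ v) →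
      l₁ (ap s b₂) = 0 ∧ l₂ (ap s b₁) = 0 ∧ l₁ (ap s b₁) = l₂ (ap s b₂) := by
    intro b₁ b₂ l₁ l₂ q1 q2 q3 q4
    by_contra hne
    apply hc
    refine card_le_two h2 (St h s) (a := l₁ (ap s b₂)) (b := l₂ (ap s b₁)) (d := l₁ (ap s b₁) - l₂ (ap s b₂)) ?_ ?_
    · rintro ⟨r1, r2, r3⟩
      exact hne ⟨r1, r2, sub_eq_zero.1 r3⟩
    · intro k hk
      exact blk h (mem_St.1 hk) (q1 k) (q2 k) (q3 k) (q4 k)
  obtain ⟨A1, A2, A3⟩ := gen k1 k2 l1 l2
  obtain ⟨B1, B2, B3⟩ := gen k1 k2 m1 m2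
  obtain ⟨C1, C2, C3⟩ := gen k3 k4 l1 l2
  obtain ⟨D1, D2, D3⟩ := gen k3 k4 m1 m2
  simp only [hL1, hL2, hM1, hM2, ap_neg, polar_neg_right, neg_neg, neg_eq_zero] at A1 A2 A3 B1 B2 B3 C1 C2 C3 D1 D2 D3
  have hzs : ∀ v, ap (h.rhoE (neg₂ F)) v = -v → ap s v = polar Q f₁ (ap s v) • e₁ + polar Q f₂ (ap s v) • e₂ +
      polar Q e₂ (ap s v) • f₂ + polar Q e₁ (ap s v) • f₁ := by
    intro v hv
    apply eq_comb h2 h
    rw [← ap_mul, ← hz, ap_mul, hv, ap_neg]
  obtain ⟨z1, z2, z3, z4⟩ := rho_neg h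
  have s1 := hzs e₁ z1
  have s2 := hzs f₁ z2
  have s3 := hzs e₂ z3
  have s4 := hzs f₂ z4
  have s1' : ap s e₁ = polar Q f₁ (ap s e₁) • e₁ + polar Q e₂ (ap s e₁) • f₂ := by
    refine s1.trans ?_
    rw [A2, B2]
    module
  have s4' : ap s f₂ = polar Q f₁ (ap s f₂) • e₁ + polar Q e₂ (ap s f₂) • f₂ := by
    refine s4.trans ?_
    rw [C2, D2]
    module
  have s3' : ap s e₂ = polar Q f₁ (ap s e₁) • e₂ - polar Q e₂ (ap s e₁) • f₁ := by
    refine s3.trans ?_
    rw [A1, B1, A3, B3]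
    module
  have s2' : ap s f₁ = -(polar Q f₁ (ap s f₂) • e₂) + polar Q e₂ (ap s f₂) • f₁ := by
    refine s2.trans ?_
    rw [C1, D1, C3, D3]
    module
  generalize polar Q f₁ (ap s e₁) = p at s1' s3'
  generalize polar Q e₂ (ap s e₁) = r at s1' s3'
  generalize polar Q f₁ (ap s f₂) = p' at s2' s4'
  generalize polar Q e₂ (ap s f₂) = t at s2' s4'
  have hss : ∀ v, ap s (ap s v) = v := fun v => by rw [← ap_mul, hs, ap_one]
  have t1 := hss e₁
  have t2 := hss f₂
  have t3 := polar_ap s e₁ f₁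
  rw [s1', ap_add, ap_smul, ap_smul, s1', s4'] at t1
  rw [s4', ap_add, ap_smul, ap_smul, s1', s4'] at t2
  rw [s1', s2'] at t3
  have u1 := congrArg (polar Q f₁) t1
  have u2 := congrArg (polar Q e₂) t1
  have u3 := congrArg (polar Q f₁) t2
  have u4 := congrArg (polar Q e₂) t2
  simp only [polar_add_right, polar_add_left, polar_smul_right, polar_smul_left, polar_neg_right, smul_eq_mul,
    p1, p2, p3, p4, p5, p6, p7, p8, p9, p10, p11, p12, p13, p14, p15, p16, mul_zero, mul_one, add_zero, zero_add,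
    neg_zero] at u1 u2 u3 u4 t3
  have hpt : p + t ≠ 0 := by
    intro h0
    have : (2 : F) = 0 := by linear_combination p * h0 - u1 - t3
    exact h2 this
  have hr : r = 0 := by
    have : r * (p + t) = 0 := by linear_combination u2
    exact (mul_eq_zero.1 this).resolve_right hpt
  have hp' : p' = 0 := by
    have : p' * (p + t) = 0 := by linear_combination u3
    exact (mul_eq_zero.1 this).resolve_right hpt
  subst hr hp'
  have hpp : (p - 1) * (p + 1) = 0 := by linear_combination u1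
  have htp : t = p := by linear_combination p * t3 - t * u1
  subst htp
  refine ⟨t, ?_, ?_, ?_, ?_, ?_⟩
  · rcases mul_eq_zero.1 hpp with h0 | h0
    · exact Or.inl (sub_eq_zero.1 h0)
    · exact Or.inr (eq_neg_of_add_eq_zero_left h0)
  · rw [s1']; module
  · rw [s2']; module
  · rw [s3']; module
  · rw [s4']; module

/-- **Fundamental involutions of an overgroup of a fundamental `SL₂`**, dimension seven. -/
theorem zeta [Finite F] [FiniteDimensional F V] (h2 : (2 : F) ≠ 0) (hQ : Nondeg Q) (h7 : Module.finrank F V = 7)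
    {A : Subgroup ↥(E Q)} {e₁ f₁ e₂ f₂ : V} (h : Four Q e₁ f₁ e₂ f₂) (hA : h.rhoE.range ≤ A) :
    {s : ↥(E Q) | Fund Q s ∧ s ∈ A}.ncard = 1 ∨
      Nat.card F ^ 2 + 1 ≤ 2 * {s : ↥(E Q) | Fund Q s ∧ s ∈ A}.ncard := by
  classical
  have : Finite V := Module.finite_of_finite F
  have hfin : Finite ↥(E Q) := Finite.of_injective (fun (g : ↥(E Q)) (v : V) => ap g v) fun a b hab =>
    ext_ap fun v => congrFun hab v
  set! z := h.rhoE (neg₂ F) with hzdef
  have hzF : Fund Q z := fund_rho h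
  have hzA : z ∈ A := hA ⟨_, rfl⟩
  obtain ⟨z1, z2, z3, z4⟩ := rho_neg h
  have hq2 : 2 ≤ Nat.card F := Finite.one_lt_card
  have hq3 : 4 ≤ Nat.card F ^ 2 := by nlinarith only [hq2]
  by_cases hall : ∀ s : ↥(E Q), Fund Q s → s ∈ A → s = z
  · left
    rw [Set.ncard_eq_one]
    refine ⟨z, ?_⟩
    ext s
    exact ⟨fun hs => hall s hs.1 hs.2, fun hs => by rw [Set.mem_singleton_iff.1 hs]; exact ⟨hzF, hzA⟩⟩
  right
  push Not at hall
  obtain ⟨s, hsF, hsA, hsz⟩ := hall
  have hcard : Nat.card (St h s) ≤ 2 * Nat.card F := by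
    by_cases hc : s * z = z * s
    · rcases comm_case h2 h hsF.sq hc with h3 | ⟨c, hc1, k1, k2, k3, k4⟩
      · exact h3
      exfalso
      have hNz : ∀ v ∈ _root_.Cfsg.Agent.H198.IF.Neg z, ap s v = c • v := by
        intro v hv
        have h3 := eq_comb h2 h hv
        rw [h3]
        simp only [ap_add, ap_smul, k1, k2, k3, k4]
        module
      rcases hc1 with rfl | rfl
      · have h3 : Disjoint (_root_.Cfsg.Agent.H198.IF.Neg s) (_root_.Cfsg.Agent.H198.IF.Neg z) := by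
          rw [Submodule.disjoint_def]
          intro v hv1 hv2
          have h4 := hNz v hv2
          rw [mem_Neg] at hv1
          rw [hv1, one_smul] at h4
          have h5 : (2 : F) • v = 0 := by rw [two_smul]; nth_rewrite 2 [← h4]; exact add_neg_cancel v
          exact (smul_eq_zero.1 h5).resolve_left h2
        have h4 := Submodule.finrank_add_finrank_le_of_disjoint h3
        rw [finrank_Neg h2 hsF, finrank_Neg h2 hzF] at h4
        omega
      · apply hsz
        have h3 : _root_.Cfsg.Agent.H198.IF.Neg z = _root_.Cfsg.Agent.H198.IF.Neg s := by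
          refine Submodule.eq_of_le_of_finrank_eq ?_ ?_
          · intro v hv
            rw [mem_Neg, hNz v hv, neg_one_smul]
          · rw [finrank_Neg h2 hsF, finrank_Neg h2 hzF]
        apply ext_ap
        intro v
        obtain ⟨a, ha, b, hb, rfl⟩ : ∃ a ∈ _root_.Cfsg.Agent.H198.IF.Fix z, ∃ b ∈ _root_.Cfsg.Agent.H198.IF.Neg z, a + b = v := by
          have := (isCompl h2 hzF.sq).sup_eq_top
          have hv : v ∈ _root_.Cfsg.Agent.H198.IF.Fix z ⊔ _root_.Cfsg.Agent.H198.IF.Neg z := by rw [this]; trivial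
          exact Submodule.mem_sup.1 hv
        obtain ⟨a', ha', b', hb', rfl⟩ : ∃ a' ∈ _root_.Cfsg.Agent.H198.IF.Fix s, ∃ b' ∈ _root_.Cfsg.Agent.H198.IF.Neg s, a' + b' = a := by
          have := (isCompl h2 hsF.sq).sup_eq_top
          have hv : a ∈ _root_.Cfsg.Agent.H198.IF.Fix s ⊔ _root_.Cfsg.Agent.H198.IF.Neg s := by rw [this]; trivial
          exact Submodule.mem_sup.1 hv
        have hb'z : b' ∈ _root_.Cfsg.Agent.H198.IF.Neg z := by rw [h3]; exact hb'
        have hpol : ∀ e ∈ _root_.Cfsg.Agent.H198.IF.Neg z, polar Q e b' = 0 := by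
          intro e he
          have h5 := orth h2 _ ha e he
          have h6 := orth h2 _ ha' e (h3 ▸ he)
          rw [polar_add_left, h6, zero_add, polar_comm] at h5
          exact h5
        have hb0 : b' = 0 := by
          rw [eq_comb h2 h hb'z, hpol e₁ z1, hpol f₁ z2, hpol e₂ z3, hpol f₂ z4]
          simp
        subst hb0
        rw [add_zero] at ha ⊢
        rw [ap_add, ap_add]
        rw [mem_Fix] at ha ha'
        rw [ha, ha', hNz b hb, mem_Neg.1 hb, neg_one_smul]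
    · refine (card_le_of_not_comm h hc).trans (by omega)
  have hsub : insert z (Cj h s) ⊆ {s : ↥(E Q) | Fund Q s ∧ s ∈ A} := by
    rintro x hx
    rcases Set.mem_insert_iff.1 hx with rfl | ⟨k, rfl⟩
    · exact ⟨hzF, hzA⟩
    · exact ⟨hsF.conj _, A.mul_mem (A.mul_mem (hA ⟨k, rfl⟩) hsA) (A.inv_mem (hA ⟨k, rfl⟩))⟩
  have hnot : z ∉ Cj h s := by
    rintro ⟨k, hk⟩
    apply hsz
    have h3 : h.rhoE k * z = z * h.rhoE k := by
      rw [hzdef, ← map_mul, ← map_mul]
      congr 1
      apply Subtype.ext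
      change k.1 * (-1) = (-1) * k.1
      rw [mul_neg, neg_mul, mul_one, one_mul]
    have h4 : h.rhoE k * s * (h.rhoE k)⁻¹ = z := hk
    rw [mul_inv_eq_iff_eq_mul, ← h3] at h4
    exact mul_left_cancel h4
  have h5 := Set.ncard_le_ncard hsub (Set.toFinite _)
  rw [Set.ncard_insert_of_notMem hnot (Set.toFinite _)] at h5
  have h6 := card_Cj h s
  have h7 : Nat.card F * (Nat.card F ^ 2 - 1) ≤ (Cj h s).ncard * (2 * Nat.card F) := by
    rw [← h6]
    exact Nat.mul_le_mul le_rfl hcard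
  have h8 : Nat.card F ^ 2 - 1 ≤ (Cj h s).ncard * 2 := by
    have : Nat.card F * (Nat.card F ^ 2 - 1) ≤ Nat.card F * ((Cj h s).ncard * 2) := by
      calc _ ≤ _ := h7
        _ = _ := by ring
    exact Nat.le_of_mul_le_mul_left this (by omega)
  omega

end Cfsg.Agent.H900.IF
end

-- part: H59/IF/Seven
section
/-!
# S5719, `Ω₇(q)`, `q` odd: the centraliser of a fundamental involution (helper59)
-/

set_option autoImplicit false
set_option linter.unusedSectionVars false

namespace Cfsg.Agent.H59.IF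

open QuadraticMap Matrix Module Subgroup
open Cfsg.Agent.LieClassical.OrthCore Cfsg.Agent.LieClassical.OrthTrans Cfsg.Agent.LieClassical.OrthSimple
open Cfsg.Agent.H989.Gs.Gen
open Cfsg.Agent.H989.Fx (Fund fund_ap fund_of_four)
open Cfsg.Agent.UGT.U2.FOne.Orth (Four tl)
open Cfsg.Agent.H198.IF (Neg Fix neg₂ mem_Neg mem_Fix)
open Cfsg.Agent.H520.IF (Tri)
open Cfsg.Agent.H209.Fxy (IF)

variable {F V : Type*} [Field F] [AddCommGroup V] [Module F V] {Q : QuadraticForm F V}

/-- orthogonal to a quadruple -/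
structure Pp (Q : QuadraticForm F V) (e₁ f₁ e₂ f₂ x : V) : Prop where
  a : polar Q e₁ x = 0
  b : polar Q f₁ x = 0
  c : polar Q e₂ x = 0
  d : polar Q f₂ x = 0

/-- an element fixing `a, e, f` commutes with `sig` -/
theorem sig_comm_of_fix {a e f : V} (k : Tri Q a e f) {g : ↥(E Q)} (ga : ap g a = a) (ge : ap g e = e)
    (gf : ap g f = f) (M : _root_.Matrix.SpecialLinearGroup (Fin 2) F) : g * k.sig M = k.sig M * g := by
  apply ext_ap
  intro v
  have pa : polar Q a (ap g v) = polar Q a v := by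
    conv_lhs => rw [← ga]
    exact polar_ap g a v
  have pe : polar Q e (ap g v) = polar Q e v := by
    conv_lhs => rw [← ge]
    exact polar_ap g e v
  have pf : polar Q f (ap g v) = polar Q f v := by
    conv_lhs => rw [← gf]
    exact polar_ap g f v
  rw [ap_mul, ap_mul, k.sig_apply M v, k.sig_apply M (ap g v), pa, pe, pf, ap_add, ap_add, ap_add, ap_smul, ap_smul,
    ap_smul, ga, ge, gf]

section

variable {e₁ f₁ e₂ f₂ a e f : V} (h : Four Q e₁ f₁ e₂ f₂) (k : Tri Q a e f) (ha : Pp Q e₁ f₁ e₂ f₂ a)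
  (he : Pp Q e₁ f₁ e₂ f₂ e) (hf : Pp Q e₁ f₁ e₂ f₂ f)

include h k ha he hf in
theorem sig_comm (M N : _root_.Matrix.SpecialLinearGroup (Fin 2) F) : h.rhoE N * k.sig M = k.sig M * h.rhoE N :=
  sig_comm_of_fix k (H198.IF.rho_fix h ha.a ha.b ha.c ha.d N) (H198.IF.rho_fix h he.a he.b he.c he.d N)
    (H198.IF.rho_fix h hf.a hf.b hf.c hf.d N) M

theorem Pp.swap {x : V} (hx : Pp Q e₁ f₁ e₂ f₂ x) : Pp Q e₁ f₁ f₂ e₂ x := ⟨hx.a, hx.b, hx.d, hx.c⟩

/-- `SL₂ × SL₂ → Ω₄⁺(q)` -/
noncomputable def Phi2 : SS F × SS F →* ↥(E Q) :=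
  MonoidHom.noncommCoprod h.rhoE h.swap.rhoE fun a b => H100.IF.comm h a b

/-- `SL₂ × SL₂ × SL₂ → C(z)` -/
noncomputable def Phi : (SS F × SS F) × SS F →* ↥(E Q) :=
  MonoidHom.noncommCoprod (Phi2 h) k.sig fun p c => by
    change h.rhoE p.1 * h.swap.rhoE p.2 * k.sig c = k.sig c * (h.rhoE p.1 * h.swap.rhoE p.2)
    rw [mul_assoc, sig_comm h.swap k ha.swap he.swap hf.swap, ← mul_assoc, sig_comm h k ha he hf, mul_assoc]

theorem Phi_apply (x y c : SS F) : Phi h k ha he hf ((x, y), c) = h.rhoE x * h.swap.rhoE y * k.sig c := rfl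

theorem neg_comm (x : SS F) : neg₂ F * x = x * neg₂ F := by
  apply Subtype.ext
  change (-1 : Matrix (Fin 2) (Fin 2) F) * x.1 = x.1 * -1
  rw [neg_one_mul, mul_neg_one]

theorem range_le : (Phi h k ha he hf).range ≤ centralizer ({h.rhoE (neg₂ F)} : Set ↥(E Q)) := by
  rintro _ ⟨⟨⟨x, y⟩, c⟩, rfl⟩
  rw [mem_centralizer_iff]
  rintro _ rfl
  have h1 : h.rhoE (neg₂ F) = Phi h k ha he hf ((neg₂ F, 1), 1) := by
    rw [Phi_apply, map_one, map_one, mul_one, mul_one]
  rw [h1, ← map_mul, ← map_mul]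
  simp only [Prod.mk_mul_mk, one_mul, mul_one, neg_comm]

variable [Finite F] [FiniteDimensional F V] {A : Subgroup ↥(E Q)} {Γ : Subgroup (MulAut ↥(E Q))}

include k ha he hf in
/-- **the subgroup `SL₂ SL₂ SL₂` of `C(z)`** -/
theorem seven_core (h2 : (2 : F) ≠ 0) (hQ : Nondeg Q) [IsSimpleGroup ↥(E Q)] (hN : finrank F V = 7)
    (hI : IF A Γ) (hna : ∃ a b : ↥(E Q), a * b ≠ b * a)
    (hno : ∀ t ∈ A, t * t = 1 → finrank F (Neg t) ≠ 2) (hzA : h.rhoE (neg₂ F) ∈ A) :
    ∃ B ≤ centralizer ({h.rhoE (neg₂ F)} : Set ↥(E Q)), (Nat.card F = 3 ∧ 12 ≤ A.relIndex B) ∨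
      ((Nat.card F + 1) ^ 2 ≤ A.relIndex B ∧ (h.rhoE.range ≤ A ∨ h.swap.rhoE.range ≤ A)) := by
  have hfin : Finite V := Module.finite_of_finite F
  have hfE : Finite ↥(E Q) := Finite.of_injective (fun g : ↥(E Q) => fun v => ap g v) fun a b hab =>
    ext_ap fun v => congrFun hab v
  have hG : Good Q := LieClassical.OrthFinite.good_of_finite hQ (by omega)
  set! z := h.rhoE (neg₂ F) with hzdef; rewrite [← hzdef] at hzA ⊢
  have hz : Fund Q z := H198.IF.fund_rho h
  refine ⟨(Phi h k ha he hf).range, range_le h k ha he hf, ?_⟩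
  have h3 : A.relIndex (Phi h k ha he hf).range ^ 5 < (centralizer ({z} : Set ↥(E Q))).index := by
    refine H847.IF.lift_E2 hI hna (MonoidHom.id _) Function.surjective_id (t := z) hzA (hz.ne_one h2) ?_ ?_
    · change z * z = 1
      exact hz.sq
    · intro b hb
      have h4 := range_le h k ha he hf hb
      rw [mem_centralizer_iff] at h4
      exact (h4 z rfl).symm
  have h4 : (A.comap (Phi h k ha he hf)).index = A.relIndex (Phi h k ha he hf).range := Subgroup.index_comap _ _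
  have hT := H989.Fx.ty_odd h2 hQ hN (by decide)
  have h5 := H989.Fx.fund_seven h2 hG hT hz
  have h6 := sss_core h2 (A.comap (Phi h k ha he hf)) ?_ ?_ ?_ ?_ ?_ ?_
  · rw [h4] at h6
    rcases h6 with h6 | ⟨-, h6, h7⟩
    · exact Or.inl h6
    · refine Or.inr ⟨h6, ?_⟩
      rcases h7 with h7 | h7
      · left
        rintro _ ⟨x, rfl⟩
        have h8 : Phi h k ha he hf ((x, 1), 1) ∈ A := h7 x
        rwa [Phi_apply, map_one, map_one, mul_one, mul_one] at h8
      · right
        rintro _ ⟨x, rfl⟩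
        have h8 : Phi h k ha he hf ((1, x), 1) ∈ A := h7 x
        rwa [Phi_apply, map_one, map_one, mul_one, one_mul] at h8
  · rw [mem_comap, Phi_apply, map_one, map_one, mul_one, mul_one]
    exact hzA
  · rw [mem_comap, Phi_apply, map_one, map_one, one_mul, mul_one, H100.IF.swap_neg h]
    exact hzA
  · rw [mem_comap, Phi_apply, map_one, map_one, one_mul, one_mul, k.sig_neg₂]
    exact A.one_mem
  · intro c hc hcA
    rw [mem_comap, Phi_apply, map_one, map_one, one_mul, one_mul] at hcA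
    exact hno _ hcA (k.sig_sq hc) (k.finrank_neg h2 hc)
  · intro x y hx hy hxy
    rw [mem_comap, Phi_apply, map_one, mul_one] at hxy
    obtain ⟨h7, h8⟩ := H100.IF.t2_mul h h2 hQ hx hy
    exact hno _ hxy h7 h8
  · rw [h4]
    have h7 : (2 * (A.relIndex (Phi h k ha he hf).range ^ 5 : ℕ) : ℤ) <
        2 * ((centralizer ({z} : Set ↥(E Q))).index : ℤ) := by
      have : ((A.relIndex (Phi h k ha he hf).range ^ 5 : ℕ) : ℤ) < ((centralizer ({z} : Set ↥(E Q))).index : ℤ) := by
        exact_mod_cast h3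
      linarith only [h, k, ha, he, hf, this]
    rw [h5] at h7
    exact_mod_cast h7

end

end Cfsg.Agent.H59.IF
end

-- part: H900/IF/ZBound
section
/-!
# S5719, orthogonal groups, `q` odd: the number of fundamental involutions of `A` (helper900)

* `zeta_bound` : `ζ f⁵ < |z^T|`, `ζ` the number of fundamental involutions of `A`, `f` the index of `B ∩ A` in
  `B ≤ C_T(z)`;
* `seven_unique` : dimension seven, the final count.
-/

set_option autoImplicit false
set_option linter.unusedSectionVars false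

namespace Cfsg.Agent.H900.IF

open Module QuadraticMap Cfsg.Agent.LieClassical Cfsg.Agent.LieClassical.OrthCore Cfsg.Agent.LieClassical.OrthTrans
  Cfsg.Agent.LieClassical.OrthSimple
open Cfsg.Agent.H989.Gs.Gen Cfsg.Agent.H989.Fx
open Cfsg.Agent.H209.Fxy Cfsg.Agent.H999.IFB

variable {T : Type*} [Group T] [Finite T] {A : Subgroup T} {Γ : Subgroup (MulAut T)}

/-- the count of the conjugates of an involution inside `A` -/
theorem ncard_mul_pow_lt [IsSimpleGroup T] (hna : ∃ a b : T, a * b ≠ b * a) (h : IF A Γ) {z : T} (hzA : z ∈ A)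
    (hz2 : orderOf z = 2) (B : Subgroup T) (hB : B ≤ Subgroup.centralizer {z}) (P : Set T) (hP : ∀ s ∈ P, s ∈ A)
    (hPc : ∀ s ∈ P, ∃ g : T, g * z * g⁻¹ = s) :
    P.ncard * (A.relIndex B) ^ 5 < (Subgroup.centralizer ({z} : Set T)).index := by
  have hσ : MulAut.conj z ∈ Γ := (h.conj z).2 hzA
  obtain ⟨ho, hicl, -, -, -⟩ := IF.E2' h hna hzA hz2
  have hfix := IF.fix_formula' h hσ
  have hE1 := (IF.E1 h hσ ho (B := B) (fun b hb => by
    rw [MulAut.conj_apply]
    have := Subgroup.mem_centralizer_singleton_iff.1 (hB hb)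
    rw [← this, mul_inv_cancel_right])).1
  have hsm := h.small _ hσ ho
  have hinj : P.ncard ≤ (icl (MulAut.conj z) ∩ (Γ : Set (MulAut T))).ncard := by
    refine Set.ncard_le_ncard_of_injOn (fun s => MulAut.conj s) ?_ ?_ (Set.toFinite _)
    · intro s hs
      obtain ⟨g, hg⟩ := hPc s hs
      refine ⟨⟨g, ?_⟩, (h.conj s).2 (hP s hs)⟩
      rw [← hg, map_mul, map_mul, map_inv]
    · intro a _ b _ hab
      have h1 : ∀ x, (b⁻¹ * a) * x = x * (b⁻¹ * a) := by
        intro x
        have h2 : a * x * a⁻¹ = b * x * b⁻¹ := congrArg (fun τ : MulAut T => τ x) hab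
        have h3 : b⁻¹ * (a * x * a⁻¹) * a = b⁻¹ * (b * x * b⁻¹) * a := by rw [h2]
        calc b⁻¹ * a * x = b⁻¹ * (a * x * a⁻¹) * a := by group
          _ = b⁻¹ * (b * x * b⁻¹) * a := h3
          _ = x * (b⁻¹ * a) := by group
      have h4 := center_of hna h1
      exact (inv_mul_eq_one.1 h4).symm
  rw [hicl] at hfix
  have hpos : 0 < A.index := by have := h.big; omega
  have hfpos := fx_pos A (MulAut.conj z)
  have h5 : P.ncard * A.index ≤ fx A (MulAut.conj z) * (Subgroup.centralizer ({z} : Set T)).index := by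
    rw [hfix, mul_comm]
    exact Nat.mul_le_mul le_rfl hinj
  by_cases hP0 : P.ncard = 0
  · rw [hP0, zero_mul]
    exact Nat.pos_of_ne_zero Subgroup.index_ne_zero_of_finite
  have h6 : P.ncard * fx A (MulAut.conj z) ^ 5 < (Subgroup.centralizer ({z} : Set T)).index := by
    have h7 : fx A (MulAut.conj z) * (P.ncard * fx A (MulAut.conj z) ^ 5) <
        fx A (MulAut.conj z) * (Subgroup.centralizer ({z} : Set T)).index := by
      calc fx A (MulAut.conj z) * (P.ncard * fx A (MulAut.conj z) ^ 5)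
          = P.ncard * fx A (MulAut.conj z) ^ 6 := by ring
        _ < P.ncard * A.index := Nat.mul_lt_mul_of_pos_left hsm (Nat.pos_of_ne_zero hP0)
        _ ≤ _ := h5
    exact Nat.lt_of_mul_lt_mul_left h7
  refine lt_of_le_of_lt ?_ h6
  exact Nat.mul_le_mul le_rfl (Nat.pow_le_pow_left hE1 5)

section

open Cfsg.Agent.UGT.U2.FOne.Orth (Four)
open Matrix (SpecialLinearGroup)

variable {F V : Type*} [Field F] [AddCommGroup V] [Module F V] {Q : QuadraticForm F V}

theorem noncomm_of_four {e₁ f₁ e₂ f₂ : V} (h : Four Q e₁ f₁ e₂ f₂) : ∃ a b : ↥(E Q), a * b ≠ b * a := by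
  let a : _root_.Matrix.SpecialLinearGroup (Fin 2) F := ⟨!![1, 1; 0, 1], by simp [Matrix.det_fin_two_of]⟩
  let b : _root_.Matrix.SpecialLinearGroup (Fin 2) F := ⟨!![1, 0; 1, 1], by simp [Matrix.det_fin_two_of]⟩
  refine ⟨h.rhoE a, h.rhoE b, fun hab => ?_⟩
  rw [← map_mul, ← map_mul] at hab
  obtain ⟨p1, p2, p3, p4, p5, p6, p7, p8, p9, p10, p11, p12, p13, p14, p15, p16⟩ := h.pols
  have key : ∀ M : _root_.Matrix.SpecialLinearGroup (Fin 2) F, polar Q f₁ (ap (h.rhoE M) e₁) = M.1 0 0 := by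
    intro M
    have h1 : ap (h.rhoE M) e₁ = M.1 0 0 • e₁ + M.1 1 0 • e₂ := h.rho_e1 M
    rw [h1, polar_add_right, polar_smul_right, polar_smul_right, p6, p13]
    simp
  have h1 := key (a * b)
  have h3 := key (b * a)
  rw [hab, h3] at h1
  have e1 : (b * a).1 0 0 = 1 := by
    change (b.1 * a.1) 0 0 = 1
    rw [Matrix.mul_apply, Fin.sum_univ_two]
    simp [a, b]
  have e2 : (a * b).1 0 0 = 1 + 1 := by
    change (a.1 * b.1) 0 0 = 1 + 1
    rw [Matrix.mul_apply, Fin.sum_univ_two]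
    simp [a, b]
  rw [e1, e2] at h1
  exact one_ne_zero (add_eq_left.1 h1.symm)

/-- **`ζ f⁵ < |z^T|`** -/
theorem zeta_bound [Finite F] [FiniteDimensional F V] (h2 : (2 : F) ≠ 0) (hG : Good Q) [IsSimpleGroup ↥(E Q)]
    {A : Subgroup ↥(E Q)} {Γ : Subgroup (MulAut ↥(E Q))} (h : IF A Γ) {z : ↥(E Q)} (hz : Fund Q z) (hzA : z ∈ A)
    (B : Subgroup ↥(E Q)) (hB : B ≤ Subgroup.centralizer {z}) :
    {s : ↥(E Q) | Fund Q s ∧ s ∈ A}.ncard * (A.relIndex B) ^ 5 < (Subgroup.centralizer ({z} : Set ↥(E Q))).index := by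
  have : Finite V := Module.finite_of_finite F
  have hfin : Finite ↥(E Q) := Finite.of_injective (fun (g : ↥(E Q)) (v : V) => ap g v) fun a b hab =>
    ext_ap fun v => congrFun hab v
  have hna : ∃ a b : ↥(E Q), a * b ≠ b * a := by
    obtain ⟨e₁, f₁, e₂, f₂, h4, -⟩ := hz
    exact noncomm_of_four h4
  have hz2 : orderOf z = 2 := orderOf_eq_prime (by rw [pow_two, hz.sq]) (hz.ne_one h2)
  exact ncard_mul_pow_lt hna h hzA hz2 B hB _ (fun s hs => hs.2)
    fun s hs => Cfsg.Agent.H325.IF.exists_conj_of_fund h2 hG hz hs.1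

/-- **dimension seven, the final count** -/
theorem seven_unique [Finite F] [FiniteDimensional F V] (h2 : (2 : F) ≠ 0) (hG : Good Q) [IsSimpleGroup ↥(E Q)]
    {A : Subgroup ↥(E Q)} {Γ : Subgroup (MulAut ↥(E Q))} (h : IF A Γ) {z : ↥(E Q)} (hz : Fund Q z) (hzA : z ∈ A)
    (B : Subgroup ↥(E Q)) (hB : B ≤ Subgroup.centralizer {z}) (hN : finrank F V = 7)
    (hf : (Nat.card F = 3 ∧ 12 ≤ A.relIndex B) ∨ ((Nat.card F + 1) ^ 2 ≤ A.relIndex B ∧
      ({s : ↥(E Q) | Fund Q s ∧ s ∈ A}.ncard = 1 ∨ Nat.card F ^ 2 + 1 ≤ 2 * {s : ↥(E Q) | Fund Q s ∧ s ∈ A}.ncard))) :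
    ∀ s ∈ A, Fund Q s → s = z := by
  have : Finite V := Module.finite_of_finite F
  have hfin : Finite ↥(E Q) := Finite.of_injective (fun (g : ↥(E Q)) (v : V) => ap g v) fun a b hab =>
    ext_ap fun v => congrFun hab v
  have hb := zeta_bound h2 hG h hz hzA B hB
  obtain ⟨ε, hT⟩ := exists_ty h2 7 V Q hG.nondeg hN
  have hc := fund_seven h2 hG hT hz
  have hc' : 2 * (Subgroup.centralizer ({z} : Set ↥(E Q))).index =
      Nat.card F ^ 6 * (Nat.card F ^ 2 + 1) * (Nat.card F ^ 4 + Nat.card F ^ 2 + 1) := by exact_mod_cast hc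
  have hone : {s : ↥(E Q) | Fund Q s ∧ s ∈ A}.ncard = 1 := by
    have hpos : 0 < {s : ↥(E Q) | Fund Q s ∧ s ∈ A}.ncard := (Set.ncard_pos (Set.toFinite _)).2 ⟨z, hz, hzA⟩
    rcases hf with ⟨hq, h12⟩ | ⟨hq, h1 | h1⟩
    · rw [hq] at hc'
      have h3 : 12 ^ 5 ≤ (A.relIndex B) ^ 5 := Nat.pow_le_pow_left h12 5
      by_contra hne
      have h4 : 2 ≤ {s : ↥(E Q) | Fund Q s ∧ s ∈ A}.ncard := by omega
      have h5 : 2 * 12 ^ 5 ≤ {s : ↥(E Q) | Fund Q s ∧ s ∈ A}.ncard * (A.relIndex B) ^ 5 := Nat.mul_le_mul h4 h3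
      norm_num at hc' h5
      omega
    · exact h1
    · exfalso
      have h3 : ((Nat.card F + 1) ^ 2) ^ 5 ≤ (A.relIndex B) ^ 5 := Nat.pow_le_pow_left hq 5
      have h4 := Cfsg.Agent.H59.IF.num_d (q := Nat.card F)
      rw [← hc'] at h4
      have h5 : (Nat.card F ^ 2 + 1) * ((Nat.card F + 1) ^ 2) ^ 5 ≤
          2 * {s : ↥(E Q) | Fund Q s ∧ s ∈ A}.ncard * (A.relIndex B) ^ 5 := Nat.mul_le_mul h1 h3
      rw [mul_assoc] at h5
      omega
  intro s hsA hs
  obtain ⟨a, ha⟩ := Set.ncard_eq_one.1 hone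
  have h1 : s ∈ ({a} : Set ↥(E Q)) := ha ▸ (⟨hs, hsA⟩ : s ∈ {s : ↥(E Q) | Fund Q s ∧ s ∈ A})
  have h3 : z ∈ ({a} : Set ↥(E Q)) := ha ▸ (⟨hz, hzA⟩ : z ∈ {s : ↥(E Q) | Fund Q s ∧ s ∈ A})
  rw [Set.mem_singleton_iff] at h1 h3
  rw [h1, h3]

end

end Cfsg.Agent.H900.IF
end

-- part: H59/IF/Fin
section
/-!
# S5719, `Ω₇(q)`, `Ω₉(q)`, `q` odd: no counterexample with `|A|` even (helper59)
-/

set_option autoImplicit false
set_option linter.unusedSectionVars false

namespace Cfsg.Agent.H59.IF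

open QuadraticMap Matrix Module Subgroup
open Cfsg.Agent.LieClassical.OrthCore Cfsg.Agent.LieClassical.OrthTrans Cfsg.Agent.LieClassical.OrthSimple
open Cfsg.Agent.H989.Gs.Gen
open Cfsg.Agent.H989.Fx (Fund fund_ap fund_of_four)
open Cfsg.Agent.UGT.U2.FOne.Orth (Four tl)
open Cfsg.Agent.H198.IF (Neg Fix neg₂ mem_Neg mem_Fix)
open Cfsg.Agent.H520.IF (Tri)
open Cfsg.Agent.H209.Fxy (IF KillE)

variable {F V : Type*} [Field F] [AddCommGroup V] [Module F V] {Q : QuadraticForm F V}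

/-- a fundamental involution is the image of `-1` -/
theorem fund_eq {z : ↥(E Q)} (hz : Fund Q z) : ∃ (e₁ f₁ e₂ f₂ : V) (h : Four Q e₁ f₁ e₂ f₂), z = h.rhoE (neg₂ F) := by
  obtain ⟨e₁, f₁, e₂, f₂, h, z1, z2, z3, z4, z5⟩ := hz
  refine ⟨e₁, f₁, e₂, f₂, h, ?_⟩
  obtain ⟨k1, k2, k3, k4⟩ := H198.IF.rho_neg h
  apply ext_ap
  intro v
  rw [fund_ap h z1 z2 z3 z4 z5, fund_ap h k1 k2 k3 k4 fun w w1 w2 w3 w4 => H198.IF.rho_fix h w1 w2 w3 w4 _]

variable [Finite F] [FiniteDimensional F V] {A : Subgroup ↥(E Q)} {Γ : Subgroup (MulAut ↥(E Q))}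

theorem seven (h2 : (2 : F) ≠ 0) (hQ : Nondeg Q) [IsSimpleGroup ↥(E Q)] (hN : finrank F V = 7) (hI : IF A Γ)
    (hno : ∀ t ∈ A, t * t = 1 → finrank F (Neg t) ≠ 2) {z : ↥(E Q)} (hz : Fund Q z) (hzA : z ∈ A)
    (exists_tri : ∀ {e₁ f₁ e₂ f₂ : V}, Four Q e₁ f₁ e₂ f₂ → ∃ a e f, Tri Q a e f ∧ Pp Q e₁ f₁ e₂ f₂ a ∧
      Pp Q e₁ f₁ e₂ f₂ e ∧ Pp Q e₁ f₁ e₂ f₂ f)
    (unique_fund : (∀ s ∈ A, Fund Q s → s = z) → False) : False := by
  have hG : Good Q := LieClassical.OrthFinite.good_of_finite hQ (by omega)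
  obtain ⟨e₁, f₁, e₂, f₂, h, rfl⟩ := fund_eq hz
  obtain ⟨a, e, f, k, ha, he, hf⟩ := exists_tri h
  have hna := H900.IF.noncomm_of_four h
  obtain ⟨B, hB, h3⟩ := seven_core h k ha he hf h2 hQ hN hI hna hno hzA
  refine unique_fund (H900.IF.seven_unique h2 hG hI hz hzA B hB hN ?_)
  rcases h3 with h3 | ⟨h3, h4⟩
  · exact Or.inl h3
  · refine Or.inr ⟨h3, ?_⟩
    rcases h4 with h4 | h4
    · exact H900.IF.zeta h2 hQ hN h h4
    · exact H900.IF.zeta h2 hQ hN h.swap h4

end Cfsg.Agent.H59.IF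
end

-- part: H520/IF/ExFund
section
/-!
# S5719, orthogonal groups of dimension 7 and 9, `q` odd: an involution of `A` gives a fundamental one (helper520)
-/

set_option autoImplicit false
set_option linter.unusedSectionVars false

namespace Cfsg.Agent.H520.IF

open QuadraticMap Matrix Module
open Cfsg.Agent.LieClassical.OrthCore Cfsg.Agent.LieClassical.OrthTrans Cfsg.Agent.LieClassical.OrthSimple
open Cfsg.Agent.LieClassical.SLTwoUnipotent (u l coe_u coe_l)
open Cfsg.Agent.H989.Gs.Gen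
open Cfsg.Agent.H989.Fx (Fund)
open Cfsg.Agent.UGT.U2.FOne.Orth (Four)
open Cfsg.Agent.H209.Fxy (IF)

variable {F V : Type*} [Field F] [AddCommGroup V] [Module F V] {Q : QuadraticForm F V}

/-- the long `SL₂` is not commutative -/
theorem na_of_four {e₁ f₁ e₂ f₂ : V} (h : Four Q e₁ f₁ e₂ f₂) : ∃ a b : ↥(E Q), a * b ≠ b * a := by
  refine ⟨h.rhoE (u 1), h.rhoE (l 1), fun hc => ?_⟩
  rw [← map_mul, ← map_mul] at hc
  have h1 : ap (h.rhoE (u 1 * l 1)) e₁ = ap (h.rhoE (l 1 * u 1)) e₁ := by rw [hc]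
  have h3 := (h.rho_e1 (u 1 * l 1)).symm.trans (h1.trans (h.rho_e1 (l 1 * u 1)))
  have a00 : (u (1 : F) * l 1).1 0 0 = 2 := by
    change ((!![1, 1; 0, 1] : Matrix (Fin 2) (Fin 2) F) * (!![1, 0; 1, 1] : Matrix (Fin 2) (Fin 2) F)) 0 0 = 2
    simp [Matrix.mul_apply, Fin.sum_univ_two]
    norm_num
  have a10 : (u (1 : F) * l 1).1 1 0 = 1 := by
    change ((!![1, 1; 0, 1] : Matrix (Fin 2) (Fin 2) F) * (!![1, 0; 1, 1] : Matrix (Fin 2) (Fin 2) F)) 1 0 = 1
    simp [Matrix.mul_apply, Fin.sum_univ_two]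
  have b00 : (l (1 : F) * u 1).1 0 0 = 1 := by
    change ((!![1, 0; 1, 1] : Matrix (Fin 2) (Fin 2) F) * (!![1, 1; 0, 1] : Matrix (Fin 2) (Fin 2) F)) 0 0 = 1
    simp [Matrix.mul_apply, Fin.sum_univ_two]
  have b10 : (l (1 : F) * u 1).1 1 0 = 1 := by
    change ((!![1, 0; 1, 1] : Matrix (Fin 2) (Fin 2) F) * (!![1, 1; 0, 1] : Matrix (Fin 2) (Fin 2) F)) 1 0 = 1
    simp [Matrix.mul_apply, Fin.sum_univ_two]
  rw [a00, a10, b00, b10] at h3
  have h5 : e₁ = 0 := by linear_combination (norm := module) h3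
  have h6 := h.h1.pair
  rw [h5, polar_zero_left] at h6
  exact zero_ne_one h6

theorem exists_four [Finite F] (hQ : Nondeg Q) (hN : 5 ≤ finrank F V) :
    ∃ e₁ f₁ e₂ f₂ : V, Four Q e₁ f₁ e₂ f₂ := by
  have h0 : H198.IF.HS Q (![] : Fin 0 → V) (![] : Fin 0 → V) :=
    ⟨fun i => i.elim0, fun i => i.elim0, fun i => i.elim0, fun i => i.elim0, fun i => i.elim0⟩
  obtain ⟨x, y, h1⟩ := h0.exists_cons hQ (by omega)
  obtain ⟨x', y', h3⟩ := h1.exists_cons hQ (by omega)
  exact ⟨_, _, _, _, h3.four (i := 0) (j := 1) (by decide)⟩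

/-- `E Q` is not commutative -/
theorem na_E [Finite F] (hQ : Nondeg Q) (hN : 5 ≤ finrank F V) : ∃ a b : ↥(E Q), a * b ≠ b * a := by
  obtain ⟨e₁, f₁, e₂, f₂, h⟩ := exists_four hQ hN
  exact na_of_four h

theorem neg_eq_Vm' (t : ↥(E Q)) : H198.IF.Neg t = H786.IF.Vm t := rfl

/-- **an involution of `A` gives a fundamental involution of `A`** -/
theorem exists_fund [Finite F] [FiniteDimensional F V] (h2 : (2 : F) ≠ 0) (hQ : Nondeg Q) [IsSimpleGroup ↥(E Q)]
    (hN : finrank F V = 7 ∨ finrank F V = 9) {A : Subgroup ↥(E Q)} {Γ : Subgroup (MulAut ↥(E Q))} (h : IF A Γ)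
    (hno : ∀ t ∈ A, t * t = 1 → finrank F (H198.IF.Neg t) ≠ 2) {t : ↥(E Q)} (htA : t ∈ A) (ht : t * t = 1)
    (ht1 : t ≠ 1) : ∃ z ∈ A, Fund Q z := by
  have hd : 5 ≤ finrank F V := by omega
  have hfE : Finite ↥(E Q) := Cfsg.Agent.H786.IF.finite_E
  have hev := H601.OTri.neg_even h2 hQ hd ht
  by_cases h4 : finrank F (H198.IF.Neg t) = 4
  · exact ⟨t, htA, H601.OTri.fund_of_neg h2 hQ hd ht h4⟩
  have h2' := hno t htA ht
  have h0 : finrank F (H198.IF.Neg t) ≠ 0 := by
    intro h0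
    have hbot : H198.IF.Neg t = ⊥ := Submodule.finrank_eq_zero.1 h0
    apply ht1
    apply ext_ap
    intro v
    have h5 : v - ap t v ∈ H198.IF.Neg t := by
      rw [H198.IF.mem_Neg, ap_sub, ← ap_mul, ht, ap_one, neg_sub]
    rw [hbot, Submodule.mem_bot, sub_eq_zero] at h5
    rw [← h5, ap_one]
  have hsum := H786.IF.finrank_VmVp h2 ht
  rw [neg_eq_Vm'] at hev h4 h2' h0
  obtain ⟨k, hk⟩ := hev
  have hnum : finrank F (H786.IF.Vm t) * (finrank F V - finrank F (H786.IF.Vm t)) + 1 ≤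
      5 * (H786.IF.psi (finrank F (H786.IF.Vm t)) + H786.IF.psi (finrank F (H786.IF.Vp t))) := by
    rcases hN with hN | hN
    · have e1 : finrank F (H786.IF.Vm t) = 6 := by omega
      have e2 : finrank F (H786.IF.Vp t) = 1 := by omega
      rw [e1, e2, hN]
      decide
    · have e1 : finrank F (H786.IF.Vm t) = 6 ∨ finrank F (H786.IF.Vm t) = 8 := by omega
      rcases e1 with e1 | e1
      · have e2 : finrank F (H786.IF.Vp t) = 3 := by omega
        rw [e1, e2, hN]
        decide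
      · have e2 : finrank F (H786.IF.Vp t) = 1 := by omega
        rw [e1, e2, hN]
        decide
  obtain ⟨z, hz, hzA⟩ := H786.IF.use_one h2 hQ h (na_E hQ hd) (MonoidHom.id _) Function.surjective_id (t := t) htA
    (by simpa using ht1) ht hnum
  exact ⟨z, hzA, hz⟩

end Cfsg.Agent.H520.IF
end

-- part: H100/IF/Uniq
section
/-!
# S5719, orthogonal groups in dimension 7: `A` contains a second fundamental involution (helper100)

* `exists_tri` : a three space of Witt index one orthogonal to a quadruple;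
* `exists_sq` : an element of `SL₂` of square `-1`;
* `unique_fund` : box 7d.
-/

set_option autoImplicit false
set_option linter.unusedSectionVars false

namespace Cfsg.Agent.H100.IF

open QuadraticMap Matrix Module
open Cfsg.Agent.LieClassical.OrthCore Cfsg.Agent.LieClassical.OrthTrans
open Cfsg.Agent.H989.Gs.Gen
open Cfsg.Agent.UGT.U2.FOne.Orth (Four tl)
open Cfsg.Agent.H198.IF
open Cfsg.Agent.H520.IF (Tri)
open Cfsg.Agent.H989.Fx (Fund)
open Cfsg.Agent.H209.Fxy (IF)

variable {F V : Type*} [Field F] [AddCommGroup V] [Module F V] {Q : QuadraticForm F V} {e₁ f₁ e₂ f₂ : V}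

/-- six linear conditions have a nonzero solution in dimension at least seven, and even a nonsingular one -/
theorem exists_nonsing [FiniteDimensional F V] (hQ : Nondeg Q) (hN : 7 ≤ finrank F V) {e f : Fin 3 → V}
    (h : HS Q e f) : ∃ a, Q a ≠ 0 ∧ (∀ i, polar Q (e i) a = 0) ∧ ∀ i, polar Q (f i) a = 0 := by
  obtain ⟨L, hL⟩ : ∃ L : V →ₗ[F] (Fin 3 → F) × (Fin 3 → F), ∀ v, L v = (fun i => polar Q (e i) v, fun i => polar Q (f i) v) :=
    ⟨(LinearMap.pi fun i => polarBilin Q (e i)).prod (LinearMap.pi fun i => polarBilin Q (f i)), fun v => rfl⟩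
  have hker : ∃ a, a ≠ 0 ∧ L a = 0 := by
    by_contra hc
    push Not at hc
    have hinj : Function.Injective L := (injective_iff_map_eq_zero L).2 fun a ha => by
      by_contra h0
      exact hc a h0 ha
    have := LinearMap.finrank_le_finrank_of_injective hinj
    rw [Module.finrank_prod, Module.finrank_pi] at this
    simp at this
    omega
  obtain ⟨a, h0, ha⟩ := hker
  rw [hL] at ha
  have ha1 : ∀ i, polar Q (e i) a = 0 := fun i => congrFun (congrArg Prod.fst ha) i
  have ha2 : ∀ i, polar Q (f i) a = 0 := fun i => congrFun (congrArg Prod.snd ha) i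
  by_cases hq : Q a = 0
  swap
  · exact ⟨a, hq, ha1, ha2⟩
  obtain ⟨y, hy⟩ := hQ.exists_polar_eq h0 1
  obtain ⟨y₁, hy₁⟩ : ∃ y₁, y₁ = y - cb e (cx Q f y) - cb f (cx Q e y) := ⟨_, rfl⟩
  have hcx : cx Q e a = 0 := funext ha1
  have hcx' : cx Q f a = 0 := funext ha2
  have h1 : polar Q a y₁ = 1 := by
    rw [hy₁, polar_sub_right, polar_sub_right, polar_cb, polar_cb, hcx, hcx', dotProduct_zero, dotProduct_zero,
      hy, sub_zero, sub_zero]
  have h2 : cx Q e y₁ = 0 := by
    have : y₁ = y + (-1 : F) • cb e (cx Q f y) + (-1 : F) • cb f (cx Q e y) := by rw [hy₁]; module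
    rw [this, cx_add, cx_add, cx_smul, cx_smul, h.cx_ee, h.symm.cx_fe]
    funext i
    simp
  have h3 : cx Q f y₁ = 0 := by
    have : y₁ = y + (-1 : F) • cb e (cx Q f y) + (-1 : F) • cb f (cx Q e y) := by rw [hy₁]; module
    rw [this, cx_add, cx_add, cx_smul, cx_smul, h.cx_fe, h.symm.cx_ee]
    funext i
    simp
  refine ⟨y₁ + (1 - Q y₁) • a, ?_, fun i => ?_, fun i => ?_⟩
  · have : Q (y₁ + (1 - Q y₁) • a) = 1 := by
      have e1 : Q (y₁ + (1 - Q y₁) • a) = Q y₁ + Q ((1 - Q y₁) • a) + polar Q y₁ ((1 - Q y₁) • a) := by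
        rw [QuadraticMap.polar]; ring
      rw [e1, QuadraticMap.map_smul, hq, polar_smul_right, polar_comm, h1]
      simp
    rw [this]
    exact one_ne_zero
  · rw [polar_add_right, polar_smul_right, ha1, smul_zero, add_zero]
    exact congrFun h2 i
  · rw [polar_add_right, polar_smul_right, ha2, smul_zero, add_zero]
    exact congrFun h3 i

/-- the six conditions, for a quadruple and a three space -/
theorem exists_tri [Finite F] [FiniteDimensional F V] (hQ : Nondeg Q) (hN : 7 ≤ finrank F V)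
    (h4 : Four Q e₁ f₁ e₂ f₂) : ∃ a e f, Tri Q a e f ∧ (polar Q e₁ a = 0 ∧ polar Q f₁ a = 0 ∧ polar Q e₂ a = 0 ∧
      polar Q f₂ a = 0) ∧ (polar Q e₁ e = 0 ∧ polar Q f₁ e = 0 ∧ polar Q e₂ e = 0 ∧ polar Q f₂ e = 0) ∧
      (polar Q e₁ f = 0 ∧ polar Q f₁ f = 0 ∧ polar Q e₂ f = 0 ∧ polar Q f₂ f = 0) := by
  obtain ⟨x, y, hxy, p1, p2, p3, p4⟩ := (HS.of_four h4).exists_hyp hQ (by omega)
  obtain ⟨a, ha, a1, a2⟩ := exists_nonsing hQ hN ((HS.of_four h4).cons hxy p1 p2 p3 p4)
  exact ⟨a, x, y, ⟨hxy, polar_zero_of_comm (a1 0), polar_zero_of_comm (a2 0), ha⟩, ⟨a1 1, a2 1, a1 2, a2 2⟩,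
    ⟨p1 0, p2 0, p1 1, p2 1⟩, ⟨p3 0, p4 0, p3 1, p4 1⟩⟩

theorem exists_sq (F : Type*) [Field F] : ∃ c : _root_.Matrix.SpecialLinearGroup (Fin 2) F, c * c = neg₂ F := by
  refine ⟨⟨!![0, 1; -1, 0], by simp⟩, Subtype.ext ?_⟩
  change !![0, 1; -1, 0] * !![0, 1; -1, 0] = (-1 : Matrix (Fin 2) (Fin 2) F)
  ext i j
  (revert i j; simp only [_root_.Fin.forall_fin_succ, _root_.Matrix.cons_mul, _root_.Nat.succ_eq_add_one, Nat.reduceAdd, _root_.Matrix.vecMul_cons, _root_.Matrix.head_cons, _root_.zero_smul, _root_.Matrix.tail_cons, _root_.one_smul, _root_.Matrix.empty_vecMul, _root_.add_zero, _root_.zero_add, _root_.neg_smul, _root_.Matrix.neg_cons, _root_.neg_zero, _root_.Matrix.neg_empty, _root_.Matrix.empty_mul, _root_.Equiv.symm_apply_apply, _root_.Matrix.of_apply, _root_.Matrix.cons_val', _root_.Matrix.cons_val_fin_one, _root_.Matrix.neg_apply, Fin.isValue, _root_.Matrix.cons_val_zero, _root_.Matrix.cons_val_succ, _root_.IsEmpty.forall_iff, _root_.and_true,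 _root_.Matrix.one_apply_eq, _root_.Fin.succ_zero_eq_one, _root_.ne_eq, _root_.zero_ne_one, _root_.not_false_eq_true, _root_.Matrix.one_apply_ne, _root_.and_self, _root_.Fin.succ_ne_zero, _root_.neg_inj, _root_.true_and])

/-- the class of an automorphic image of a fundamental involution in dimension seven -/
theorem index_aut {T : Type*} [Group T] (σ : MulAut T) (z : T) :
    (Subgroup.centralizer ({σ z} : Set T)).index = (Subgroup.centralizer ({z} : Set T)).index := by
  have h1 : Subgroup.centralizer ({σ z} : Set T) = (Subgroup.centralizer ({z} : Set T)).map σ.toMonoidHom := by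
    ext x
    rw [Subgroup.mem_centralizer_singleton_iff, Subgroup.mem_map]
    constructor
    · intro hx
      refine ⟨σ⁻¹ x, ?_, ?_⟩
      · rw [Subgroup.mem_centralizer_singleton_iff]
        apply σ.injective
        rw [map_mul, map_mul, MulAut.apply_inv_self]
        exact hx
      · exact MulAut.apply_inv_self _ σ x
    · rintro ⟨y, hy, rfl⟩
      rw [Subgroup.mem_centralizer_singleton_iff] at hy
      change σ y * σ z = σ z * σ y
      rw [← map_mul, hy, map_mul]
  rw [h1]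
  exact Subgroup.index_map_equiv _ σ

/-- in dimension seven a fundamental involution goes to a fundamental involution or to one with `dim Neg = 2` -/
theorem neg_aut [Finite F] [FiniteDimensional F V] (h2 : (2 : F) ≠ 0) (hQ : Nondeg Q)
    (hN : finrank F V = 7) {z : ↥(E Q)} (hz : Fund Q z) (σ : MulAut ↥(E Q)) :
    Fund Q (σ z) ∨ finrank F (Cfsg.Agent.H198.IF.Neg (σ z)) = 2 := by
  have hd : 5 ≤ finrank F V := by omega
  have hG : Good Q := Cfsg.Agent.LieClassical.OrthFinite.good_of_finite hQ hd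
  have hsq : σ z * σ z = 1 := by rw [← map_mul, hz.sq, map_one]
  obtain ⟨m, hm⟩ := Cfsg.Agent.H601.OTri.neg_even h2 hQ hd hsq
  have hle : finrank F (Cfsg.Agent.H198.IF.Neg (σ z)) ≤ 7 := hN ▸ Submodule.finrank_le _
  have hc := Cfsg.Agent.H989.Fx.cls_le h2 hG hd hsq (k := m + m) (by rw [← Cfsg.Agent.H601.OTri.neg_eq_Vm, hm])
  rw [index_aut, hN] at hc
  obtain ⟨ε, hT⟩ := Cfsg.Agent.H989.Fx.exists_ty h2 7 V Q hQ hN
  have h7 := Cfsg.Agent.H989.Fx.fund_seven h2 hG hT hz
  have hq : 1 < Nat.card F := Finite.one_lt_card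
  have h7' : 2 * (Subgroup.centralizer ({z} : Set ↥(E Q))).index =
      Nat.card F ^ 6 * (Nat.card F ^ 2 + 1) * (Nat.card F ^ 4 + Nat.card F ^ 2 + 1) := by
    exact_mod_cast h7
  have hbig : Nat.card F ^ 6 < (Subgroup.centralizer ({z} : Set ↥(E Q))).index := by
    have e1 : 1 ≤ Nat.card F ^ 2 := Nat.one_le_pow _ _ (by omega)
    have e2 : 1 ≤ Nat.card F ^ 4 := Nat.one_le_pow _ _ (by omega)
    have e3 : 0 < Nat.card F ^ 6 := by positivity
    have e4 : 2 * 3 ≤ (Nat.card F ^ 2 + 1) * (Nat.card F ^ 4 + Nat.card F ^ 2 + 1) :=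
      Nat.mul_le_mul (by omega) (by omega)
    have e5 : Nat.card F ^ 6 * (2 * 3) ≤ 2 * (Subgroup.centralizer ({z} : Set ↥(E Q))).index := by
      rw [h7', mul_assoc]
      exact Nat.mul_le_mul_left _ e4
    omega
  have hm3 : m ≤ 3 := by omega
  interval_cases m
  · simp only [_root_.add_zero, _root_.tsub_zero, _root_.MulZeroClass.zero_mul, _root_.pow_zero] at hc
    have : 1 ≤ Nat.card F ^ 6 := Nat.one_le_pow _ _ (by omega)
    omega
  · exact Or.inr hm
  · exact Or.inl (Cfsg.Agent.H601.OTri.fund_of_neg h2 hQ hd hsq hm)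
  · norm_num only [] at hc
    omega

/-- BOX 7d -/
theorem unique_fund [Finite F] [FiniteDimensional F V] (h2 : (2 : F) ≠ 0) (hQ : Nondeg Q) [IsSimpleGroup ↥(E Q)]
    (hN : finrank F V = 7) {A : Subgroup ↥(E Q)} {Γ : Subgroup (MulAut ↥(E Q))} (h : IF A Γ)
    (hno : ∀ t ∈ A, t * t = 1 → finrank F (Cfsg.Agent.H198.IF.Neg t) ≠ 2) {z : ↥(E Q)} (hz : Fund Q z) (hzA : z ∈ A)
    (hu : ∀ s ∈ A, Fund Q s → s = z) : False := by
  have hfix : ∀ σ ∈ Γ, σ z = z := by
    intro σ hσ
    have hA : σ z ∈ A := (h.inv σ hσ z).2 hzA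
    rcases neg_aut h2 hQ hN hz σ with h1 | h1
    · exact hu _ hA h1
    · exact absurd h1 (hno _ hA (by rw [← map_mul, hz.sq, map_one]))
  have : Finite V := Module.finite_of_finite F
  have : Finite (V ≃ₗ[F] V) := Finite.of_injective (fun e : V ≃ₗ[F] V => (e : V → V)) DFunLike.coe_injective
  have hC : ∀ x : ↥(E Q), x * z = z * x → x ∈ A := by
    intro x hx
    refine Cfsg.Agent.H680.Fxy.IF.norm h (K := Subgroup.zpowers z) (by rwa [Subgroup.zpowers_le]) ?_ ?_ ?_
    · rintro σ hσ _ ⟨n, rfl⟩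
      exact ⟨n, by simp only [map_zpow, hfix σ hσ]⟩
    · rw [Ne, Subgroup.zpowers_eq_bot]
      exact hz.ne_one h2
    · rintro _ ⟨n, rfl⟩
      refine ⟨n, ?_⟩
      have hcz : Commute x z := hx
      change z ^ n = x * z ^ n * x⁻¹
      rw [(hcz.zpow_right n).eq, mul_inv_cancel_right]
  obtain ⟨e₁, f₁, e₂, f₂, h4, z1, z2, z3, z4, z5⟩ := hz
  obtain ⟨a, e, f, ht, ⟨a1, a2, a3, a4⟩, ⟨b1, b2, b3, b4⟩, c1, c2, c3, c4⟩ := exists_tri hQ (le_of_eq hN.symm) h4
  obtain ⟨c, hc⟩ := exists_sq F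
  refine hno (ht.sig c) (hC _ ?_) (ht.sig_sq hc) (ht.finrank_neg h2 hc)
  have za : ap z a = a := z5 a a1 a2 a3 a4
  have ze : ap z e = e := z5 e b1 b2 b3 b4
  have zf : ap z f = f := z5 f c1 c2 c3 c4
  apply ext_ap
  intro v
  have pa : polar Q a (ap z v) = polar Q a v := by
    nth_rewrite 1 [← za]
    exact polar_ap z a v
  have pe : polar Q e (ap z v) = polar Q e v := by
    nth_rewrite 1 [← ze]
    exact polar_ap z e v
  have pf : polar Q f (ap z v) = polar Q f v := by
    nth_rewrite 1 [← zf]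
    exact polar_ap z f v
  rw [ap_mul, ap_mul, ht.sig_apply, ht.sig_apply, pa, pe, pf, ap_add, ap_add, ap_add, ap_smul, ap_smul, ap_smul, za, ze,
    zf]

end Cfsg.Agent.H100.IF
end

-- part: H198/IF/EndT2
section
/-!
# S5719, orthogonal groups, `q` odd: generation by involutions with `-1` space of dimension 2 (helper198)

`end_t2` : a subgroup `X` of `E Q` which contains an involution `t` with `-1` space of dimension 2 and, with every such
involution, all Siegel elements of its fixed space, is `E Q` (dimension at least 7).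
-/

set_option autoImplicit false
set_option linter.unusedSectionVars false

namespace Cfsg.Agent.H198.IF

open QuadraticMap Matrix Module
open Cfsg.Agent.LieClassical.OrthCore Cfsg.Agent.LieClassical.OrthTrans Cfsg.Agent.LieClassical.OrthSimple
open Cfsg.Agent.H989.Gs.Gen
open Cfsg.Agent.H989.Fx (Fund fund_ap)
open Cfsg.Agent.UGT.U2.FOne.Orth (Four tl)
open Cfsg.Agent.H112.Row2.OrthExt (QU QU_apply polar_QU)

variable {F V : Type*} [Field F] [AddCommGroup V] [Module F V] {Q : QuadraticForm F V}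

/-- a square root of `-1` in `SL₂` -/
theorem exists_sq (F : Type*) [Field F] [Finite F] : ∃ c : _root_.Matrix.SpecialLinearGroup (Fin 2) F, c * c = neg₂ F := by
  obtain ⟨p, hp⟩ := CharP.exists F
  have hpp : Fact p.Prime := ⟨CharP.char_is_prime F p⟩
  obtain ⟨a, b, hab⟩ := CharP.sq_add_sq F p (-1)
  push_cast at hab
  refine ⟨⟨!![(a : F), b; b, -a], ?_⟩, ?_⟩
  · rw [Matrix.det_fin_two_of]
    linear_combination -hab
  · apply Subtype.ext
    change !![(a : F), b; b, -a] * !![(a : F), b; b, -a] = -1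
    ext i j
    fin_cases i <;> fin_cases j
    · simp only [Matrix.mul_apply, Fin.sum_univ_two, _root_.Fin.zero_eta, _root_.Fin.isValue, _root_.Matrix.of_apply, _root_.Matrix.cons_val', _root_.Matrix.cons_val_fin_one, _root_.Matrix.cons_val_zero, _root_.Matrix.cons_val_one, _root_.Matrix.neg_apply, _root_.Matrix.one_apply_eq]
      linear_combination hab
    · simp only [Matrix.mul_apply, Fin.sum_univ_two, _root_.Fin.zero_eta, _root_.Fin.isValue, _root_.Fin.mk_one, _root_.Matrix.of_apply, _root_.Matrix.cons_val', _root_.Matrix.cons_val_fin_one, _root_.Matrix.cons_val_zero, _root_.Matrix.cons_val_one, _root_.mul_neg, _root_.Matrix.neg_apply, _root_.Nat.reduceAdd, _root_.ne_eq, _root_.zero_ne_one, _root_.not_false_eq_true, _root_.Matrix.one_apply_ne, _root_.neg_zero]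
      ring
    · simp only [Matrix.mul_apply, Fin.sum_univ_two, _root_.Fin.mk_one, _root_.Fin.isValue, _root_.Fin.zero_eta, _root_.Matrix.of_apply, _root_.Matrix.cons_val', _root_.Matrix.cons_val_fin_one, _root_.Matrix.cons_val_one, _root_.Matrix.cons_val_zero, _root_.neg_mul, _root_.Matrix.neg_apply, _root_.Nat.reduceAdd, _root_.ne_eq, _root_.one_ne_zero, _root_.not_false_eq_true, _root_.Matrix.one_apply_ne, _root_.neg_zero]
      ring
    · simp only [Matrix.mul_apply, Fin.sum_univ_two, _root_.Fin.mk_one, _root_.Fin.isValue, _root_.Matrix.of_apply, _root_.Matrix.cons_val', _root_.Matrix.cons_val_fin_one, _root_.Matrix.cons_val_one, _root_.Matrix.cons_val_zero, _root_.mul_neg, _root_.neg_mul, _root_.neg_neg, _root_.Matrix.neg_apply, _root_.Matrix.one_apply_eq]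
      linear_combination hab

/-- a vector orthogonal to the `-1` space is fixed -/
theorem mem_Fix_of_orth (hQ : Nondeg Q) (h2 : (2 : F) ≠ 0) {t : ↥(E Q)} (ht : t * t = 1) {v : V}
    (hv : ∀ w ∈ Neg t, polar Q v w = 0) : v ∈ Fix t := by
  have htt : ∀ v, ap t (ap t v) = v := fun v => by rw [← ap_mul, ht, ap_one]
  have hb : v - ap t v ∈ Neg t := by rw [mem_Neg, ap_sub, htt, neg_sub]
  have h0 : v - ap t v = 0 := by
    apply hQ
    intro y
    obtain ⟨u, w, rfl⟩ := H112.Row2.OrthExt.exists_dec (isCompl h2 ht) y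
    have h1 : polar Q (v - ap t v) (u : V) = 0 := by
      rw [polar_comm]
      exact orth h2 _ u.2 _ hb
    have h3 : polar Q (ap t v) (w : V) = 0 := by
      have h4 := polar_ap t (ap t v) (w : V)
      rw [htt, mem_Neg.1 w.2, polar_neg_right, hv _ w.2, neg_zero] at h4
      exact h4.symm
    rw [polar_add_right, h1, zero_add, polar_sub_left, hv _ w.2, h3, sub_zero]
  rw [mem_Fix]
  exact (sub_eq_zero.1 h0).symm

/-- the restricted quadruple in the big space -/
theorem four_of_QU {D : Submodule F V} {e₁ f₁ e₂ f₂ : D} (h : Four (QU Q D) e₁ f₁ e₂ f₂) :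
    Four Q (e₁ : V) (f₁ : V) (e₂ : V) (f₂ : V) where
  h1 := ⟨h.h1.left, h.h1.right, by rw [← polar_QU]; exact h.h1.pair⟩
  h2 := ⟨h.h2.left, h.h2.right, by rw [← polar_QU]; exact h.h2.pair⟩
  ee := by rw [← polar_QU]; exact h.ee
  ef := by rw [← polar_QU]; exact h.ef
  fe := by rw [← polar_QU]; exact h.fe
  ff := by rw [← polar_QU]; exact h.ff

/-- a quadruple in a nondegenerate space of dimension at least 5 -/
theorem exists_four_mem [Finite F] [FiniteDimensional F V] {D : Submodule F V} (hD : Nondeg (QU Q D))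
    (h5 : 5 ≤ finrank F D) : ∃ e₁ f₁ e₂ f₂ : D, Four Q (e₁ : V) (f₁ : V) (e₂ : V) (f₂ : V) := by
  have H0 : HS (QU Q D) (![] : Fin 0 → D) ![] :=
    ⟨fun i => i.elim0, fun i => i.elim0, fun i => i.elim0, fun i => i.elim0, fun i => i.elim0⟩
  obtain ⟨x₁, y₁, H1⟩ := H0.exists_cons hD (by omega)
  obtain ⟨x₂, y₂, H2⟩ := H1.exists_cons hD (by omega)
  exact ⟨x₂, y₂, x₁, y₁, four_of_QU (H2.four (i := 0) (j := 1) (by decide))⟩

/-- the average of a vector under an involution -/
theorem avg_fix (h2 : (2 : F) ≠ 0) {t : ↥(E Q)} (ht : t * t = 1) (y : V) : (2 : F)⁻¹ • (y + ap t y) ∈ Fix t := by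
  rw [mem_Fix, ap_smul, ap_add, ← ap_mul, ht, ap_one, add_comm]

theorem polar_avg (h2 : (2 : F) ≠ 0) {t : ↥(E Q)} {x : V} (hx : ap t x = x) (y : V) :
    polar Q x ((2 : F)⁻¹ • (y + ap t y)) = polar Q x y := by
  have h1 := polar_ap t x y
  rw [hx] at h1
  rw [polar_smul_right, polar_add_right, h1, smul_eq_mul, ← two_mul, inv_mul_cancel_left₀ h2]

/-- **generation by involutions with `-1` space of dimension 2** -/
theorem end_t2 [Finite F] [FiniteDimensional F V] (h2 : (2 : F) ≠ 0) (hQ : Nondeg Q) (hN : 7 ≤ finrank F V)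
    (X : Subgroup ↥(E Q)) {t : ↥(E Q)} (ht : t * t = 1) (hk : finrank F (Neg t) = 2) (htX : t ∈ X)
    (step : ∀ t : ↥(E Q), t * t = 1 → finrank F (Neg t) = 2 → t ∈ X → ∀ u w : V, Q u = 0 → polar Q u w = 0 →
      ap t u = u → ap t w = w → S Q u w ∈ X) : X = ⊤ := by
  have hG : Good Q := LieClassical.OrthFinite.good_of_finite hQ (by omega)
  have hdt := Submodule.finrank_add_eq_of_isCompl (isCompl h2 ht)
  have hD : Nondeg (QU Q (Fix t)) := nondeg_QU hQ (isCompl h2 ht) (orth h2)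
  obtain ⟨e₁, f₁, e₂, f₂, h⟩ := exists_four_mem hD (by omega)
  obtain ⟨c, hc⟩ := exists_sq F
  have te₁ : ap t (e₁ : V) = e₁ := e₁.2
  have tf₁ : ap t (f₁ : V) = f₁ := f₁.2
  have te₂ : ap t (e₂ : V) = e₂ := e₂.2
  have tf₂ : ap t (f₂ : V) = f₂ := f₂.2
  -- the second involution
  have hX1 : h.rhoE c ∈ X := by
    apply rho_mem_of h
    · intro s
      exact step t ht hk htX _ _ h.h1.left (by rw [polar_smul_right, h.ef, smul_zero]) te₁ (by rw [ap_smul, tf₂])
    · intro s
      exact step t ht hk htX _ _ h.h2.left (by rw [polar_smul_right, polar_zero_of_comm h.fe, smul_zero]) te₂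
        (by rw [ap_smul, tf₁])
  have hX2 : h.swap.rhoE c ∈ X := by
    apply rho_mem_of h.swap
    · intro s
      exact step t ht hk htX _ _ h.h1.left (by rw [polar_smul_right, h.ee, smul_zero]) te₁ (by rw [ap_smul, te₂])
    · intro s
      exact step t ht hk htX _ _ h.h2.right (by rw [polar_smul_right, polar_zero_of_comm h.ff, smul_zero]) tf₂
        (by rw [ap_smul, tf₁])
  obtain ⟨t', ht'⟩ : ∃ t', t' = h.rhoE c * h.swap.rhoE c := ⟨_, rfl⟩
  have ht'X : t' ∈ X := by rw [ht']; exact X.mul_mem hX1 hX2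
  obtain ⟨ht't', hk'⟩ := H100.IF.t2_mul h h2 hQ hc hc
  rw [← ht'] at ht't' hk'
  have hdt' := Submodule.finrank_add_eq_of_isCompl (isCompl h2 ht't')
  -- the `-1` space of `t` is fixed by `t'`
  have hNF : Neg t ≤ Fix t' := by
    intro w hw
    have key : ∀ e, ap t e = e → polar Q e w = 0 := fun e he => orth h2 e (mem_Fix.2 he) w hw
    have p1 := key _ te₁
    have p2 := key _ tf₁
    have p3 := key _ te₂
    have p4 := key _ tf₂
    rw [mem_Fix, ht', ap_mul, rho_fix h.swap p1 p2 p4 p3, rho_fix h p1 p2 p3 p4]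
  -- `t'` leaves the fixed space of `t` invariant
  have hinv : ∀ u ∈ Fix t, ap t' u ∈ Fix t := by
    intro u hu
    refine mem_Fix_of_orth hQ h2 ht fun w hw => ?_
    have h1 := polar_ap t' u w
    rw [mem_Fix.1 (hNF hw), orth h2 u hu w hw] at h1
    exact h1
  -- a hyperbolic pair
  have hW : 3 ≤ finrank F ↥(Fix t ⊓ Fix t') := by
    have h1 := Submodule.finrank_sup_add_finrank_inf_eq (Fix t) (Fix t')
    have h3 := Submodule.finrank_le (Fix t ⊔ Fix t')
    omega
  obtain ⟨x, hxW, hx0, hx⟩ := LieClassical.OrthFinite.exists_sing_mem (Q := Q) (Fix t ⊓ Fix t') hW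
  obtain ⟨y₀, hy₀⟩ := Cfsg.Agent.LieClassical.OrthTrans.exists_hyp hQ hx hx0
  obtain ⟨y₁, hy₁⟩ : ∃ y₁, y₁ = (2 : F)⁻¹ • (y₀ + ap t y₀) := ⟨_, rfl⟩
  obtain ⟨y₂, hy₂⟩ : ∃ y₂, y₂ = (2 : F)⁻¹ • (y₁ + ap t' y₁) := ⟨_, rfl⟩
  have m1 : y₁ ∈ Fix t := by rw [hy₁]; exact avg_fix h2 ht y₀
  have m2 : y₂ ∈ Fix t' := by rw [hy₂]; exact avg_fix h2 ht't' y₁
  have m3 : y₂ ∈ Fix t := by
    rw [hy₂]
    exact (Fix t).smul_mem _ ((Fix t).add_mem m1 (hinv _ m1))
  have q1 : polar Q x y₁ = 1 := by rw [hy₁, polar_avg h2 (mem_Fix.1 hxW.1), hy₀.pair]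
  have q2 : polar Q x y₂ = 1 := by rw [hy₂, polar_avg h2 (mem_Fix.1 hxW.2), q1]
  have hxy : Hyp Q x (y₂ + (-Q y₂) • x) := by
    refine ⟨hx, ?_, ?_⟩
    · rw [Q_add, QuadraticMap.map_smul, hx, polar_smul_right, polar_comm Q y₂ x, q2]
      simp
    · rw [polar_add_right, polar_smul_right, polar_self_of_sing hx, q2]
      simp
  refine end_two hG hxy (Neg t) (Fix t) (Fix t') ?_ hNF hxW.1 ((Fix t).add_mem m3 ((Fix t).smul_mem _ hxW.1)) hxW.2
    ((Fix t').add_mem m2 ((Fix t').smul_mem _ hxW.2)) (fun u hu => orth h2 _ hxW.1 u hu)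
    (fun u hu => orth h2 _ ((Fix t).add_mem m3 ((Fix t).smul_mem _ hxW.1)) u hu) X ?_ ?_
  · rw [sup_comm]
    exact (isCompl h2 ht).sup_eq_top
  · intro u hu w hw h3 h4
    exact step t ht hk htX u w h3 h4 (mem_Fix.1 hu) (mem_Fix.1 hw)
  · intro u hu w hw h3 h4
    exact step t' ht't' hk' ht'X u w h3 h4 (mem_Fix.1 hu) (mem_Fix.1 hw)

end Cfsg.Agent.H198.IF
end

-- part: H237/IF/MinFive
section
/-!
# S5719, box M: every proper subgroup of `E Q`, `dim V = 5`, odd characteristic, has index at least `q ^ 3`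
(helper237)
-/

set_option autoImplicit false

namespace Cfsg.Agent.H237.IF

open QuadraticMap Module
open Cfsg.Agent.LieClassical.OrthCore Cfsg.Agent.LieClassical.OrthTrans
open Cfsg.Agent.LieClassical.OrthFinite Cfsg.Agent.LieClassical.OrthForms
open Cfsg.Agent.H75.OrthIdx Cfsg.Agent.H160.QSpin Cfsg.Agent.H160.QDisc

section grp

variable {G H : Type*} [Group G] [Group H]

theorem sup_central_ne (hp : commutator G = ⊤) {K N : Subgroup G} (hN : N ≤ Subgroup.center G)
    (hK : K ≠ ⊤) : K ⊔ N ≠ ⊤ := by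
  intro h
  apply hK
  rw [eq_top_iff, ← hp, commutator_def, Subgroup.commutator_le]
  intro x _ y _
  have hN' : N.Normal := ⟨fun n hn g => by
    rw [Subgroup.mem_center_iff.1 (hN hn) g, mul_inv_cancel_right]; exact hn⟩
  have hx : x ∈ K ⊔ N := by rw [h]; trivial
  have hy : y ∈ K ⊔ N := by rw [h]; trivial
  obtain ⟨k, hk, n, hn, rfl⟩ := Subgroup.mem_sup_of_normal_right.1 hx
  obtain ⟨k', hk', n', hn', rfl⟩ := Subgroup.mem_sup_of_normal_right.1 hy
  have c1 : ∀ g, n * g = g * n := fun g => (Subgroup.mem_center_iff.1 (hN hn) g).symm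
  have c2 : ∀ g, n' * g = g * n' := fun g => (Subgroup.mem_center_iff.1 (hN hn') g).symm
  rw [commutatorElement_def]
  have e : k * n * (k' * n') * (k * n)⁻¹ * (k' * n')⁻¹ = k * k' * k⁻¹ * k'⁻¹ := by
    have e1 : k * n * (k' * n') = k * k' * (n * n') := by
      rw [mul_assoc, ← mul_assoc n, c1 k', mul_assoc k' n n', ← mul_assoc]
    have e2 : (k * n)⁻¹ * (k' * n')⁻¹ = (n * n')⁻¹ * (k⁻¹ * k'⁻¹) := by
      rw [← mul_inv_rev, ← mul_inv_rev, ← mul_inv_rev]
      congr 1
      rw [mul_assoc, c2, mul_assoc k n n', ← mul_assoc, ← mul_assoc]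
    rw [mul_assoc, e2, e1, mul_assoc (k * k'), mul_inv_cancel_left, ← mul_assoc]
  rw [e]
  exact K.mul_mem (K.mul_mem (K.mul_mem hk hk') (K.inv_mem hk)) (K.inv_mem hk')

theorem map_ne_top (hp : commutator G = ⊤) (f : G →* H) (hf : f.ker ≤ Subgroup.center G)
    {K : Subgroup G} (hK : K ≠ ⊤) : K.map f ≠ ⊤ := by
  intro h
  have h1 := Subgroup.comap_map_eq f K
  rw [h, Subgroup.comap_top] at h1
  exact sup_central_ne hp hf hK h1.symm

end grp

/-- the minimal index in `PSp 2 F` -/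
theorem psp_min {F : Type*} [Field F] [Fintype F] (h2 : (2 : F) ≠ 0)
    (H : Subgroup (Cfsg.PSp 2 F)) (hH : H ≠ ⊤) : Fintype.card F ^ 3 ≤ H.index := by
  have hq1 : 1 < Fintype.card F := Fintype.one_lt_card
  have hodd : Odd (Fintype.card F) := Cfsg.Agent.LieClassical.PomegaCard.odd_card_iff.2 h2
  have hq3 : 3 ≤ Fintype.card F := by
    rcases hodd with ⟨k, hk⟩
    omega
  by_cases h3 : Fintype.card F = 3
  · let K := GaloisField 2 2
    have : Finite K := Nat.finite_of_card_ne_zero (by rw [GaloisField.card 2 2 (by norm_num)]; norm_num)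
    let _ : Fintype K := Fintype.ofFinite K
    have hK : Fintype.card K = 4 := by
      rw [← Nat.card_eq_fintype_card, GaloisField.card 2 2 (by norm_num)]; norm_num
    obtain ⟨φ⟩ := Cfsg.Agent.S0822.result (F := K) (K := F) hK h3
    have h1 := (Cfsg.Agent.S2150.result (F := K) 2 (by rw [hK]; norm_num) (by norm_num)).1
      ((H.comap (φ : Cfsg.PSU 4 K 2 →* Cfsg.PSp 2 F) :)) (by
        intro h2
        apply hH
        rw [eq_top_iff]
        intro y _
        obtain ⟨z, rfl⟩ := φ.surjective y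
        have : z ∈ H.comap (φ : Cfsg.PSU 4 K 2 →* Cfsg.PSp 2 F) := by rw [h2]; trivial
        exact this)
    rw [Subgroup.index_comap_of_surjective _ φ.surjective] at h1
    rw [h3]
    norm_num at h1 ⊢
    exact h1
  · have h1 := (Cfsg.Agent.S2141.result (F := F) rfl 2 le_rfl hq3 (fun h => h3 h.2)).1 H hH
    refine le_trans ?_ h1
    rw [Nat.le_div_iff_mul_le (by omega)]
    obtain ⟨r, hr⟩ : ∃ r, Fintype.card F = r + 1 := ⟨Fintype.card F - 1, by omega⟩
    rw [hr, Nat.add_sub_cancel]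
    apply Nat.le_sub_of_add_le
    have h4 : 1 ≤ (r + 1) ^ 3 := Nat.one_le_pow _ _ (by omega)
    have h5 : (r + 1) ^ (2 * 2) = (r + 1) ^ 3 * r + (r + 1) ^ 3 := by ring
    rw [h5]
    omega

section main

variable {F V W : Type*} [Field F] [AddCommGroup V] [Module F V] [AddCommGroup W] [Module F W]

theorem cj_mem_E' {Q : QuadraticForm F V} {Q' : QuadraticForm F W} {e : V ≃ₗ[F] W}
    (he : IsIso Q Q' e) {g : V ≃ₗ[F] V} (hg : g ∈ E Q) : cj e g ∈ E Q' := by
  have key : E Q ≤ (E Q').comap (cjEquiv e).toMonoidHom := by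
    rw [E, Subgroup.closure_le]
    rintro _ ⟨u, w, hu, hw, rfl⟩
    have hu' : Q' (e u) = 0 := by rw [he, hu]
    have hw' : polar Q' (e u) (e w) = 0 := by rw [he.polar, hw]
    have h1 : cj e (siegel Q u w hu hw) = siegel Q' (e u) (e w) hu' hw' := by
      ext v
      obtain ⟨v, rfl⟩ := e.surjective v
      rw [cj_apply', siegel_apply, siegel_apply, he.polar, he.polar, he]
      simp
    show cj e (siegel Q u w hu hw) ∈ E Q'
    rw [h1]
    exact siegel_mem_E _ _
  exact key hg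

/-- the isomorphism of the groups `E` induced by an isometry -/
def eIso {Q : QuadraticForm F V} {Q' : QuadraticForm F W} {e : V ≃ₗ[F] W}
    (he : IsIso Q Q' e) : ↥(E Q) ≃* ↥(E Q') where
  toFun g := ⟨cj e g.1, cj_mem_E' he g.2⟩
  invFun g := ⟨cj e.symm g.1, cj_mem_E' he.symm g.2⟩
  left_inv g := by ext v; simp [cj]
  right_inv g := by ext v; simp [cj]
  map_mul' a b := Subtype.ext (cj_mul e a.1 b.1)

theorem E_smul_le' {Q : QuadraticForm F V} {d : F} (hd : d ≠ 0) : E (d • Q) ≤ E Q := by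
  have hpol : ∀ x y, polar (d • Q) x y = d * polar Q x y := fun x y => by
    simp only [QuadraticMap.polar, _root_.smul_apply, smul_eq_mul]; ring
  have hap : ∀ x, (d • Q) x = d * Q x := fun x => rfl
  rw [E, Subgroup.closure_le]
  rintro _ ⟨u, w, hu, hw, rfl⟩
  have hu' : Q u = 0 := by
    rw [hap] at hu
    exact (mul_eq_zero.1 hu).resolve_left hd
  have hw' : polar Q u (d • w) = 0 := by
    rw [hpol] at hw
    rw [polar_smul_right, smul_eq_mul]
    exact hw
  have : siegel (d • Q) u w hu hw = siegel Q u (d • w) hu' hw' := by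
    ext v
    rw [siegel_apply, siegel_apply, hpol, hpol, hap, QuadraticMap.map_smul, polar_smul_left]
    simp only [smul_eq_mul]
    module
  rw [this]
  exact siegel_mem_E _ _

theorem E_smul' {Q : QuadraticForm F V} {d : F} (hd : d ≠ 0) : E (d • Q) = E Q := by
  apply le_antisymm (E_smul_le' hd)
  have h1 := E_smul_le' (Q := d • Q) (inv_ne_zero hd)
  rwa [smul_smul, inv_mul_cancel₀ hd, one_smul] at h1

/-- the groups `E` of the odd-dimensional nondegenerate spaces of equal dimension -/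
theorem exists_equiv_odd [Finite F] [FiniteDimensional F V] [FiniteDimensional F W] (h2 : (2 : F) ≠ 0)
    {Q : QuadraticForm F V} {Q' : QuadraticForm F W} (hQ : Nondeg Q) (hQ' : Nondeg Q')
    (hd : finrank F V = finrank F W) (ho : Odd (finrank F V)) : Nonempty (↥(E Q) ≃* ↥(E Q')) := by
  classical
  let _ : Fintype F := Fintype.ofFinite F
  have hs : dc Q * dc Q' = 1 ∨ dc Q * dc Q' = -1 := by
    rcases dc_cases hQ with h | h <;> rcases dc_cases hQ' with h' | h' <;> rw [h, h'] <;> norm_num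
  obtain ⟨c, hc, hcc⟩ := exists_qc h2 hs
  have hQc : Nondeg (c • Q) := by
    intro x hx
    apply hQ
    intro y
    have h1 := hx y
    have h3 : polar (c • Q) x y = c * polar Q x y := by
      simp only [QuadraticMap.polar, _root_.smul_apply, smul_eq_mul]; ring
    rw [h3] at h1
    exact (mul_eq_zero.1 h1).resolve_left hc
  have hdc : dc (c • Q) = dc Q' := by
    rw [dc_smul, hcc]
    obtain ⟨k, hk⟩ := ho
    rw [hk, pow_succ, pow_mul]
    rcases dc_cases hQ with h | h <;> rcases dc_cases hQ' with h' | h' <;> rw [h, h'] <;> norm_num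
  obtain ⟨e, he⟩ := exists_iso h2 hQc hQ' hd hdc
  exact ⟨(MulEquiv.subgroupCongr (E_smul' hc).symm).trans (eIso he)⟩

/-- every proper subgroup of `E Q`, `dim V = 5`, has index at least `q ^ 3` -/
theorem min_index_five [Finite F] [FiniteDimensional F V] {Q : QuadraticForm F V} (h2 : (2 : F) ≠ 0)
    (hQ : Nondeg Q) (h5 : finrank F V = 5) (K : Subgroup ↥(E Q)) (hK : K ≠ ⊤) :
    Nat.card F ^ 3 ≤ K.index := by
  classical
  let _ : Fintype F := Fintype.ofFinite F
  have hO : Nondeg (oddForm 2 F) := nondeg_oddForm 2 F h2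
  have hfr : finrank F (Unit ⊕ (Fin 2 ⊕ Fin 2) → F) = 5 := by
    rw [Module.finrank_fintype_fun_eq_card]; simp
  have hG : Good (oddForm 2 F) := good_of_finite hO (by rw [hfr])
  obtain ⟨ε⟩ := exists_equiv_odd h2 hQ hO (by rw [h5, hfr]) (by rw [h5]; decide)
  have hodd : Odd (Fintype.card F) := Cfsg.Agent.LieClassical.PomegaCard.odd_card_iff.2 h2
  have hi := (Cfsg.Agent.S0301.result (F := F) hodd)
  rw [← coe_oddForm] at hi
  obtain ⟨ι⟩ := hi
  let f : ↥(E Q) →* Cfsg.PSp 2 F := ι.toMonoidHom.comp ((omHom hG).comp ε.toMonoidHom)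
  have hf : Function.Surjective f := ι.surjective.comp ((omHom_surjective hG).comp ε.surjective)
  have hk : f.ker ≤ Subgroup.center ↥(E Q) := by
    intro z hz
    have h1 : ι (omHom hG (ε z)) = 1 := hz
    rw [MulEquiv.map_eq_one_iff] at h1
    have h3 : ε z ∈ (omHom hG).ker := h1
    rw [omHom_ker] at h3
    rw [Subgroup.mem_center_iff] at h3 ⊢
    intro g
    apply ε.injective
    rw [map_mul, map_mul, h3]
  have hp : commutator ↥(E Q) = ⊤ := by
    apply Subgroup.map_injective (Subgroup.subtype_injective (E Q))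
    rw [Subgroup.map_subtype_commutator, (good_of_finite hQ (by rw [h5])).E_perfect,
      ← MonoidHom.range_eq_map, Subgroup.range_subtype]
  have h1 := psp_min h2 (K.map f) (map_ne_top hp f hk hK)
  rw [Nat.card_eq_fintype_card]
  refine h1.trans (Nat.le_of_dvd ?_ (Subgroup.index_map_dvd K hf))
  have : Finite V := Module.finite_of_finite F
  exact Nat.pos_of_ne_zero Subgroup.index_ne_zero_of_finite

end main

end Cfsg.Agent.H237.IF
end

-- part: H989/Fx/Nine
section
/-!
# S5719, `Ω_9(q)`, `q` odd: a fundamental involution in `A` (helper989)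

`nine` : if `A` contains no involution of rank 2 then `A` contains no fundamental involution.
-/

set_option autoImplicit false
set_option linter.unusedSectionVars false
set_option linter.unusedSimpArgs false
set_option linter.unusedVariables false

namespace Cfsg.Agent.H989.Fx

open QuadraticMap Module Cfsg.Agent.LieClassical Cfsg.Agent.LieClassical.OrthCore Cfsg.Agent.LieClassical.OrthTrans
  Cfsg.Agent.LieClassical.OrthSimple
open Cfsg.Agent.H325.IF (Vm Vp mem_Vm mem_Vp)
open Cfsg.Agent.H989.Gs.Gen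
open Cfsg.Agent.UGT.U2.FOne.Orth (Four)
open Cfsg.Agent.H198.IF (Fix Neg mem_Fix mem_Neg xt xt_left xt_right xt_comm orth finrank_Fix neg₂ rho_neg rho_fix)
open Cfsg.Agent.H112.Row2.OrthExt (QU QU_apply polar_QU)
open Cfsg.Agent.H209.Fxy (IF)
open Matrix (SpecialLinearGroup)

universe u v

variable {F : Type u} {V : Type v} [Field F] [AddCommGroup V] [Module F V] {Q : QuadraticForm F V}

/-- a fundamental involution is the `-1` of a quadruple -/
theorem exists_rho (h2 : (2 : F) ≠ 0) {z : ↥(E Q)} (hz : Fund Q z) :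
    ∃ (e₁ f₁ e₂ f₂ : V) (h : Four Q e₁ f₁ e₂ f₂), z = h.rhoE (neg₂ F) := by
  obtain ⟨e₁, f₁, e₂, f₂, h, z1, z2, z3, z4, z5⟩ := hz
  refine ⟨e₁, f₁, e₂, f₂, h, ?_⟩
  obtain ⟨k1, k2, k3, k4⟩ := rho_neg h
  apply ext_ap
  intro v
  rw [fund_ap h z1 z2 z3 z4 z5 v, fund_ap h k1 k2 k3 k4 (fun w w1 w2 w3 w4 => rho_fix h w1 w2 w3 w4 _) v]

/-- two singular opposite Siegel groups -/
theorem S_eq_S {e f : V} (h : Hyp Q e f) {a b : V} (ha : a ∈ Dp Q e f) (hb : b ∈ Dp Q e f)
    (hab : S Q e a = S Q f b) : a = 0 ∧ b = 0 := by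
  have h1 : ap (S Q e a) e = ap (S Q f b) e := by rw [hab]
  rw [S_ap h.left ha.1, S_ap h.right hb.2, polar_self_of_sing h.left, polar_comm Q f e, h.pair,
    polar_comm Q b e, hb.1, polar_comm Q a e, ha.1] at h1
  have h3 : b = Q b • f := by
    have h4 : b - Q b • f = 0 := by
      have : b - Q b • f = (e + (1 : F) • b - (0 : F) • f - (Q b * 1) • f) -
        (e + (0 : F) • a - (0 : F) • e - (Q a * 0) • e) := by module
      rw [this, h1, sub_self]
    exact sub_eq_zero.1 h4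
  have h5 : Q b = 0 := by
    have h6 := hb.1
    rw [h3, polar_smul_right, h.pair, smul_eq_mul, mul_one] at h6
    exact h6
  have hb0 : b = 0 := by rw [h3, h5, zero_smul]
  refine ⟨?_, hb0⟩
  apply S_inj h ha (Dp Q e f).zero_mem
  rw [hab, hb0, S_zero, S_zero]

/-- a lower bound for `|E Q|` -/
theorem card_E_ge [Finite F] [FiniteDimensional F V] {e f : V} (h : Hyp Q e f) {n : ℕ} (hn : finrank F V = n + 2) :
    Nat.card F ^ n * Nat.card F ^ n ≤ Nat.card ↥(E Q) := by
  have hfin : Finite V := Module.finite_of_finite F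
  have hfinE : Finite ↥(E Q) := finite_E
  rw [← card_Dp h hn, ← Nat.card_prod]
  refine Nat.card_le_card_of_injective (fun x : Dp Q e f × Dp Q e f => S Q e (x.1 : V) * S Q f (x.2 : V)) ?_
  rintro ⟨a, b⟩ ⟨a', b'⟩ hx
  have hx' : S Q e (a : V) * S Q f (b : V) = S Q e (a' : V) * S Q f (b' : V) := hx
  have h1 : (S Q e (a' : V))⁻¹ * S Q e (a : V) = S Q f (b' : V) * (S Q f (b : V))⁻¹ := by
    rw [eq_mul_inv_iff_mul_eq, mul_assoc, hx', inv_mul_cancel_left]
  have hn1 : polar Q e (-(a' : V)) = 0 := by rw [polar_neg_right, a'.2.1, neg_zero]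
  have hn2 : polar Q f (-(b : V)) = 0 := by rw [polar_neg_right, b.2.2, neg_zero]
  rw [S_inv h.left a'.2.1, S_inv h.right b.2.2, ← S_add h.left hn1 a.2.1, ← S_add h.right b'.2.2 hn2] at h1
  obtain ⟨h3, h4⟩ := S_eq_S h ((Dp Q e f).add_mem ((Dp Q e f).neg_mem a'.2) a.2)
    ((Dp Q e f).add_mem b'.2 ((Dp Q e f).neg_mem b.2)) h1
  refine Prod.ext (Subtype.ext ?_) (Subtype.ext ?_)
  · exact (neg_add_eq_zero.1 h3).symm
  · exact (add_neg_eq_zero.1 h4).symm

/-- the index of a group of scalars -/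
theorem index_scalar_ge [Finite F] [FiniteDimensional F V] (h2 : (2 : F) ≠ 0) (hG : Good Q) {n : ℕ}
    (hn : finrank F V = n + 2) {N : Subgroup ↥(E Q)} (hN : ∀ x ∈ N, ∃ c : F, ∀ v, ap x v = c • v) :
    Nat.card F ^ n * Nat.card F ^ n ≤ 2 * N.index := by
  classical
  have hfin : Finite V := Module.finite_of_finite F
  have hfinE : Finite ↥(E Q) := finite_E
  obtain ⟨x, hx⟩ : ∃ x : V, Q x ≠ 0 := by
    by_contra hcon
    push Not at hcon
    have h3 : ∀ v : V, v = 0 := fun v => hG.nondeg v fun y => by simp [polar, hcon]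
    have : Subsingleton V := ⟨fun a b => (h3 a).trans (h3 b).symm⟩
    rw [finrank_zero_of_subsingleton] at hn
    omega
  have key : ∀ y ∈ N, y = 1 ∨ ∀ v, ap y v = -v := by
    intro y hy
    obtain ⟨c, hc⟩ := hN y hy
    have h3 : Q (c • x) = Q x := by rw [← hc, Q_ap]
    rw [QuadraticMap.map_smul, smul_eq_mul] at h3
    have h4 : c * c = 1 := mul_right_cancel₀ hx (h3.trans (one_mul _).symm)
    rcases mul_self_eq_one_iff.1 h4 with rfl | rfl
    · left
      exact ext_ap fun v => by rw [hc, one_smul, ap_one]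
    · right
      exact fun v => by rw [hc, neg_one_smul]
  have hcN : Nat.card N ≤ 2 := by
    have h3 : Nat.card N ≤ Nat.card Bool := by
      refine Nat.card_le_card_of_injective (fun y : N => decide ((y : ↥(E Q)) = 1)) ?_
      intro y y' hyy
      have h4 : ((y : ↥(E Q)) = 1 ↔ (y' : ↥(E Q)) = 1) := by simpa using hyy
      apply Subtype.ext
      rcases key y y.2 with h5 | h5
      · rw [h5, h4.1 h5]
      · rcases key y' y'.2 with h6 | h6
        · rw [h6, h4.2 h6]
        · exact ext_ap fun v => by rw [h5, h6]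
    rwa [Nat.card_eq_fintype_card (α := Bool), Fintype.card_bool] at h3
  obtain ⟨e, f, hef⟩ : ∃ e f, Hyp Q e f := by
    obtain ⟨e, f, hef⟩ := hG.exists_hyp
    exact ⟨e, f, hef⟩
  have h3 := card_E_ge hef hn
  rw [← N.card_mul_index] at h3
  exact h3.trans (Nat.mul_le_mul_right _ hcN)

/-- two commuting `SL₂` -/
noncomputable def psi1 {e₁ f₁ e₂ f₂ : V} (h : Four Q e₁ f₁ e₂ f₂) :
    _root_.Matrix.SpecialLinearGroup (Fin 2) F × _root_.Matrix.SpecialLinearGroup (Fin 2) F →* ↥(E Q) :=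
  MonoidHom.noncommCoprod h.rhoE h.swap.rhoE fun a b => H100.IF.comm h a b

theorem psi1_apply {e₁ f₁ e₂ f₂ : V} (h : Four Q e₁ f₁ e₂ f₂) (a b : _root_.Matrix.SpecialLinearGroup (Fin 2) F) :
    psi1 h (a, b) = h.rhoE a * h.swap.rhoE b := rfl

theorem comm_xt (h2 : (2 : F) ≠ 0) {z : ↥(E Q)} (hz : z * z = 1) {x : ↥(E Q)} (hx : ∀ v, ap z v = v → ap x v = v)
    (hxz : x * z = z * x) (y : ↥(E (QU Q (_root_.Cfsg.Agent.H198.IF.Fix z)))) : x * xt h2 hz y = xt h2 hz y * x := by
  apply ext_ap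
  intro v
  obtain ⟨u, w, rfl⟩ := H112.Row2.OrthExt.exists_dec (H198.IF.isCompl h2 hz) v
  have hxw : ap x (w : V) ∈ _root_.Cfsg.Agent.H198.IF.Neg z := by
    rw [mem_Neg, ← ap_mul, ← hxz, ap_mul]
    have : ap z (w : V) = -(w : V) := w.2
    rw [this, ap_neg]
  rw [ap_mul, ap_mul, ap_add, ap_add, ap_add, ap_add, xt_left, xt_right h2 hz y w.2, hx _ (ap y u).2, hx _ u.2,
    xt_left, xt_right h2 hz y hxw]

theorem psi1_fix (h2 : (2 : F) ≠ 0) {e₁ f₁ e₂ f₂ : V} (h : Four Q e₁ f₁ e₂ f₂)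
    (x : _root_.Matrix.SpecialLinearGroup (Fin 2) F × _root_.Matrix.SpecialLinearGroup (Fin 2) F) (v : V)
    (hv : ap (h.rhoE (neg₂ F)) v = v) : ap (psi1 h x) v = v := by
  obtain ⟨a, b⟩ := x
  obtain ⟨h3, h4⟩ := H100.IF.fix_z h h2 hv a b
  rw [psi1_apply, ap_mul, h4, h3]

theorem neg₂_comm (a : _root_.Matrix.SpecialLinearGroup (Fin 2) F) : neg₂ F * a = a * neg₂ F := by
  apply Subtype.ext
  change (-1 : Matrix (Fin 2) (Fin 2) F) * a.1 = a.1 * -1
  rw [neg_one_mul, mul_neg_one]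

theorem psi1_comm {e₁ f₁ e₂ f₂ : V} (h : Four Q e₁ f₁ e₂ f₂)
    (x : _root_.Matrix.SpecialLinearGroup (Fin 2) F × _root_.Matrix.SpecialLinearGroup (Fin 2) F) :
    psi1 h x * h.rhoE (neg₂ F) = h.rhoE (neg₂ F) * psi1 h x := by
  obtain ⟨a, b⟩ := x
  rw [psi1_apply, mul_assoc, ← H100.IF.comm h (neg₂ F) b, ← mul_assoc, ← map_mul, ← neg₂_comm, map_mul, mul_assoc]

/-- the centraliser of a fundamental involution -/
noncomputable def psi (h2 : (2 : F) ≠ 0) {e₁ f₁ e₂ f₂ : V} (h : Four Q e₁ f₁ e₂ f₂)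
    (hz : h.rhoE (neg₂ F) * h.rhoE (neg₂ F) = 1) :
    (_root_.Matrix.SpecialLinearGroup (Fin 2) F × _root_.Matrix.SpecialLinearGroup (Fin 2) F) × ↥(E (QU Q (_root_.Cfsg.Agent.H198.IF.Fix (h.rhoE (neg₂ F))))) →* ↥(E Q) :=
  MonoidHom.noncommCoprod (psi1 h) (xt h2 hz) fun x y =>
    comm_xt h2 hz (fun v hv => psi1_fix h2 h x v hv) (psi1_comm h x) y

theorem Vm_eq_Neg (t : ↥(E Q)) : Vm t = _root_.Cfsg.Agent.H198.IF.Neg t := by
  ext v
  rw [mem_Vm, mem_Neg]

/-- the `-1` space of `xt y` -/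
theorem finrank_Vm_xt [FiniteDimensional F V] (h2 : (2 : F) ≠ 0) {z : ↥(E Q)} (hz : z * z = 1)
    (y : ↥(E (QU Q (_root_.Cfsg.Agent.H198.IF.Fix z)))) : finrank F (Vm (xt h2 hz y)) = finrank F (Neg y) := by
  have h1 : Vm (xt h2 hz y) = (_root_.Cfsg.Agent.H198.IF.Neg y).map (_root_.Cfsg.Agent.H198.IF.Fix z).subtype := by
    ext v
    rw [mem_Vm, Submodule.mem_map]
    constructor
    · intro hv
      obtain ⟨u, w, rfl⟩ := H112.Row2.OrthExt.exists_dec (H198.IF.isCompl h2 hz) v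
      rw [ap_add, xt_left, xt_right h2 hz y w.2] at hv
      have h3 : ((ap y u + u : Fix z) : V) = -((2 : F) • (w : V)) := by
        have h4 : ((ap y u : Fix z) : V) = -((u : V) + w) - w := eq_sub_of_add_eq hv
        rw [Submodule.coe_add, h4]
        module
      have h4 : ((ap y u + u : Fix z) : V) ∈ _root_.Cfsg.Agent.H198.IF.Neg z := by
        rw [h3]
        exact (_root_.Cfsg.Agent.H198.IF.Neg z).neg_mem ((_root_.Cfsg.Agent.H198.IF.Neg z).smul_mem _ w.2)
      have h5 : ((ap y u + u : Fix z) : V) = 0 :=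
        (Submodule.disjoint_def.1 (H198.IF.isCompl h2 hz).disjoint) _ (ap y u + u : Fix z).2 h4
      have h6 : (w : V) = 0 := by
        rw [h5] at h3
        have h7 : (2 : F) • (w : V) = 0 := neg_eq_zero.1 h3.symm
        exact (smul_eq_zero.1 h7).resolve_left h2
      refine ⟨u, ?_, by rw [h6, add_zero]; rfl⟩
      rw [mem_Neg]
      exact eq_neg_of_add_eq_zero_left (Subtype.ext h5)
    · rintro ⟨u, hu, rfl⟩
      change ap (xt h2 hz y) (u : V) = -(u : V)
      rw [xt_left, mem_Neg.1 hu]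
      rfl
  rw [h1]
  exact Submodule.finrank_map_subtype_eq (_root_.Cfsg.Agent.H198.IF.Fix z) (_root_.Cfsg.Agent.H198.IF.Neg y)

/-- an involution of rank 2 -/
theorem exists_t2 [FiniteDimensional F V] (h2 : (2 : F) ≠ 0) (hG : Good Q) :
    ∃ t : ↥(E Q), t * t = 1 ∧ finrank F (Neg t) = 2 := by
  obtain ⟨e₁, f₁, h1⟩ := hG.exists_hyp
  obtain ⟨e₂, f₂, h3, a1, a2, a3, a4⟩ := hG.exists_hyp2 h1
  have h : Four Q e₁ f₁ e₂ f₂ := ⟨h1, h3, a1, a2, a3, a4⟩
  let a : _root_.Matrix.SpecialLinearGroup (Fin 2) F := ⟨!![0, 1; -1, 0], by simp [Matrix.det_fin_two]⟩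
  have ha : a * a = neg₂ F := by
    apply Subtype.ext
    change (!![0, 1; -1, 0] : Matrix (Fin 2) (Fin 2) F) * !![0, 1; -1, 0] = -1
    ext i j
    (revert i j; simp only [Matrix.mul_apply, Fin.sum_univ_two, _root_.Fin.forall_fin_succ, _root_.Matrix.of_apply, _root_.Matrix.cons_val', _root_.Matrix.cons_val_fin_one, Fin.isValue, _root_.Matrix.cons_val_zero, _root_.Matrix.cons_val_one, _root_.Matrix.neg_apply, _root_.MulZeroClass.mul_zero, _root_.mul_neg, _root_.mul_one, _root_.zero_add, _root_.neg_inj, _root_.Matrix.cons_val_succ, _root_.add_zero, _root_.IsEmpty.forall_iff, _root_.and_true, _root_.Matrix.one_apply_eq, Nat.reduceAdd, _root_.Fin.succ_zero_eq_one, _root_.ne_eq, _root_.zero_ne_one, _root_.not_false_eq_true, _root_.Matrix.one_apply_ne, _root_.neg_zero, _root_.and_self, _root_.Fin.succ_ne_zero, _root_.true_and])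
  exact ⟨_, H100.IF.t2_mul h h2 hG.nondeg ha ha⟩

/-- (E2) without a covering -/
theorem e2_id {G : Type*} [Group G] [Finite G] [IsSimpleGroup G] {A : Subgroup G} {Γ : Subgroup (MulAut G)}
    (h : IF A Γ) (hna : ∃ a b : G, a * b ≠ b * a) {t : G} (ht : t ∈ A) (ht1 : t ≠ 1) (ht2 : t * t = 1)
    {B : Subgroup G} (hB : ∀ b ∈ B, b * t = t * b) :
    A.relIndex B ^ 5 < (Subgroup.centralizer ({t} : Set G)).index := by
  have h5 := H847.IF.lift_E2 h hna (MonoidHom.id G) (fun x => ⟨x, rfl⟩) (t := t) ht ht1 ht2 (B := B) hB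
  rwa [Subgroup.comap_id] at h5

theorem comm3 {G : Type*} [Group G] (a b z : G) (h1 : b * z = z * b) (h2 : a * z = z * a) :
    (a * b) * z = z * (a * b) := by
  rw [mul_assoc, h1, ← mul_assoc, h2, mul_assoc]

theorem psi_comm (h2 : (2 : F) ≠ 0) {e₁ f₁ e₂ f₂ : V} (h : Four Q e₁ f₁ e₂ f₂)
    (hz : h.rhoE (neg₂ F) * h.rhoE (neg₂ F) = 1) :
    ∀ b ∈ (psi h2 h hz).range, b * h.rhoE (neg₂ F) = h.rhoE (neg₂ F) * b := by
  intro b hb
  obtain ⟨⟨x, y⟩, hxy⟩ := MonoidHom.mem_range.1 hb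
  rw [← hxy]
  exact comm3 _ _ _ (xt_comm h2 hz y) (psi1_comm h x)

/-- `E Q` is not abelian -/
theorem not_comm_of_fund [FiniteDimensional F V] (h2 : (2 : F) ≠ 0) (hG : Good Q) {z : ↥(E Q)}
    (hz : Fund Q z) : ∃ a b : ↥(E Q), a * b ≠ b * a := by
  by_contra hcon
  push Not at hcon
  have hc : z ∈ Subgroup.center ↥(E Q) := Subgroup.mem_center_iff.2 fun g => hcon g z
  obtain ⟨c, hc⟩ := Cfsg.Agent.ClassicalGeometry.OrthAut1.center_scalar hG hc
  have hd := finrank_Vm_fund h2 hz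
  have h4 : Vm z ≠ ⊥ := by
    intro h5
    rw [h5, finrank_bot] at hd
    omega
  obtain ⟨v, hv, hv0⟩ := (Submodule.ne_bot_iff _).1 h4
  have h6 : c = -1 := by
    have h7 : c • v = -v := (hc v).symm.trans (mem_Vm.1 hv)
    have h8 : (c + 1) • v = 0 := by rw [add_smul, h7, one_smul, neg_add_cancel]
    exact eq_neg_of_add_eq_zero_left ((smul_eq_zero.1 h8).resolve_right hv0)
  have h7 : Vm z = ⊤ := by
    rw [eq_top_iff]
    intro v _
    rw [mem_Vm]
    exact (hc v).trans (by rw [h6, neg_one_smul])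
  rw [h7, finrank_top] at hd
  have := hG.dim
  omega

/-- the group theoretical end -/
theorem nine_core {S H G : Type*} [Group S] [Group H] [Group G] [Finite S] [Finite H] (A : Subgroup G)
    (Ψ : S × H →* G) (q : ℕ) (hlt : (A.comap Ψ).index < q ^ 4)
    (hS : q + 1 ≤ (A.comap (Ψ.comp (MonoidHom.inl S H))).index) (hH : ∀ R : Subgroup H, R ≠ ⊤ → q ^ 3 ≤ R.index)
    (hdic : ∀ N : Subgroup H, (∀ p n, n ∈ N → p * n * p⁻¹ ∈ N) → N = ⊤ ∨ q ^ 4 ≤ N.index)
    (hNtop : A.comap (Ψ.comp (MonoidHom.inr S H)) ≠ ⊤) : False := by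
  have hprod := H59.IF.index_prod (A.comap Ψ)
  rw [Subgroup.comap_comap] at hprod
  by_cases hR : (A.comap Ψ).map (MonoidHom.snd S H) = ⊤
  · rcases hdic ((A.comap Ψ).comap (MonoidHom.inr S H)) (fun p n hn => H59.IF.conj_inr (A.comap Ψ) (p := p)
      (by rw [hR]; exact Subgroup.mem_top _) hn) with h5 | h5
    · exact hNtop h5
    · have h7 := H59.IF.index_inr_le (A.comap Ψ)
      omega
  · have h5 := hH _ hR
    have h6 : (q + 1) * q ^ 3 ≤ (A.comap Ψ).index := by
      rw [hprod]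
      exact Nat.mul_le_mul hS h5
    have h7 : (q + 1) * q ^ 3 = q ^ 4 + q ^ 3 := by ring
    omega

theorem num_nine {q i : ℕ} (hq : 3 ≤ q) (h : q ^ 3 * q ^ 3 ≤ 2 * i) : q ^ 4 ≤ i := by
  have h9 : 2 * q ^ 4 ≤ q ^ 3 * q ^ 3 := by
    calc 2 * q ^ 4 ≤ q ^ 2 * q ^ 4 := by
          apply Nat.mul_le_mul_right
          nlinarith only [hq]
      _ = q ^ 3 * q ^ 3 := by ring
  exact Nat.le_of_mul_le_mul_left (h9.trans h) (by norm_num)

/-- a normal subgroup of a subgroup, mapped -/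
theorem map_conj_mem {G : Type*} [Group G] {S : Subgroup G} {N : Subgroup S} (hN : ∀ p n, n ∈ N → p * n * p⁻¹ ∈ N) :
    ∀ g ∈ S, ∀ n ∈ N.map S.subtype, g * n * g⁻¹ ∈ N.map S.subtype := by
  rintro g hg n' ⟨n, hn, hn'⟩
  refine ⟨⟨g, hg⟩ * n * (⟨g, hg⟩ : S)⁻¹, hN ⟨g, hg⟩ n hn, ?_⟩
  rw [map_mul, map_mul, map_inv, hn']
  rfl

theorem eq_top_of_map {G : Type*} [Group G] {S : Subgroup G} {N : Subgroup S} (h : N.map S.subtype = S) : N = ⊤ := by
  rw [eq_top_iff]
  intro y _
  have h6 : y.1 ∈ N.map S.subtype := by rw [h]; exact y.2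
  obtain ⟨y', hy', he⟩ := h6
  have h7 : y' = y := Subtype.ext he
  rw [← h7]
  exact hy'

/-- normal subgroups of `E Q` -/
theorem normal_dich [FiniteDimensional F V] (hG : Good Q)
    (N : Subgroup ↥(E Q)) (hN : ∀ p n, n ∈ N → p * n * p⁻¹ ∈ N) : N = ⊤ ∨ ∀ x ∈ N, ∃ c : F, ∀ v, ap x v = c • v := by
  rcases good_normal_dichotomy hG (Subgroup.map_subtype_le N) (map_conj_mem hN) with h5' | h5'
  · exact Or.inr fun x hx => h5' x.1 ⟨x, hx, rfl⟩
  · exact Or.inl (eq_top_of_map h5')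

theorem normal_or_index [Finite F] [FiniteDimensional F V] (h2 : (2 : F) ≠ 0) (hG : Good Q) (h5 : finrank F V = 5)
    (N : Subgroup ↥(E Q)) (hN : ∀ p n, n ∈ N → p * n * p⁻¹ ∈ N) : N = ⊤ ∨ Nat.card F ^ 4 ≤ N.index := by
  rcases normal_dich hG N hN with h6 | h6
  · exact Or.inl h6
  · exact Or.inr (num_nine (three_le_q h2) (index_scalar_ge h2 hG (n := 3) h5 h6))

/-- the numerical end -/
theorem index_comap_lt {G S : Type*} [Group G] [Group S] {A : Subgroup G} {Ψ : S →* G} {q c : ℕ}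
    (h5 : A.relIndex Ψ.range ^ 5 < c) (h6 : c ≤ q ^ (4 * 5)) : (A.comap Ψ).index < q ^ 4 := by
  rw [Subgroup.index_comap]
  by_contra hcon
  push Not at hcon
  have h8 : (q ^ 4) ^ 5 ≤ A.relIndex Ψ.range ^ 5 := Nat.pow_le_pow_left hcon 5
  rw [← pow_mul] at h8
  exact absurd (lt_of_le_of_lt h8 (lt_of_lt_of_le h5 h6)) (lt_irrefl _)

/-- **`N = 9`** -/
theorem nine [Finite F] [FiniteDimensional F V] (h2 : (2 : F) ≠ 0) (hG : Good Q) [IsSimpleGroup ↥(E Q)]
    (hN : finrank F V = 9) {A : Subgroup ↥(E Q)} {Γ : Subgroup (MulAut ↥(E Q))} (h : IF A Γ)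
    (hno : ∀ t ∈ A, t * t = 1 → finrank F (Vm t) ≠ 2) {z : ↥(E Q)} (hz : Fund Q z) (hzA : z ∈ A) : False := by
  have hfin : Finite V := Module.finite_of_finite F
  have hfinE : Finite ↥(E Q) := finite_E
  have hq3 := three_le_q h2
  have hna := not_comm_of_fund h2 hG hz
  obtain ⟨e₁, f₁, e₂, f₂, h4, rfl⟩ := exists_rho h2 hz
  have hsq := hz.sq
  have hcl := cls_le h2 hG (by omega) hsq (finrank_Vm_fund h2 hz)
  rw [hN] at hcl
  have hXlt := index_comap_lt (e2_id h hna hzA (hz.ne_one h2) hsq (psi_comm h2 h4 hsq)) hcl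
  have hfinH : Finite ↥(E (QU Q (_root_.Cfsg.Agent.H198.IF.Fix (h4.rhoE (neg₂ F))))) := finite_E
  have hU5 : finrank F (Fix (h4.rhoE (neg₂ F))) = 5 := by
    have := finrank_Fix h2 hz
    omega
  have hQU : Nondeg (QU Q (_root_.Cfsg.Agent.H198.IF.Fix (h4.rhoE (neg₂ F)))) :=
    H198.IF.nondeg_QU hG.nondeg (H198.IF.isCompl h2 hsq) (orth h2)
  have hGU : Good (QU Q (_root_.Cfsg.Agent.H198.IF.Fix (h4.rhoE (neg₂ F)))) := OrthFinite.good_of_finite hQU (by rw [hU5])
  have e1 : (psi h2 h4 hsq).comp (MonoidHom.inl _ _) = psi1 h4 := MonoidHom.noncommCoprod_comp_inl _ _ _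
  have e2 : (psi h2 h4 hsq).comp (MonoidHom.inr _ _) = xt h2 hsq := MonoidHom.noncommCoprod_comp_inr _ _ _
  refine nine_core A (psi h2 h4 hsq) (Nat.card F) hXlt ?_ (fun R hR => H237.IF.min_index_five h2 hQU hU5 R hR)
    (fun N hN => normal_or_index h2 hGU hU5 N hN) ?_
  · rw [e1]
    apply H59.IF.ss_index h2
    · rw [Subgroup.mem_comap, psi1_apply, map_one, mul_one]
      exact hzA
    · rw [Subgroup.mem_comap, psi1_apply, map_one, one_mul, H100.IF.swap_neg]
      exact hzA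
    · intro a b ha hb hab
      rw [Subgroup.mem_comap, psi1_apply] at hab
      obtain ⟨h6, h7⟩ := H100.IF.t2_mul h4 h2 hG.nondeg ha hb
      apply hno _ hab h6
      rw [Vm_eq_Neg]
      exact h7
  · rw [e2]
    intro htop
    obtain ⟨t, ht, ht2⟩ := exists_t2 h2 hGU
    have h5 : t ∈ A.comap (xt h2 hsq) := by rw [htop]; exact Subgroup.mem_top _
    rw [Subgroup.mem_comap] at h5
    apply hno _ h5 (by rw [← map_mul, ht, map_one])
    rw [finrank_Vm_xt, ht2]

end Cfsg.Agent.H989.Fx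
end

-- part: H59/IF/Odd
section
/-!
# S5719, `Ω₇(q)`, `Ω₉(q)`, `q` odd: the cell `CellsO.odd_mid` (helper59)

`step7`, `claim7` : no involution with `-1` space of dimension 2 in `A` (dimension 7);
`killE_small` : dimension 7 and 9; `odd_mid` : the cell.
-/

set_option autoImplicit false
set_option linter.unusedSectionVars false

namespace Cfsg.Agent.H59.IF

open QuadraticMap Matrix Module Subgroup
open Cfsg.Agent.LieClassical.OrthCore Cfsg.Agent.LieClassical.OrthTrans Cfsg.Agent.LieClassical.OrthSimple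
open Cfsg.Agent.H989.Gs.Gen
open Cfsg.Agent.H989.Fx (Fund fund_ap fund_of_four)
open Cfsg.Agent.UGT.U2.FOne.Orth (Four tl)
open Cfsg.Agent.H112.Row2.OrthExt (QU QU_apply polar_QU)
open Cfsg.Agent.H198.IF (Neg Fix neg₂ mem_Neg mem_Fix xt xt_comm xt_S)
open Cfsg.Agent.H520.IF (Tri)
open Cfsg.Agent.H209.Fxy (IF KillE)

variable {F V : Type*} [Field F] [AddCommGroup V] [Module F V] {Q : QuadraticForm F V}
variable [Finite F] [FiniteDimensional F V] {A : Subgroup ↥(E Q)} {Γ : Subgroup (MulAut ↥(E Q))}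

/-- the step of claim 0 in dimension 7 -/
theorem step7 (h2 : (2 : F) ≠ 0) (hQ : Nondeg Q) [IsSimpleGroup ↥(E Q)] (hN : finrank F V = 7) (h : IF A Γ)
    {t : ↥(E Q)} (ht : t * t = 1) (hk : finrank F (Neg t) = 2) (htA : t ∈ A) :
    ∀ u w : V, Q u = 0 → polar Q u w = 0 → ap t u = u → ap t w = w → S Q u w ∈ A := by
  have hfin : Finite V := Module.finite_of_finite F
  have hfE : Finite ↥(E Q) := Finite.of_injective (fun g : ↥(E Q) => fun v => ap g v) fun a b hab =>
    ext_ap fun v => congrFun hab v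
  have hG : Good Q := LieClassical.OrthFinite.good_of_finite hQ (by omega)
  have hc := H198.IF.isCompl h2 ht
  have hd := Submodule.finrank_add_eq_of_isCompl hc
  have hna := H520.IF.na_E hQ (by omega)
  have ht1 : t ≠ 1 := by
    rintro rfl
    have h3 : _root_.Cfsg.Agent.H198.IF.Neg (1 : ↥(E Q)) = ⊥ := by
      rw [eq_bot_iff]
      intro v hv
      have h4 := mem_Neg.1 hv
      rw [ap_one] at h4
      have h5 : (2 : F) • v = 0 := by rw [two_smul]; nth_rewrite 2 [h4]; exact add_neg_cancel v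
      exact (Submodule.mem_bot F).2 ((smul_eq_zero.1 h5).resolve_left h2)
    rw [h3, finrank_bot] at hk
    omega
  have hD : Nondeg (QU Q (_root_.Cfsg.Agent.H198.IF.Fix t)) := H198.IF.nondeg_QU hQ hc (H198.IF.orth h2)
  have key : A.comap (xt h2 ht) = ⊤ := by
    by_contra hne
    have h1 := H237.IF.min_index_five h2 hD (by omega) _ hne
    rw [Subgroup.index_comap] at h1
    have h3 := H847.IF.lift_E2 h hna (MonoidHom.id _) Function.surjective_id (t := t) htA ht1 ht
      (B := (xt h2 ht).range) (by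
        rintro _ ⟨a, rfl⟩
        exact xt_comm h2 ht a)
    have hcl := H989.Fx.cls_le h2 hG (by omega) ht (k := 2) (by rw [← H601.OTri.neg_eq_Vm]; exact hk)
    rw [hN] at hcl
    have h5 : (Nat.card F ^ 3) ^ 5 ≤ (A.relIndex (xt h2 ht).range) ^ 5 := Nat.pow_le_pow_left h1 5
    have h6 := lt_of_le_of_lt h5 (lt_of_lt_of_le h3 hcl)
    rw [← pow_mul] at h6
    have h7 : 1 < Nat.card F := Finite.one_lt_card
    have h8 := (Nat.pow_lt_pow_iff_right h7).1 h6
    omega
  intro u w hu hw hzu hzw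
  have h1 : S (QU Q (_root_.Cfsg.Agent.H198.IF.Fix t)) ⟨u, hzu⟩ ⟨w, hzw⟩ ∈ A.comap (xt h2 ht) := by
    rw [key]
    exact Subgroup.mem_top _
  rw [Subgroup.mem_comap, xt_S h2 ht ⟨u, hzu⟩ ⟨w, hzw⟩ hu hw] at h1
  exact h1

/-- **claim 0 in dimension 7** -/
theorem claim7 (h2 : (2 : F) ≠ 0) (hQ : Nondeg Q) [IsSimpleGroup ↥(E Q)] (hN : finrank F V = 7) (h : IF A Γ) :
    ∀ t ∈ A, t * t = 1 → finrank F (Neg t) ≠ 2 := by
  intro t htA ht hk
  exact h.ne_top (H198.IF.end_t2 h2 hQ (by omega) A ht hk htA fun t' ht' hk' htA' => step7 h2 hQ hN h ht' hk' htA')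

/-- **claim 0 in dimension 9** -/
theorem claim9 (h2 : (2 : F) ≠ 0) (hQ : Nondeg Q) [IsSimpleGroup ↥(E Q)] (hN : finrank F V = 9) (h : IF A Γ) :
    ∀ t ∈ A, t * t = 1 → finrank F (Neg t) ≠ 2 := by
  have hfin : Finite V := Module.finite_of_finite F
  have hfE : Finite ↥(E Q) := Finite.of_injective (fun g : ↥(E Q) => fun v => ap g v) fun a b hab =>
    ext_ap fun v => congrFun hab v
  intro t htA ht hk
  refine H94.CZ.claim0 h2 hQ (by omega) (H520.IF.na_E hQ (by omega)) h (MonoidHom.id _) Function.surjective_id ?_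
    (t := t) htA ht (Or.inl (by rw [← H601.OTri.neg_eq_Vm]; exact hk))
  intro g hg
  refine ⟨1, fun v => ?_⟩
  have h3 : g = 1 := hg
  rw [h3, one_smul]
  exact ap_one v

/-- **dimension 7 and 9** -/
theorem killE_small (h2 : (2 : F) ≠ 0) (hQ : Nondeg Q) (hN : finrank F V = 7 ∨ finrank F V = 9)
    [IsSimpleGroup ↥(E Q)] : KillE ↥(E Q) := by
  rintro A Γ hI ⟨t, htA, ht⟩
  have hG : Good Q := LieClassical.OrthFinite.good_of_finite hQ (by omega)
  have hno : ∀ t ∈ A, t * t = 1 → finrank F (Neg t) ≠ 2 := by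
    rcases hN with hN | hN
    · exact claim7 h2 hQ hN hI
    · exact claim9 h2 hQ hN hI
  have htt : t * t = 1 := by rw [← pow_two, ← ht, pow_orderOf_eq_one]
  have ht1 : t ≠ 1 := by
    rintro rfl
    rw [orderOf_one] at ht
    omega
  obtain ⟨z, hzA, hz⟩ := H520.IF.exists_fund h2 hQ hN hI hno htA htt ht1
  rcases hN with hN | hN
  · refine seven h2 hQ hN hI hno hz hzA ?_ (H100.IF.unique_fund h2 hQ hN hI hno hz hzA)
    intro e₁ f₁ e₂ f₂ h4
    obtain ⟨a, e, f, k, ⟨a1, a2, a3, a4⟩, ⟨b1, b2, b3, b4⟩, c1, c2, c3, c4⟩ := H100.IF.exists_tri hQ (by omega) h4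
    exact ⟨a, e, f, k, ⟨a1, a2, a3, a4⟩, ⟨b1, b2, b3, b4⟩, c1, c2, c3, c4⟩
  · refine H989.Fx.nine h2 hG hN hI ?_ hz hzA
    intro s hs hss
    rw [← H601.OTri.neg_eq_Vm]
    exact hno s hs hss

/-- transport of `KillE` -/
theorem killE_congr {T T' : Type*} [Group T] [Group T'] (e : T ≃* T') (h : KillE T') : KillE T := by
  rintro A Γ hI ⟨t, htA, ht⟩
  exact h _ _ (hI.map e) ⟨e t, ⟨t, htA, rfl⟩, by rw [← ht]; exact MulEquiv.orderOf_eq e t⟩

/-- **The cell `CellsO.odd_mid`.** -/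
theorem odd_mid (F : Type) [Field F] [Fintype F] (m : ℕ) (ho : Odd (Fintype.card F)) (hm : 3 ≤ m) (_ : m ≤ 6)
    (hs : IsSimpleGroup (Cfsg.POmega F (Cfsg.quadFormOdd m F))) :
    KillE (Cfsg.POmega F (Cfsg.quadFormOdd m F)) := by
  have h2 : (2 : F) ≠ 0 := (two_ne_zero_iff' F).2 ho
  rcases Nat.lt_or_ge m 5 with h5 | h5
  · have hn := LieClassical.OrthForms.nondeg_oddForm m F h2
    have hfr := H807.IF.finrank_odd (F := F) m
    have hs' : IsSimpleGroup ↥(E (LieClassical.OrthForms.oddForm m F)) :=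
      H807.IF.simple_odd h2 hn (by rw [hfr]; exact ⟨m, rfl⟩) (by rw [hfr]; omega)
    refine killE_congr (H807.IF.eOdd h2 (by omega)) (killE_small h2 hn ?_)
    rw [hfr]
    omega
  · exact H276.IF.odd_kill F m ho h5 hs

end Cfsg.Agent.H59.IF
end

private theorem dce_222a0467288d : _root_.True := by
  try have : _root_.True := by simp only [_root_.Cfsg.Agent.H900.IF.St.eq_1]
  try have : _root_.True := by simp only [_root_.Cfsg.Agent.H511.IF.zz.eq_1]
  try have : _root_.True := by simp only [_root_.Cfsg.Agent.H59.IF.Phi.congr_simp]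
  try have : _root_.True := by simp only [_root_.Cfsg.Agent.H914.Gs.e.eq_1]
  try have : _root_.True := by simp only [_root_.Cfsg.Agent.H914.Gs.e'.eq_1]
  exact _root_.True.intro
end

-- part: H500/IF/SpFin
section
set_option linter.all false
open scoped Cfsg.Agent.FastGrp

/-!
# S5719, `PSp_2m(q)`, `q` odd, `m = 3, 4` (helper500; with helper353, helper511, helper17)
-/

set_option autoImplicit false

namespace Cfsg.Agent.H500.IFSp

open Cfsg Module Cfsg.Agent.ClassicalGeometry.SympBasic Cfsg.Agent.ClassicalGeometry.SympSiegel Cfsg.Agent.H914.Gs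
  Cfsg.Agent.H209.Fxy

/-- **Assembly, only the elements with `x² = 1` remain.** -/
theorem cell_of_one (F : Type) [Field F] [Fintype F] (m : ℕ) (ho : Odd (Fintype.card F)) (h3 : 3 ≤ m) (h4 : m ≤ 4)
    (hs : IsSimpleGroup (PSp m F)) {A : Subgroup (PSp m F)} {Γ : Subgroup (MulAut (PSp m F))} (h : IF A Γ)
    (hF : ∀ z ∈ A.comap (QuotientGroup.mk' (Subgroup.center (Matrix.symplecticGroup (Fin m) F))), Fundl z → False)
    (h22 : m = 4 → ∀ x ∈ A.comap (QuotientGroup.mk' (Subgroup.center (Matrix.symplecticGroup (Fin m) F))),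
      (∀ v : Fin m ⊕ Fin m → F, x • x • v = v) → finrank F (eigS x (-1 : F)) = 4 → False)
    (hA : ∃ t ∈ A, orderOf t = 2) : False :=
  cell_of F m ho h3 h4 hs h hF h22 (fun hsq _ H0 _ hxx hE =>
    Cfsg.Agent.H353.IF.SpField.kill_field (by omega) (two_ne ho) hsq H0 hxx hE) hA

theorem mul_self_of {F : Type*} [Field F] {m : ℕ} {x : Matrix.symplecticGroup (Fin m) F}
    (hx : ∀ v : Fin m ⊕ Fin m → F, x • x • v = v) : x * x = 1 :=
  ext_smul fun v => by rw [mul_smul, hx, one_smul]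

/-- `rank (z - 1) = 2` -/
theorem fundl_of_rank {F : Type*} [Field F] {m : ℕ} (h2 : (2 : F) ≠ 0) {z : Matrix.symplecticGroup (Fin m) F}
    (hz : z * z = 1) (hr : ((z : Matrix (Fin m ⊕ Fin m) (Fin m ⊕ Fin m) F) - 1).rank = 2) : Fundl z := by
  have hzz : ∀ v : Fin m ⊕ Fin m → F, z • z • v = v := fun v => by rw [← mul_smul, hz, one_smul]
  apply fund_of h2 hzz
  have h1 := LinearMap.finrank_range_add_finrank_ker
    ((z : Matrix (Fin m ⊕ Fin m) (Fin m ⊕ Fin m) F) - 1).mulVecLin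
  have h3 : LinearMap.ker ((z : Matrix (Fin m ⊕ Fin m) (Fin m ⊕ Fin m) F) - 1).mulVecLin = eigS z (1 : F) := by
    ext v
    rw [LinearMap.mem_ker, Matrix.mulVecLin_apply, Matrix.sub_mulVec, Matrix.one_mulVec, sub_eq_zero, mem_eigS,
      one_smul]
    rfl
  have h5 : finrank F (LinearMap.range ((z : Matrix (Fin m ⊕ Fin m) (Fin m ⊕ Fin m) F) - 1).mulVecLin) = 2 := hr
  have h6 := eig_finrank h2 hzz
  rw [h3, h5, finrank_fintype_fun_eq_card, Fintype.card_sum, Fintype.card_fin] at h1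
  omega

/-- **`x² = 1`, `dim V₊ = dim V₋ = 4`, `m = 4`.** -/
theorem kill_22 {F : Type} [Field F] [Fintype F] {m : ℕ} (hm : m = 4) (h2 : (2 : F) ≠ 0)
    {H : Subgroup (Matrix.symplecticGroup (Fin m) F)} (hF : ∀ z ∈ H, Fundl z → False)
    {x : Matrix.symplecticGroup (Fin m) F} (hxx : ∀ v : Fin m ⊕ Fin m → F, x • x • v = v)
    (hd : finrank F (eigS x (-1 : F)) = 4)
    (hE : ∀ B ≤ Subgroup.centralizer ({x} : Set (Matrix.symplecticGroup (Fin m) F)),
      H.relIndex B ^ 5 < (Subgroup.centralizer ({x} : Set (Matrix.symplecticGroup (Fin m) F))).index) : False := by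
  have : Finite (Matrix.symplecticGroup (Fin m) F) := Subtype.finite
  have hq : 1 < Fintype.card F := Fintype.one_lt_card
  subst hm
  have h1 : finrank F (eigS x (1 : F)) = 2 * 2 := by
    have := eig_finrank h2 hxx
    omega
  have key : ∀ X : Subgroup (Matrix.symplecticGroup (Fin 4) F), (∀ z ∈ X, Fundl z → False) →
      Fintype.card F ^ 6 ≤ X.relIndex (Subgroup.centralizer ({x} : Set (Matrix.symplecticGroup (Fin 4) F))) := by
    intro X hX
    have h3 := Cfsg.Agent.H17.IFSp.phi_mat_cent h2 (mul_self_of hxx) (k := 2) (l := 2) hd h1 X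
      (fun z hz hr hzX => hX z hzX (fundl_of_rank h2 hz hr))
    rw [Nat.card_eq_fintype_card] at h3
    exact h3
  have h3 := key H hF
  have h4 := key ⊥ (by
    rintro z hz ⟨a, b, hab, ha, -, -⟩
    rw [Subgroup.mem_bot] at hz
    subst hz
    rw [one_smul] at ha
    have h6 : a = 0 := by
      have h7 : (2 : F) • a = 0 := by
        rw [two_smul]
        nth_rw 2 [ha]
        exact add_neg_cancel a
      exact (smul_eq_zero.1 h7).resolve_left h2
    rw [h6, sympForm_zero_left] at hab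
    exact zero_ne_one hab)
  rw [Subgroup.relIndex_bot_left] at h4
  have h5 := hE _ le_rfl
  have h6 := Subgroup.index_mul_card (Subgroup.centralizer ({x} : Set (Matrix.symplecticGroup (Fin 4) F)))
  have h7 := card_sp_le (F := F) (m := 4)
  have h8 : (Fintype.card F ^ 6) ^ 5 ≤ H.relIndex (Subgroup.centralizer ({x} : Set (Matrix.symplecticGroup (Fin 4) F))) ^ 5 :=
    Nat.pow_le_pow_left h3 5
  have h9 := lt_of_le_of_lt h8 h5
  have h10 : (Fintype.card F ^ 6) ^ 5 * Fintype.card F ^ 6 < Fintype.card F ^ (2 * 4 ^ 2 + 4) := by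
    refine lt_of_lt_of_le (Nat.mul_lt_mul_of_pos_right h9 (pow_pos (by omega) _)) (le_trans (Nat.mul_le_mul_left _ h4) ?_)
    rw [h6]
    exact h7
  rw [← pow_mul, ← pow_add] at h10
  exact lt_irrefl _ h10

/-- **The cell `PSp_6(q)`, `PSp_8(q)`, `q` odd, of S5719.** -/
theorem oddmid : ∀ (F : Type) [Field F] [Fintype F] (m : ℕ), Odd (Fintype.card F) → 3 ≤ m → m ≤ 4 →
    IsSimpleGroup (PSp m F) → KillE (PSp m F) := by
  intro F _ _ m ho h3 h4 hs A Γ h hA
  have : Finite (Matrix.symplecticGroup (Fin m) F) := Subtype.finite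
  have : Finite (PSp m F) := Quotient.finite _
  have h2 := two_ne ho
  have hF : ∀ z ∈ A.comap (QuotientGroup.mk' (Subgroup.center (Matrix.symplecticGroup (Fin m) F))),
      Fundl z → False := by
    rintro z hz ⟨a, b, hab, ha, hb, hu⟩
    refine Cfsg.Agent.H511.IF.fund_eig h h3 ho hab (e := 1) (one_mul 1) ?_ ?_ ?_ hz
    · rw [one_smul, ha]
    · rw [one_smul, hb]
    · intro u hua hub
      rw [one_smul, hu u hua hub]
  refine cell_of_one F m ho h3 h4 hs h hF ?_ hA
  intro hm x hx hxx hd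
  have hna := Cfsg.Agent.H511.IF.noncomm (m := m) (F := F) h3
  refine kill_22 hm h2 hF hxx hd ?_
  intro B hB
  refine Cfsg.Agent.H847.IF.lift_E2 h hna _ (QuotientGroup.mk'_surjective _) hx ?_ ?_ ?_
  · intro h5
    have h6 : x ∈ Subgroup.center (Matrix.symplecticGroup (Fin m) F) := (QuotientGroup.eq_one_iff _).1 h5
    have h7 := eig_finrank h2 hxx
    rcases of_mem_center (by omega) h6 with h8 | h8
    · have h9 : eigS x (1 : F) = ⊤ := by
        rw [eq_top_iff]
        intro v _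
        rw [mem_eigS, one_smul]
        exact h8 v
      rw [h9, finrank_top, finrank_fintype_fun_eq_card, Fintype.card_sum, Fintype.card_fin] at h7
      omega
    · have h9 : eigS x (-1 : F) = ⊤ := by
        rw [eq_top_iff]
        intro v _
        rw [mem_eigS, neg_smul, one_smul]
        exact h8 v
      rw [h9, finrank_top, finrank_fintype_fun_eq_card, Fintype.card_sum, Fintype.card_fin] at hd
      omega
  · rw [mul_self_of hxx, map_one]
  · intro b hb
    rw [Subgroup.mem_centralizer_singleton_iff.1 (hB hb)]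

end Cfsg.Agent.H500.IFSp
end

-- part: H17/IFSp/Asm
section
set_option linter.all false
open scoped Cfsg.Agent.FastGrp

/-!
# S5719, `PSp_2m(q)`, `q` odd, `m ≥ 3`: assembly, up to the case `x² = -1`, `-1` a non-square (helper17)
-/

set_option autoImplicit false

namespace Cfsg.Agent.H17.IFSp

open Module Cfsg Cfsg.Agent.ClassicalGeometry.SympBasic Cfsg.Agent.ClassicalGeometry.SympSiegel
  Cfsg.Agent.H209.Fxy Cfsg.Agent.H500.IFSp

/-- **Assembly.** -/
theorem cell_large (F : Type) [Field F] [Fintype F] (m : ℕ) (ho : Odd (Fintype.card F)) (h3 : 3 ≤ m)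
    (hs : IsSimpleGroup (PSp m F))
    (hfield : ¬ IsSquare (-1 : F) → ∀ {H : Subgroup (Matrix.symplecticGroup (Fin m) F)},
      (∀ y ∈ H, (∀ v : Fin m ⊕ Fin m → F, y • y • v = v) →
        (∀ v : Fin m ⊕ Fin m → F, y • v = v) ∨ ∀ v : Fin m ⊕ Fin m → F, y • v = -v) →
      ∀ {x : Matrix.symplecticGroup (Fin m) F}, (∀ v : Fin m ⊕ Fin m → F, x • x • v = -v) →
      (∀ B ≤ Subgroup.centralizer ({x} : Set (Matrix.symplecticGroup (Fin m) F)),
        H.relIndex B ^ 5 < (Subgroup.centralizer ({x} : Set (Matrix.symplecticGroup (Fin m) F))).index) → False) :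
    KillE (PSp m F) := by
  intro A Γ h hA
  have : Finite (Matrix.symplecticGroup (Fin m) F) := Subtype.finite
  have : Finite (PSp m F) := Quotient.finite _
  have h2 : (2 : F) ≠ 0 := Cfsg.Agent.H500.IFSp.two_ne ho
  have hna := Cfsg.Agent.H511.IF.noncomm (m := m) (F := F) h3
  let H : Subgroup (Matrix.symplecticGroup (Fin m) F) :=
    A.comap (QuotientGroup.mk' (Subgroup.center (Matrix.symplecticGroup (Fin m) F)))
  have hF : ∀ z ∈ H, ¬ FundM z := by
    rintro z hz ⟨a, b, hab, hzx⟩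
    have haa : sympForm m F a a = 0 := sympForm_self a
    have hbb : sympForm m F b b = 0 := sympForm_self b
    have hba : sympForm m F b a = -1 := by rw [sympForm_swap, hab]
    refine Cfsg.Agent.H511.IF.fund_eig h h3 ho hab (e := 1) (one_mul 1) ?_ ?_ ?_ hz
    · rw [hzx, haa, hab]
      module
    · rw [hzx, hbb, hba]
      module
    · intro u hua hub
      rw [hzx, hua, hub]
      module
  have hE : ∀ x ∈ H, QuotientGroup.mk' (Subgroup.center (Matrix.symplecticGroup (Fin m) F)) x ≠ 1 →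
      QuotientGroup.mk' (Subgroup.center (Matrix.symplecticGroup (Fin m) F)) (x * x) = 1 →
      ∀ B ≤ Subgroup.centralizer ({x} : Set (Matrix.symplecticGroup (Fin m) F)),
        H.relIndex B ^ 5 < (Subgroup.centralizer ({x} : Set (Matrix.symplecticGroup (Fin m) F))).index := by
    intro x hx hx1 hx2 B hB
    refine Cfsg.Agent.H847.IF.lift_E2 h hna _ (QuotientGroup.mk'_surjective _) hx hx1 hx2 ?_
    intro b hb
    rw [Subgroup.mem_centralizer_singleton_iff.1 (hB hb)]
  -- the elements of square one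
  have h0 : ∀ x ∈ H, (∀ v : Fin m ⊕ Fin m → F, x • x • v = v) →
      (∀ v : Fin m ⊕ Fin m → F, x • v = v) ∨ ∀ v : Fin m ⊕ Fin m → F, x • v = -v := by
    intro x hx hxx
    by_contra hcon
    have hxx' : x * x = 1 := by
      apply ext_smul
      intro v
      rw [mul_smul, hxx, one_smul]
    obtain ⟨k, l, hk, hl, hkl⟩ := exists_dims h2 hxx'
    refine kill_kl h2 hF hxx' hk hl hkl (hE x hx ?_ ?_ _ le_rfl)
    · intro h5
      have h6 : x ∈ Subgroup.center (Matrix.symplecticGroup (Fin m) F) := (QuotientGroup.eq_one_iff _).1 h5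
      exact hcon (of_mem_center (by omega) h6)
    · rw [hxx', map_one]
  obtain ⟨t, htA, ht⟩ := hA
  obtain ⟨x, rfl⟩ := QuotientGroup.mk'_surjective (Subgroup.center (Matrix.symplecticGroup (Fin m) F)) t
  have hx : x ∈ H := htA
  have ht1 : QuotientGroup.mk' (Subgroup.center (Matrix.symplecticGroup (Fin m) F)) x ≠ 1 := by
    intro h5
    rw [h5, orderOf_one] at ht
    omega
  have ht2 : QuotientGroup.mk' (Subgroup.center (Matrix.symplecticGroup (Fin m) F)) (x * x) = 1 := by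
    rw [map_mul, ← pow_two, ← ht, pow_orderOf_eq_one]
  have hxc : x * x ∈ Subgroup.center (Matrix.symplecticGroup (Fin m) F) := (QuotientGroup.eq_one_iff _).1 ht2
  rcases of_mem_center (by omega) hxc with h6 | h6
  · refine ht1 ((QuotientGroup.eq_one_iff _).2 (mem_center_of (h0 x hx fun v => ?_)))
    rw [← mul_smul]
    exact h6 v
  · have hxx : ∀ v : Fin m ⊕ Fin m → F, x • x • v = -v := fun v => by
      rw [← mul_smul]
      exact h6 v
    by_cases hsq : IsSquare (-1 : F)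
    · obtain ⟨i, hi⟩ := hsq
      exact kill_split h3 h2 hi.symm h0 hxx (hE x hx ht1 ht2)
    · exact hfield hsq h0 hxx (hE x hx ht1 ht2)

end Cfsg.Agent.H17.IFSp
end

-- part: H17/IFSp/Fin
section
set_option linter.all false

/-!
# S5719: the cell `PSp_2m(q)`, `q` odd, `m ≥ 5` (helper17)
-/

set_option autoImplicit false

namespace Cfsg.Agent.H17.IFSp

open Cfsg Cfsg.Agent.H209.Fxy

/-- **The cell `PSp_2m(q)`, `q` odd, `m ≥ 5`, of S5719.** -/
theorem oddlarge : ∀ (F : Type) [Field F] [Fintype F] (m : ℕ), Odd (Fintype.card F) → 5 ≤ m →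
    IsSimpleGroup (PSp m F) → KillE (PSp m F) := by
  intro F _ _ m ho h5 hs
  refine cell_large F m ho (by omega) hs ?_
  intro hsq H h0 x hxx hE
  exact Cfsg.Agent.H353.IF.SpField.kill_field_big (fun D _ _ h => Cfsg.Agent.S0205.result h) h5
    (Cfsg.Agent.H500.IFSp.two_ne ho) hsq h0 hxx hE

end Cfsg.Agent.H17.IFSp
end

-- part: H94/IF/Plus
section
prune_inst 0x105041015840000000040510302040a100000420004004000ca602000209a06009802841080001120a20000100010020010000100240000004000000000005010000000001000000a20010000000000000000000000000000000000000000000200000000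
set_option linter.all false
open scoped Cfsg.Agent.FastGrp

-- part: H886/IF/EightQ
section
/-!
# S5719, `POmega_8^+(q)`, `q` odd: the model for helper893's cell (helper886)

`exists_model8` : the four long `SL₂` of a fundamental involution, in any quotient of `E Q` by `±1`.
-/

set_option autoImplicit false
set_option linter.unusedSectionVars false

namespace Cfsg.Agent.H886.IF8

open QuadraticMap Module Cfsg.Agent.LieClassical Cfsg.Agent.LieClassical.OrthCore Cfsg.Agent.LieClassical.OrthTrans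
open Cfsg.Agent.H989.Gs.Gen Cfsg.Agent.H989.Fx Cfsg.Agent.H325.IF
open Cfsg.Agent.H893.IFE (Model8)

universe u v w

variable {F : Type u} {V : Type v} [Field F] [AddCommGroup V] [Module F V] {Q : QuadraticForm F V}

theorem exists_model8 [Finite F] [FiniteDimensional F V] {T : Type w} [Group T] (π : ↥(E Q) →* T)
    (h2 : (2 : F) ≠ 0) (hG : Good Q) (hT : Ty Q 8 1)
    (hker : ∀ g, π g = 1 ↔ g = 1 ∨ ∀ v, ap g v = -v) (z : ↥(E Q)) (hz : Fund Q z) : ∃ f, Model8 π z f := by
  obtain ⟨e₁, f₁, e₂, f₂, e₃, f₃, e₄, f₄, H, rfl⟩ := exists_eight h2 hG hT hz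
  refine ⟨fs π H, fs_comm π H, fs_neg π H hker, fun i j hij s t hs ht => ?_, fun i g hg hc => ?_⟩
  · exact fs_sup π H h2 hG (p := fun t => ∃ g : ↥(E Q), π g = t ∧
      ((g * g = 1 ∧ finrank F (Vm g) = 2) ∨ ∀ v, ap g (ap g v) = -v))
      (fun g h1 h3 => ⟨g, rfl, Or.inl ⟨h1, h3⟩⟩) (fun g h1 => ⟨g, rfl, Or.inr h1⟩) i j hij s t hs ht
  · obtain ⟨a, b, c, d, h, hf⟩ := fs_four π H i
    rw [← fs_neg π H hker i, hf]
    exact hc_eight h2 hG π hker hT h hg fun M => by rw [← hf M, hc M]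

end Cfsg.Agent.H886.IF8
end

-- part: H601/IF/Tri
section
/-!
# S5719, `PΩ₈⁺(q)`, `q` odd: the involutions with `g² = -1` are images of `t₂`, `t₆` under triality (helper601)

`exists_tri` : `g ∈ E Q`, `g² = -1` ⟹ `ρ [g]` or `ρ² [g]` is `[h]`, `h² = 1`, `dim V₋(h) = 2` or `6`.
-/

set_option autoImplicit false

namespace Cfsg.Agent.H601.OTri

open QuadraticMap Module Cfsg.Agent.LieClassical.QuadForms Cfsg.Agent.LieClassical.OrthCore
  Cfsg.Agent.LieClassical.OrthTrans Cfsg.Agent.LieClassical.OrthSimple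
  Cfsg.Agent.ClassicalGeometry.TrialityOct Cfsg.Agent.ClassicalGeometry.OrthAut1
  Cfsg.Agent.ClassicalGeometry.Triality Cfsg.Agent.H989.OutOrth.Tri

variable {F : Type*} [Field F]

/-! ### Octonions -/

theorem pol1 (a b x : V8 F) : omul a (omul (oconj b) x) + omul b (omul (oconj a) x) = polar (plusForm 4 F) a b • x := by
  coord8

theorem pol2 (a b x : V8 F) : omul (oconj a) (omul b x) + omul (oconj b) (omul a x) = polar (plusForm 4 F) a b • x := by
  coord8

theorem anti1 {a b : V8 F} (h : polar (plusForm 4 F) a b = 0) (x : V8 F) :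
    omul a (omul (oconj b) x) = -omul b (omul (oconj a) x) := by
  rw [eq_neg_iff_add_eq_zero, pol1, h, zero_smul]

theorem anti2 {a b : V8 F} (h : polar (plusForm 4 F) a b = 0) (x : V8 F) :
    omul (oconj a) (omul b x) = -omul (oconj b) (omul a x) := by
  rw [eq_neg_iff_add_eq_zero, pol2, h, zero_smul]

theorem omul_neg' (a x : V8 F) : omul a (-x) = -omul a x := by
  coord8

/-- the square of `L_a L_b̄ L_c L_d̄` -/
theorem four_sq {a b c d : V8 F} (hab : polar (plusForm 4 F) a b = 0) (hac : polar (plusForm 4 F) a c = 0)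
    (had : polar (plusForm 4 F) a d = 0) (hbc : polar (plusForm 4 F) b c = 0) (hbd : polar (plusForm 4 F) b d = 0)
    (hcd : polar (plusForm 4 F) c d = 0) (x : V8 F) :
    omul a (omul (oconj b) (omul c (omul (oconj d) (omul a (omul (oconj b) (omul c (omul (oconj d) x))))))) =
      (plusForm 4 F a * plusForm 4 F b * plusForm 4 F c * plusForm 4 F d) • x := by
  have hda : polar (plusForm 4 F) d a = 0 := by rw [polar_comm]; exact had
  have hca : polar (plusForm 4 F) c a = 0 := by rw [polar_comm]; exact hac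
  have hba : polar (plusForm 4 F) b a = 0 := by rw [polar_comm]; exact hab
  have hdb : polar (plusForm 4 F) d b = 0 := by rw [polar_comm]; exact hbd
  have hcb : polar (plusForm 4 F) c b = 0 := by rw [polar_comm]; exact hbc
  have hdc : polar (plusForm 4 F) d c = 0 := by rw [polar_comm]; exact hcd
  rw [anti2 hda, omul_neg', omul_neg', omul_neg', anti1 hca, omul_neg', omul_neg', neg_neg, anti2 hba, omul_neg',
    omul_oconj_omul, anti1 hdb, omul_neg', omul_neg', smul_neg, neg_neg, anti2 hcb, omul_neg', omul_oconj_omul,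
    anti2 hdc, omul_neg', omul_oconj_omul, omul_oconj_omul]
  simp only [smul_neg, neg_neg, smul_smul, mul_assoc]

/-- left multiplication -/
def ML (a : V8 F) (ha : plusForm 4 F a ≠ 0) : V8 F ≃ₗ[F] V8 F :=
  LinearEquiv.ofLinearMap
    { toFun := omul a, map_add' := omul_add a, map_smul' := fun c x => omul_smul c a x }
    { toFun := fun x => (plusForm 4 F a)⁻¹ • omul (oconj a) x
      map_add' := fun x y => by rw [omul_add, smul_add]
      map_smul' := fun c x => by rw [omul_smul, smul_comm]; rfl }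
    (LinearMap.ext fun x => by
      change omul a ((plusForm 4 F a)⁻¹ • omul (oconj a) x) = x
      rw [omul_smul, omul_oconj_omul, smul_smul, inv_mul_cancel₀ ha, one_smul])
    (LinearMap.ext fun x => by
      change (plusForm 4 F a)⁻¹ • omul (oconj a) (omul a x) = x
      rw [oconj_omul_omul, smul_smul, inv_mul_cancel₀ ha, one_smul])

/-- right multiplication -/
def MR (a : V8 F) (ha : plusForm 4 F a ≠ 0) : V8 F ≃ₗ[F] V8 F :=
  LinearEquiv.ofLinearMap
    { toFun := fun x => omul x a, map_add' := fun x y => add_omul x y a, map_smul' := fun c x => smul_omul c x a }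
    { toFun := fun x => (plusForm 4 F a)⁻¹ • omul x (oconj a)
      map_add' := fun x y => by rw [add_omul, smul_add]
      map_smul' := fun c x => by rw [smul_omul, smul_comm]; rfl }
    (LinearMap.ext fun x => by
      change omul ((plusForm 4 F a)⁻¹ • omul x (oconj a)) a = x
      rw [smul_omul, omul_oconj_omul', smul_smul, inv_mul_cancel₀ ha, one_smul])
    (LinearMap.ext fun x => by
      change (plusForm 4 F a)⁻¹ • omul (omul x a) (oconj a) = x
      rw [omul_omul_oconj, smul_smul, inv_mul_cancel₀ ha, one_smul])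

theorem norm_oconj_ne {a : V8 F} (ha : plusForm 4 F a ≠ 0) : plusForm 4 F (oconj a) ≠ 0 := by rwa [norm_oconj]

/-- `r_a r_b (x y)` -/
theorem refl_refl {a b : V8 F} (ha : plusForm 4 F a ≠ 0) (hb : plusForm 4 F b ≠ 0) (x y : V8 F) :
    refl (plusForm 4 F) a ha (refl (plusForm 4 F) b hb (omul x y)) =
      ((plusForm 4 F a)⁻¹ * (plusForm 4 F b)⁻¹) • omul (omul a (omul (oconj b) x)) (omul (omul y (oconj b)) a) := by
  rw [refl_eq hb, refl_eq ha]
  have h : ∀ (c : F) (z : V8 F), oconj (c • z) = c • oconj z := fun c z => map_smul (kap F) c z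
  rw [h, ← flex_conj, omul_smul, smul_omul, smul_smul, neg_mul_neg, moufang (oconj b) x y, moufang]

/-- **an involution with a 4-dimensional `(-1)`-space comes from a triple of involutions** -/
theorem sq_of_four {h g₁ g₂ : V8 F ≃ₗ[F] V8 F} (ht : Tri h g₁ g₂) (hg₁ : g₁ ∈ O (plusForm 4 F)) {a b c d : V8 F}
    (ha : plusForm 4 F a ≠ 0) (hb : plusForm 4 F b ≠ 0) (hc : plusForm 4 F c ≠ 0) (hd : plusForm 4 F d ≠ 0)
    (hab : polar (plusForm 4 F) a b = 0) (hac : polar (plusForm 4 F) a c = 0)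
    (had : polar (plusForm 4 F) a d = 0) (hbc : polar (plusForm 4 F) b c = 0) (hbd : polar (plusForm 4 F) b d = 0)
    (hcd : polar (plusForm 4 F) c d = 0)
    (hh : ∀ x, h x = refl (plusForm 4 F) a ha (refl (plusForm 4 F) b hb (refl (plusForm 4 F) c hc
      (refl (plusForm 4 F) d hd x)))) (x : V8 F) : g₁ (g₁ x) = x := by
  set! D := plusForm 4 F a * plusForm 4 F b * plusForm 4 F c * plusForm 4 F d with hD
  have hD0 : D ≠ 0 := mul_ne_zero (mul_ne_zero (mul_ne_zero ha hb) hc) hd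
  have hL : ∀ (a : V8 F) (ha : plusForm 4 F a ≠ 0) x, ML a ha x = omul a x := fun _ _ _ => rfl
  have hR : ∀ (a : V8 F) (ha : plusForm 4 F a ≠ 0) x, MR a ha x = omul x a := fun _ _ _ => rfl
  have hS : ∀ (a : F) (ha : a ≠ 0) x, LinearEquiv.smulOfNeZero F (V8 F) a ha x = a • x := fun _ _ _ => rfl
  obtain ⟨G₁, hG₁⟩ : ∃ G₁ : V8 F ≃ₗ[F] V8 F, ∀ x, G₁ x = omul a (omul (oconj b) (omul c (omul (oconj d) x))) :=
    ⟨ML a ha * (ML (oconj b) (norm_oconj_ne hb) * (ML c hc * ML (oconj d) (norm_oconj_ne hd))), fun x => by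
      rw [LinearEquiv.mul_apply, LinearEquiv.mul_apply, LinearEquiv.mul_apply, hL, hL, hL, hL]⟩
  obtain ⟨G₂, hG₂⟩ : ∃ G₂ : V8 F ≃ₗ[F] V8 F, ∀ x, G₂ x = D⁻¹ • omul (omul (omul (omul x (oconj d)) c) (oconj b)) a :=
    ⟨LinearEquiv.smulOfNeZero F (V8 F) D⁻¹ (inv_ne_zero hD0) *
      (MR a ha * (MR (oconj b) (norm_oconj_ne hb) * (MR c hc * MR (oconj d) (norm_oconj_ne hd)))), fun x => by
      rw [LinearEquiv.mul_apply, LinearEquiv.mul_apply, LinearEquiv.mul_apply, LinearEquiv.mul_apply, hS, hR, hR, hR, hR]⟩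
  have hT : Tri h G₁ G₂ := by
    intro x y
    rw [hh, refl_refl hc hd, map_smul, map_smul, refl_refl ha hb, hG₁, hG₂, omul_smul, smul_smul, hD]
    congr 1
    rw [mul_inv, mul_inv, mul_inv]
    ring
  obtain ⟨e, he0, he, -⟩ := ht.unique hT
  have h1 : ∀ x, G₁ (G₁ x) = D • x := fun x => by
    rw [hG₁ (G₁ x), hG₁ x]
    exact four_sq hab hac had hbc hbd hcd x
  have h2 : D = e * e := by
    have h3 : plusForm 4 F (G₁ (one8 F)) = D := by
      rw [hG₁, norm_omul, norm_omul, norm_omul, norm_omul, norm_oconj, norm_oconj, norm_one8, hD]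
      ring
    rw [he, QuadraticMap.map_smul, hg₁, norm_one8, smul_eq_mul, mul_one] at h3
    exact h3.symm
  have h4 := h1 x
  rw [he (G₁ x), he x, map_smul, smul_smul, h2] at h4
  exact smul_right_injective _ (mul_ne_zero he0 he0) h4

/-! ### Involutions -/

section inv

variable {V : Type*} [AddCommGroup V] [Module F V] {Q : QuadraticForm F V}

/-- the `(-1)`-space -/
def Vm (h : V ≃ₗ[F] V) : Submodule F V := LinearMap.ker ((h : V →ₗ[F] V) + LinearMap.id)

theorem mem_Vm {h : V ≃ₗ[F] V} {v : V} : v ∈ Vm h ↔ h v = -v := by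
  rw [Vm, LinearMap.mem_ker, LinearMap.add_apply, LinearMap.id_apply, ← eq_neg_iff_add_eq_zero]
  rfl

theorem det_inv [FiniteDimensional F V] {h : V ≃ₗ[F] V} (hh : ∀ v, h (h v) = v) :
    LinearMap.det (h : V →ₗ[F] V) = (-1) ^ Module.finrank F (Vm h) := by
  have hc : Vm h ≤ (Vm h).comap (h : V →ₗ[F] V) := by
    intro v hv
    rw [mem_Vm] at hv
    change h v ∈ Vm h
    rw [mem_Vm, hv, map_neg, hv]
  rw [LinearMap.det_eq_det_mul_det (Vm h) (h : V →ₗ[F] V) hc]
  have h1 : (h : V →ₗ[F] V).restrict (p := Vm h) (q := Vm h) (fun x hx => hc hx) = (-1 : F) • (LinearMap.id : ↥(Vm h) →ₗ[F] ↥(Vm h)) := by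
    ext v
    change h v = (-1 : F) • (v : V)
    rw [mem_Vm.1 v.2, neg_one_smul]
  have h2 : (Vm h).mapQ (Vm h) (h : V →ₗ[F] V) hc = LinearMap.id := by
    ext v
    change Submodule.Quotient.mk (h v) = (Submodule.Quotient.mk v : V ⧸ Vm h)
    rw [Submodule.Quotient.eq, mem_Vm, map_sub, hh]
    abel
  rw [h1, h2, LinearMap.det_smul, LinearMap.det_id, LinearMap.det_id, mul_one, mul_one]

/-- orthogonal basis of the `(-1)`-space -/
theorem exists_orth [FiniteDimensional F V] (h2 : (2 : F) ≠ 0) (hn : Nondeg Q) {h : V ≃ₗ[F] V} (hO : h ∈ O Q)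
    (hh : ∀ v, h (h v) = v) : ∃ u : Fin (Module.finrank F (Vm h)) → V, (∀ i, Q (u i) ≠ 0) ∧
      (∀ i j, i ≠ j → polar Q (u i) (u j) = 0) ∧ ∀ x, h x = x - ∑ i, (polar Q (u i) x * (Q (u i))⁻¹) • u i := by
  have hinv : Invertible (2 : F) := invertibleOfNonzero h2
  let B : LinearMap.BilinForm F (Vm h) := LinearMap.BilinForm.restrict (polarBilin Q) (Vm h)
  have hBs : LinearMap.IsSymm B := ⟨fun x y => by
    change polar Q (x : V) (y : V) = polar Q (y : V) (x : V)
    rw [polar_comm]⟩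
  obtain ⟨b, hb⟩ := LinearMap.BilinForm.exists_orthogonal_basis (B := B) hBs
  have hpol : ∀ i j, i ≠ j → polar Q (b i : V) (b j : V) = 0 := fun i j hij => hb hij
  have hmin : ∀ v ∈ Vm h, ∀ x, h x = x → polar Q v x = 0 := by
    intro v hv x hx
    rw [mem_Vm] at hv
    have h3 := polar_map hO v x
    rw [hv, hx, polar_neg_left] at h3
    have h4 : (2 : F) * polar Q v x = 0 := by linear_combination -h3
    exact (mul_eq_zero.1 h4).resolve_left h2
  have hdec : ∀ x : V, ∃ y ∈ Vm h, ∃ z, h z = z ∧ x = y + z := by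
    intro x
    refine ⟨(2 : F)⁻¹ • (x - h x), ?_, (2 : F)⁻¹ • (x + h x), ?_, ?_⟩
    · rw [mem_Vm, map_smul, map_sub, hh, ← smul_neg, neg_sub]
    · rw [map_smul, map_add, hh, add_comm]
    · rw [← smul_add, show x - h x + (x + h x) = (2 : F) • x by module, smul_smul, inv_mul_cancel₀ h2, one_smul]
  have hself : ∀ v, polar Q v v = 2 * Q v := fun v => by rw [polar_self', two_mul]
  have hQ : ∀ i, Q (b i : V) ≠ 0 := by
    intro i h0
    have h3 : (b i : V) = 0 := by
      apply hn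
      intro x
      obtain ⟨y, hy, z, hz, rfl⟩ := hdec x
      rw [polar_add_right, hmin _ (b i).2 z hz, add_zero]
      have h4 : (⟨y, hy⟩ : Vm h) = ∑ j, b.repr ⟨y, hy⟩ j • b j := (b.sum_repr _).symm
      have h5 : y = ∑ j, b.repr ⟨y, hy⟩ j • (b j : V) := by
        have h6 := congrArg (fun t : Vm h => (t : V)) h4
        simp only [Submodule.coe_sum, Submodule.coe_smul] at h6
        exact h6
      rw [h5]
      change polarBilin Q (b i : V) _ = 0
      rw [map_sum]
      refine Finset.sum_eq_zero fun j _ => ?_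
      rw [map_smul]
      change _ • polar Q (b i : V) (b j : V) = 0
      by_cases hij : i = j
      · subst hij
        rw [hself, h0, mul_zero, smul_zero]
      · rw [hpol i j hij, smul_zero]
    exact b.ne_zero i (Subtype.ext h3)
  refine ⟨fun i => (b i : V), hQ, hpol, fun x => ?_⟩
  obtain ⟨y, hy, z, hz, rfl⟩ := hdec x
  have h5 : y = ∑ j, b.repr ⟨y, hy⟩ j • (b j : V) := by
    have h4 : (⟨y, hy⟩ : Vm h) = ∑ j, b.repr ⟨y, hy⟩ j • b j := (b.sum_repr _).symm
    have h6 := congrArg (fun t : Vm h => (t : V)) h4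
    simp only [Submodule.coe_sum, Submodule.coe_smul] at h6
    exact h6
  have h7 : ∀ i, polar Q (b i : V) (y + z) * (Q (b i : V))⁻¹ = 2 * b.repr ⟨y, hy⟩ i := by
    intro i
    rw [polar_add_right, hmin _ (b i).2 z hz, add_zero]
    have h8 : polar Q (b i : V) y = 2 * Q (b i : V) * b.repr ⟨y, hy⟩ i := by
      conv_lhs => rw [h5]
      change polarBilin Q (b i : V) _ = _
      rw [map_sum, Finset.sum_eq_single i]
      · rw [map_smul]
        change _ • polar Q (b i : V) (b i : V) = _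
        rw [hself, smul_eq_mul, mul_comm]
      · intro j _ hj
        rw [map_smul]
        change _ • polar Q (b i : V) (b j : V) = 0
        rw [hpol i j (Ne.symm hj), smul_zero]
      · exact fun h => absurd (Finset.mem_univ i) h
    rw [h8]
    field_simp [hQ i]
  rw [map_add, mem_Vm.1 hy, hz, Finset.sum_congr rfl fun i _ => by rw [h7 i]]
  have h9 : ∑ i, (2 * b.repr ⟨y, hy⟩ i) • (b i : V) = (2 : F) • y := by
    conv_rhs => rw [h5]
    rw [Finset.smul_sum]
    exact Finset.sum_congr rfl fun i _ => mul_smul _ _ _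
  rw [h9]
  module

end inv

/-! ### Triality on the involutions -/

/-- triples over scalars -/
theorem sq_of_scalar {h s t : V8 F ≃ₗ[F] V8 F} (ht : Tri h s t) (hs : s ∈ O (plusForm 4 F)) {e : F} (he : e ≠ 0)
    (hh : ∀ x, h x = e • x) (x : V8 F) : s (s x) = x := by
  have h1 : Tri h (LinearEquiv.smulOfNeZero F (V8 F) e he) 1 := by
    intro x y
    rw [hh]
    exact (smul_omul e x y).symm
  obtain ⟨c, hc0, hc, -⟩ := h1.unique ht
  have hc' : ∀ x, s x = (c * e) • x := fun x => by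
    rw [hc, mul_smul]
    rfl
  have h2 : (c * e) * (c * e) = 1 := by
    have h3 := hs (one8 F)
    rw [hc', QuadraticMap.map_smul, norm_one8, smul_eq_mul, mul_one] at h3
    exact h3
  rw [hc' (s x), hc' x, smul_smul, h2, one_smul]

theorem det_of_mem_E {V : Type*} [AddCommGroup V] [Module F V] {Q : QuadraticForm F V} (hG : Good Q)
    {g : V ≃ₗ[F] V} (hg : g ∈ E Q) : LinearMap.det (g : V →ₗ[F] V) = 1 := by
  rw [← hG.commutator_eq_E] at hg
  have h1 : ⁅O Q, O Q⁆ ≤ (LinearEquiv.det (R := F) (M := V)).ker := by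
    rw [Subgroup.commutator_le]
    intro a _ b _
    rw [MonoidHom.mem_ker, map_commutatorElement, commutatorElement_eq_one_iff_mul_comm, mul_comm]
  have h2 : LinearEquiv.det g = 1 := h1 hg
  have h3 := congrArg Units.val h2
  rwa [LinearEquiv.coe_det] at h3

theorem finrank_V8 : Module.finrank F (V8 F) = 8 := by
  rw [Module.finrank_fintype_fun_eq_card]
  rfl

/-- an involution of `E` with `s² = -1` in its triple: `dim V₋ = 2` or `6` -/
theorem two_or_six (h2 : (2 : F) ≠ 0) (hG : Good (plusForm 4 F)) {h s t : V8 F ≃ₗ[F] V8 F} (hE : h ∈ E (plusForm 4 F))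
    (ht : Tri h s t) (hs : s ∈ O (plusForm 4 F)) (hh : ∀ v, h (h v) = v) (hs1 : ∀ v, s (s v) = -v) :
    Module.finrank F (Vm h) = 2 ∨ Module.finrank F (Vm h) = 6 := by
  have hO : h ∈ O (plusForm 4 F) := E_le_O hE
  have hbad : ¬ ∀ x, s (s x) = x := by
    intro hall
    have h3 := hall (one8 F)
    rw [hs1] at h3
    have h4 : (2 : F) • one8 F = 0 := by
      rw [two_smul]
      nth_rewrite 1 [← h3]
      exact neg_add_cancel _
    have h5 := (smul_eq_zero.1 h4).resolve_left h2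
    have h6 := norm_one8 (F := F)
    rw [h5, QuadraticMap.map_zero] at h6
    exact zero_ne_one h6
  have key : ∀ k, Module.finrank F (Vm h) = k → ∃ u : Fin k → V8 F, (∀ i, plusForm 4 F (u i) ≠ 0) ∧
      (∀ i j, i ≠ j → polar (plusForm 4 F) (u i) (u j) = 0) ∧
      ∀ x, h x = x - ∑ i, (polar (plusForm 4 F) (u i) x * (plusForm 4 F (u i))⁻¹) • u i := by
    rintro _ rfl
    exact exists_orth h2 hG.nondeg hO hh
  have hle : Module.finrank F (Vm h) ≤ 8 := by
    rw [← finrank_V8 (F := F)]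
    exact Submodule.finrank_le _
  have hd := det_inv hh
  rw [det_of_mem_E hG hE] at hd
  have hev : Even (Module.finrank F (Vm h)) := by
    rcases Nat.even_or_odd (Module.finrank F (Vm h)) with h3 | h3
    · exact h3
    · rw [h3.neg_one_pow] at hd
      exfalso
      apply h2
      have : (2 : F) = 1 + 1 := by norm_num
      rw [this]
      nth_rewrite 1 [hd]
      exact neg_add_cancel 1
  have h0 : Module.finrank F (Vm h) ≠ 0 := by
    intro hk
    obtain ⟨u, -, -, hu⟩ := key 0 hk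
    refine hbad (sq_of_scalar ht hs one_ne_zero fun x => ?_)
    rw [hu, Finset.univ_eq_empty, Finset.sum_empty, sub_zero, one_smul]
  have h8 : Module.finrank F (Vm h) ≠ 8 := by
    intro hk
    have h3 : Vm h = ⊤ := Submodule.eq_top_of_finrank_eq (by rw [hk, finrank_V8])
    refine hbad (sq_of_scalar ht hs (neg_ne_zero.2 one_ne_zero) fun x => ?_)
    rw [neg_one_smul]
    exact mem_Vm.1 (h3 ▸ Submodule.mem_top)
  have h4 : Module.finrank F (Vm h) ≠ 4 := by
    intro hk
    obtain ⟨u, hu0, huo, hu⟩ := key 4 hk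
    refine hbad (sq_of_four ht hs (hu0 0) (hu0 1) (hu0 2) (hu0 3) (huo 0 1 (by decide)) (huo 0 2 (by decide))
      (huo 0 3 (by decide)) (huo 1 2 (by decide)) (huo 1 3 (by decide)) (huo 2 3 (by decide)) fun x => ?_)
    rw [hu, Fin.sum_univ_four]
    simp only [refl_apply, polar_sub_right, polar_smul_right, huo 0 1 (by decide), huo 0 2 (by decide),
      huo 0 3 (by decide), huo 1 2 (by decide), huo 1 3 (by decide), huo 2 3 (by decide), smul_eq_mul, mul_zero, sub_zero]
    module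
  obtain ⟨r, hr⟩ := hev
  omega

/-- **the elements with `g² = -1` are images of `t₂`, `t₆` under triality** -/
theorem exists_tri (h2 : (2 : F) ≠ 0) (hG : Good (plusForm 4 F)) {ρ : MulAut (P (plusForm 4 F))} (hρ : IsRho ρ)
    (g : ↥(E (plusForm 4 F))) (hg : ∀ v, (g : V8 F ≃ₗ[F] V8 F) ((g : V8 F ≃ₗ[F] V8 F) v) = -v) :
    ∃ h : ↥(E (plusForm 4 F)), (ρ (g : P (plusForm 4 F)) = (h : P (plusForm 4 F)) ∨
      ρ (ρ (g : P (plusForm 4 F))) = (h : P (plusForm 4 F))) ∧ h * h = 1 ∧
      (Module.finrank F (Vm (h : V8 F ≃ₗ[F] V8 F)) = 2 ∨ Module.finrank F (Vm (h : V8 F ≃ₗ[F] V8 F)) = 6) := by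
  obtain ⟨g₁, g₂, ht⟩ := exists_triple hG g.2
  -- the squares
  have hsq := ht.2.mul ht.2
  have hneg : Tri ((g : V8 F ≃ₗ[F] V8 F) * (g : V8 F ≃ₗ[F] V8 F)) 1 (LinearEquiv.neg F) := by
    intro x y
    change (g : V8 F ≃ₗ[F] V8 F) ((g : V8 F ≃ₗ[F] V8 F) (omul x y)) = omul x (-y)
    rw [hg, omul_neg']
  obtain ⟨c, hc0, hc1, hc2⟩ := hneg.unique hsq
  have hc1' : ∀ x, g₁ (g₁ x) = c • x := hc1
  have hc2' : ∀ x, g₂ (g₂ x) = c⁻¹ • -x := hc2
  have hcc : c * c = 1 := by
    have h3 : plusForm 4 F (g₁ (g₁ (one8 F))) = 1 := by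
      rw [E_le_O ht.1.2.1, E_le_O ht.1.2.1, norm_one8]
    rw [hc1', QuadraticMap.map_smul, norm_one8, smul_eq_mul, mul_one] at h3
    exact h3
  have hkk : ∀ (k : V8 F ≃ₗ[F] V8 F) (x : V8 F), (kap F * k * kap F) ((kap F * k * kap F) x) =
      oconj (k (k (oconj x))) := by
    intro k x
    change oconj (k (oconj (oconj (k (oconj x))))) = _
    rw [oconj_oconj]
  have hon : ∀ x : V8 F, oconj (-x) = -oconj x := fun x => by coord8
  rcases mul_self_eq_one_iff.1 hcc with h | h
  · -- `g₁² = 1`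
    subst h
    have h3 : ∀ v, (kap F * g₁ * kap F) ((kap F * g₁ * kap F) v) = v := fun v => by
      rw [hkk, hc1', one_smul, oconj_oconj]
    refine ⟨⟨kap F * g₁ * kap F, kap_conj_mem ht.1.2.1⟩, Or.inl (hρ g _ g₁ g₂ ht rfl), ?_, ?_⟩
    · exact Subtype.ext (LinearEquiv.ext h3)
    · refine two_or_six h2 hG (kap_conj_mem ht.1.2.1) (ht.2.rot (E_le_O ht.1.1) (E_le_O ht.1.2.1)) (E_le_O ht.1.2.2) h3
        fun v => ?_
      rw [hc2', inv_one, one_smul]
  · -- `g₂² = 1`
    subst h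
    have h3 : ∀ v, (kap F * g₂ * kap F) ((kap F * g₂ * kap F) v) = v := fun v => by
      rw [hkk, hc2', inv_neg, inv_one, neg_smul, one_smul, neg_neg, oconj_oconj]
    refine ⟨⟨kap F * g₂ * kap F, kap_conj_mem ht.1.2.2⟩, Or.inr (hρ.sq ht rfl), ?_, ?_⟩
    · exact Subtype.ext (LinearEquiv.ext h3)
    · refine two_or_six h2 hG (kap_conj_mem ht.1.2.2)
        ((ht.2.rot (E_le_O ht.1.1) (E_le_O ht.1.2.1)).rot (E_le_O (kap_conj_mem ht.1.2.1)) (E_le_O ht.1.2.2))
        (E_le_O (kap_conj_mem ht.1.1)) h3 fun v => ?_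
      rw [hkk, hg, hon, oconj_oconj]

end Cfsg.Agent.H601.OTri
end

-- part: H601/IF/Ii
section
/-!
# S5719, `PΩ₈⁺(q)`, `q` odd: the class (II), `g² = -1` (helper601)

`ii_false` : CLAIM 0 (no `t₂`, `t₆` in `A`, for all `A`) excludes the elements with `g² = -1`.
-/

set_option autoImplicit false

namespace Cfsg.Agent.H601.OTri

open QuadraticMap Module Cfsg.Agent.LieClassical.QuadForms Cfsg.Agent.LieClassical.OrthCore
  Cfsg.Agent.LieClassical.OrthTrans Cfsg.Agent.LieClassical.OrthSimple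
  Cfsg.Agent.ClassicalGeometry.Triality Cfsg.Agent.H989.OutOrth.Tri
  Cfsg.Agent.H209.Fxy
open Cfsg.Agent.H989.Gs.Gen (ap)
open Cfsg.Agent.ClassicalGeometry.OrthAut1 (P)

variable {F : Type*} [Field F]

/-- a property of all configurations in `PΩ₈⁺` excluding `t₂`, `t₆` excludes `g² = -1` -/
theorem ii_false (h2 : (2 : F) ≠ 0) (hG : Good (plusForm 4 F))
    (claim0 : ∀ (A : Subgroup (P (plusForm 4 F))) (Γ : Subgroup (MulAut (P (plusForm 4 F)))), IF A Γ →
      ∀ h : ↥(E (plusForm 4 F)), h * h = 1 → (finrank F (H325.IF.Vm h) = 2 ∨ finrank F (H325.IF.Vm h) = 6) →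
        (h : P (plusForm 4 F)) ∈ A → False)
    {A : Subgroup (P (plusForm 4 F))} {Γ : Subgroup (MulAut (P (plusForm 4 F)))} (hI : IF A Γ)
    {g : ↥(E (plusForm 4 F))} (hg : ∀ v, ap g (ap g v) = -v) (hgA : (g : P (plusForm 4 F)) ∈ A) : False := by
  obtain ⟨ρ, hρ⟩ := exists_rho hG
  obtain ⟨h, h3, h4, h5⟩ := exists_tri h2 hG hρ g hg
  rcases h3 with h3 | h3
  · refine claim0 _ _ (hI.map ρ) h h4 h5 ?_
    rw [← h3]
    exact ⟨_, hgA, rfl⟩
  · refine claim0 _ _ ((hI.map ρ).map ρ) h h4 h5 ?_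
    rw [← h3]
    exact ⟨_, ⟨_, hgA, rfl⟩, rfl⟩

end Cfsg.Agent.H601.OTri
end

-- part: H893/IF/EightP2
section
/-!
# S5719, `PΩ₈⁺(q)`, `q` odd, `|A|` even: the cell modulo CLAIM 0, the model and helper709's theorem (helper893)
-/

set_option autoImplicit false
set_option linter.unusedSectionVars false
set_option linter.unusedVariables false

open Cfsg

namespace Cfsg.Agent.H893.IFE

open QuadraticMap Module Cfsg.Agent.LieClassical Cfsg.Agent.LieClassical.OrthCore Cfsg.Agent.LieClassical.OrthTrans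
  Cfsg.Agent.LieClassical.OrthSimple Cfsg.Agent.H989.Gs.Gen Cfsg.Agent.H989.Fx Cfsg.Agent.H325.IF
open Cfsg.Agent.UGT.U2.FOne.Orth (Four)
open Cfsg.Agent.H209.Fxy
open Cfsg.Agent.ClassicalGeometry.OrthAut1 (P center_scalar mem_center_of_scalar)
open Matrix (SpecialLinearGroup)

universe u v w

section mk

variable {F : Type u} [Field F] {V : Type v} [AddCommGroup V] [Module F V] {Q : QuadraticForm F V}

theorem mk_eq_one_iff (hG : Good Q) (g : ↥(E Q)) :
    QuotientGroup.mk' (Subgroup.center ↥(E Q)) g = 1 ↔ g = 1 ∨ ∀ v, ap g v = -v := by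
  rw [QuotientGroup.mk'_apply, QuotientGroup.eq_one_iff]
  constructor
  · intro hz
    obtain ⟨c, hc⟩ := center_scalar hG hz
    obtain ⟨x, y, hxy⟩ := hG.exists_hyp
    have h1 : polar Q (ap g x) (ap g y) = 1 := by rw [polar_ap, hxy.pair]
    have h2 : ap g x = c • x := hc x
    have h3 : ap g y = c • y := hc y
    rw [h2, h3, polar_smul_left, polar_smul_right, hxy.pair, smul_eq_mul, smul_eq_mul, mul_one] at h1
    rcases mul_self_eq_one_iff.1 h1 with h4 | h4
    · left
      apply ext_ap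
      intro v
      have h5 : ap g v = c • v := hc v
      rw [h5, h4, one_smul, ap_one]
    · right
      intro v
      have h5 : ap g v = c • v := hc v
      rw [h5, h4, neg_one_smul]
  · rintro (rfl | h)
    · exact one_mem _
    · refine mem_center_of_scalar (c := -1) fun v => ?_
      rw [neg_one_smul]
      exact h v

/-- **CLAIM 0** for `T = PΩ` -/
def Claim0P (Q : QuadraticForm F V) : Prop :=
  ∀ (A : Subgroup (_root_.Cfsg.Agent.ClassicalGeometry.OrthAut1.P Q)) (Γ : Subgroup (MulAut (_root_.Cfsg.Agent.ClassicalGeometry.OrthAut1.P Q))), IF A Γ → ∀ h : ↥(E Q), h * h = 1 →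
    (finrank F (Vm h) = 2 ∨ finrank F (Vm h) + 2 = finrank F V) → (h : _root_.Cfsg.Agent.ClassicalGeometry.OrthAut1.P Q) ∈ A → False

end mk

section cell

variable (F : Type) [Field F]

theorem plusForm_eq' : OrthForms.plusForm 4 F = QuadForms.plusForm 4 F :=
  DFunLike.coe_injective ((OrthForms.coe_plusForm 4 F).trans (QuadForms.coe_plusForm 4).symm)

/-- **the cell `plus_mid`, `m = 4`**, modulo CLAIM 0, the model and helper709's theorem -/
theorem plus_four_of [Fintype F] (hodd : Odd (Fintype.card F))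
    (hs : IsSimpleGroup (POmega F (quadFormPlus 4 F))) (hc : Claim0P (QuadForms.plusForm (F := F) 4))
    (h709 : EightPlus (_root_.Cfsg.Agent.ClassicalGeometry.OrthAut1.P (QuadForms.plusForm (F := F) 4)) F)
    (hmod : ∀ z : ↥(E (QuadForms.plusForm (F := F) 4)), Fund (QuadForms.plusForm (F := F) 4) z →
      ∃ f, Model8 (QuotientGroup.mk' (Subgroup.center ↥(E (QuadForms.plusForm (F := F) 4)))) z f) :
    KillE (POmega F (quadFormPlus 4 F)) := by
  have h2 : (2 : F) ≠ 0 := Cfsg.Agent.H215.IFM.two_ne hodd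
  have hG : Good (QuadForms.plusForm (F := F) 4) := Cfsg.Agent.AutOrth.Main.good_plus (by omega)
  have hN : finrank F (Fin 4 ⊕ Fin 4 → F) = 8 := by
    rw [Module.finrank_fintype_fun_eq_card]
    rfl
  rw [← QuadForms.coe_plusForm 4] at hs ⊢
  have e := Cfsg.Agent.ClassicalGeometry.OrthSemiForms.pomegaEquiv hG
  have hfin : Finite (POmega F ⇑(QuadForms.plusForm (F := F) 4)) := inferInstance
  have hfin2 : Finite (_root_.Cfsg.Agent.ClassicalGeometry.OrthAut1.P (QuadForms.plusForm (F := F) 4)) := Finite.of_equiv _ e.toEquiv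
  have hs2 : IsSimpleGroup (_root_.Cfsg.Agent.ClassicalGeometry.OrthAut1.P (QuadForms.plusForm (F := F) 4)) := (MulEquiv.isSimpleGroup_congr e).1 hs
  refine killE_of_equiv (T' := _root_.Cfsg.Agent.ClassicalGeometry.OrthAut1.P (QuadForms.plusForm (F := F) 4)) e ?_
  intro A Γ h hA
  have c0 : ∀ (A : Subgroup (_root_.Cfsg.Agent.ClassicalGeometry.OrthAut1.P (QuadForms.plusForm (F := F) 4))) (Γ : Subgroup (MulAut (_root_.Cfsg.Agent.ClassicalGeometry.OrthAut1.P (QuadForms.plusForm (F := F) 4)))),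
      IF A Γ → ∀ h : ↥(E (QuadForms.plusForm (F := F) 4)), h * h = 1 →
        (finrank F (Vm h) = 2 ∨ finrank F (Vm h) = 6) → (h : _root_.Cfsg.Agent.ClassicalGeometry.OrthAut1.P (QuadForms.plusForm (F := F) 4)) ∈ A → False := by
    intro A Γ hI g hg hr hgA
    refine hc A Γ hI g hg ?_ hgA
    rw [hN]
    omega
  refine eightP_of h2 hG hN (QuotientGroup.mk' (Subgroup.center ↥(E (QuadForms.plusForm (F := F) 4))))
    (QuotientGroup.mk'_surjective _) (mk_eq_one_iff hG) h709 h hA ?_ ?_ hmod ?_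
  · intro g hg hgg hr
    exact c0 A Γ h g hgg hr hg
  · intro g hg hgg
    exact Cfsg.Agent.H601.OTri.ii_false h2 hG c0 h hgg hg
  · intro z hz
    have hT : Ty (QuadForms.plusForm (F := F) 4) 8 1 := by
      rw [← plusForm_eq']
      exact ty_plusForm 4
    have h3 := eight_plus_T h2 hG (QuotientGroup.mk' (Subgroup.center ↥(E (QuadForms.plusForm (F := F) 4))))
      (QuotientGroup.mk'_surjective _) (mk_eq_one_iff hG) hT hz
    rw [Nat.card_eq_fintype_card] at h3
    exact h3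

end cell

end Cfsg.Agent.H893.IFE
end

-- part: H94/IF/MidF
section
/-!
# S5719: the cells `minus_mid` and (modulo the abstract theorem of dimension 8, plus type) `plus_mid` (helper94)
-/

set_option autoImplicit false
set_option linter.unusedSectionVars false
set_option linter.unusedVariables false

namespace Cfsg.Agent.H94.IF

open QuadraticMap Cfsg Cfsg.Agent.LieClassical Cfsg.Agent.LieClassical.OrthCore Cfsg.Agent.LieClassical.OrthTrans
  Cfsg.Agent.LieClassical.OrthFinite Cfsg.Agent.LieClassical.OrthForms Cfsg.Agent.H209.Fxy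
  Cfsg.Agent.H75.OrthIdx Cfsg.Agent.H112.Row2.OrthExt Cfsg.Agent.AutOrth.Gen Cfsg.Agent.H989.Gs.Gen
open Module (finrank)
open Cfsg.Agent.H325.IF (Vm Vp)

theorem kerScalar_omHom {ι : Type} [Fintype ι] [DecidableEq ι] {F : Type} [Field F] {Q : QuadraticForm F (ι → F)}
    (hG : Good Q) : KerScalar (omHom hG) := fun g hg => center_scalar hG (by rw [← omHom_ker hG]; exact hg)

/-- CLAIM 0 for the models -/
theorem claimZ {ι : Type} [Fintype ι] [DecidableEq ι] {F : Type} [Field F] [Fintype F]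
    (ho : Odd (Fintype.card F)) (Q : QuadraticForm F (ι → F)) (h8 : 8 ≤ Fintype.card ι)
    (hs : IsSimpleGroup (POmega F ⇑Q)) : ClaimZ Q := by
  intro hG A Γ hIF t ht htt hr
  have hfin : Finite (POmega F ⇑Q) := Quotient.finite _
  have hfr : finrank F (ι → F) = Fintype.card ι := Module.finrank_pi F
  exact Cfsg.Agent.H94.CZ.claim0 (Cfsg.Agent.H254.IF.two_ne_zero_of_odd ho) hG.nondeg (by rw [hfr]; exact h8)
    (Cfsg.Agent.H556.IF.hna_of_IF hIF) hIF (omHom hG) (omHom_surjective hG) (kerScalar_omHom hG) ht htt hr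

/-- the cell of dimension 8, minus type -/
theorem minus_four (F : Type) [Field F] [Fintype F] (a b : F) (ho : Odd (Fintype.card F))
    (hz : ∀ z₁ z₂ : F, z₁ ^ 2 + a * z₁ * z₂ + b * z₂ ^ 2 = 0 → z₁ = 0 ∧ z₂ = 0)
    (hs : IsSimpleGroup (POmega F (quadFormMinus 3 F a b))) : KillE (POmega F (quadFormMinus 3 F a b)) := by
  classical
  have h2 : (2 : F) ≠ 0 := Cfsg.Agent.H254.IF.two_ne_zero_of_odd ho
  have hG : Good (minusForm 3 F a b) :=
    Cfsg.Agent.ClassicalGeometry.OrthSemiForms.good_minus (F := F) (m := 3) (by omega) a b hz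
  have hN : finrank F ((Fin 3 ⊕ Fin 3) ⊕ Fin 2 → F) = 8 := by
    rw [Module.finrank_fintype_fun_eq_card]
    rfl
  have hm : ∀ g : ↥(E (minusForm 3 F a b)), ¬ ∀ v, ap g v = -v :=
    Cfsg.Agent.H893.IFE.neg_notMem h2 hG (Cfsg.Agent.H160.QFinal.dc_minusForm h2 hz)
  refine Cfsg.Agent.H893.IFE.minus_four_of F a b ho hz hs ?_
  intro A Γ hIF t ht htt hr
  have hfin := Cfsg.Agent.H276.IF.finite_E (minusForm 3 F a b)
  have hsE : IsSimpleGroup ↥(E (minusForm 3 F a b)) := by
    have hs' := hs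
    rw [← coe_minusForm 3 F a b] at hs'
    obtain ⟨e⟩ := Cfsg.Agent.H893.IFE.exists_equiv hG hm
    exact (MulEquiv.isSimpleGroup_congr e).1 hs'
  refine Cfsg.Agent.H94.CZ.claim0 h2 hG.nondeg (by rw [hN]) (Cfsg.Agent.H556.IF.hna_of_IF hIF) hIF
    (MonoidHom.id _) Function.surjective_id ?_ (t := t) (by simpa using ht) htt hr
  intro g hg
  refine ⟨1, fun v => ?_⟩
  have hg' : g = 1 := hg
  rw [hg', one_smul]
  rfl

/-- **the cells `minus_mid`** -/
theorem minus_mid (F : Type) [Field F] [Fintype F] (m : ℕ) (a b : F) (ho : Odd (Fintype.card F)) (h4m : 4 ≤ m)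
    (hm7 : m ≤ 7) (hz : ∀ z₁ z₂ : F, z₁ ^ 2 + a * z₁ * z₂ + b * z₂ ^ 2 = 0 → z₁ = 0 ∧ z₂ = 0)
    (hs : IsSimpleGroup (POmega F (quadFormMinus (m - 1) F a b))) :
    KillE (POmega F (quadFormMinus (m - 1) F a b)) := by
  rcases Nat.lt_or_ge m 6 with h | h
  · have h45 : m = 4 ∨ m = 5 := by omega
    rcases h45 with rfl | rfl
    · exact minus_four F a b ho hz hs
    · change IsSimpleGroup (POmega F (quadFormMinus 4 F a b)) at hs
      change KillE (POmega F (quadFormMinus 4 F a b))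
      rw [← coe_minusForm] at hs ⊢
      exact ten_of ho _ (nondeg_minusForm 4 F a b hz) (by simp) hs (claimZ ho _ (by simp) hs)
  · exact Cfsg.Agent.H276.IF.minus_kill F m a b ho h hz hs

/-- the cell of dimension 8, plus type, from the abstract theorem -/
theorem plus_four_of (F : Type) [Field F] [Fintype F] (ho : Odd (Fintype.card F))
    (h709 : ∀ (T : Type) [Group T] [Finite T] [IsSimpleGroup T], Cfsg.Agent.H893.IFE.EightPlus T F)
    (hs : IsSimpleGroup (POmega F (quadFormPlus 4 F))) : KillE (POmega F (quadFormPlus 4 F)) := by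
  have h2 : (2 : F) ≠ 0 := Cfsg.Agent.H254.IF.two_ne_zero_of_odd ho
  have hG : Good (QuadForms.plusForm (F := F) 4) := Cfsg.Agent.AutOrth.Main.good_plus (by omega)
  have hN : finrank F (Fin 4 ⊕ Fin 4 → F) = 8 := by
    rw [Module.finrank_fintype_fun_eq_card]
    rfl
  have hs' := hs
  rw [← QuadForms.coe_plusForm 4] at hs'
  have e := Cfsg.Agent.ClassicalGeometry.OrthSemiForms.pomegaEquiv hG
  have hfin : Finite (POmega F ⇑(QuadForms.plusForm (F := F) 4)) := inferInstance
  have hfin2 : Finite (Cfsg.Agent.ClassicalGeometry.OrthAut1.P (QuadForms.plusForm (F := F) 4)) :=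
    Finite.of_equiv _ e.toEquiv
  have hs2 : IsSimpleGroup (Cfsg.Agent.ClassicalGeometry.OrthAut1.P (QuadForms.plusForm (F := F) 4)) :=
    (MulEquiv.isSimpleGroup_congr e).1 hs'
  have hk : KerScalar (QuotientGroup.mk' (Subgroup.center ↥(E (QuadForms.plusForm (F := F) 4)))) := by
    intro g hg
    rw [QuotientGroup.mk'_apply, QuotientGroup.eq_one_iff] at hg
    exact Cfsg.Agent.ClassicalGeometry.OrthAut1.center_scalar hG hg
  refine Cfsg.Agent.H893.IFE.plus_four_of F ho hs ?_ (h709 _) ?_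
  · intro A Γ hIF t htt hr htA
    exact Cfsg.Agent.H94.CZ.claim0 h2 hG.nondeg (by rw [hN]) (Cfsg.Agent.H556.IF.hna_of_IF hIF) hIF
      (QuotientGroup.mk' _) (QuotientGroup.mk'_surjective _) hk (t := t) htA htt hr
  · intro z hz
    have hT : Cfsg.Agent.H989.Fx.Ty (QuadForms.plusForm (F := F) 4) 8 1 := by
      rw [← Cfsg.Agent.H893.IFE.plusForm_eq']
      exact Cfsg.Agent.H989.Fx.ty_plusForm 4
    exact Cfsg.Agent.H886.IF8.exists_model8 _ h2 hG hT (Cfsg.Agent.H893.IFE.mk_eq_one_iff hG) z hz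

/-- the cells `plus_mid`, from the abstract theorem of dimension 8 -/
theorem plus_mid_of_eight
    (h709 : ∀ (F T : Type) [Field F] [Fintype F] [Group T] [Finite T] [IsSimpleGroup T], Odd (Fintype.card F) →
      Cfsg.Agent.H893.IFE.EightPlus T F)
    (F : Type) [Field F] [Fintype F] (m : ℕ) (ho : Odd (Fintype.card F)) (h4m : 4 ≤ m) (hm7 : m ≤ 7)
    (hs : IsSimpleGroup (POmega F (quadFormPlus m F))) : KillE (POmega F (quadFormPlus m F)) := by
  rcases Nat.lt_or_ge m 6 with h | h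
  · have h45 : m = 4 ∨ m = 5 := by omega
    rcases h45 with rfl | rfl
    · exact plus_four_of F ho (fun T _ _ _ => h709 F T ho) hs
    · rw [← coe_plusForm] at hs ⊢
      exact ten_of ho _ (nondeg_plusForm 5 F) (by simp) hs (claimZ ho _ (by simp) hs)
  · exact Cfsg.Agent.H276.IF.plus_kill F m ho h hs

end Cfsg.Agent.H94.IF
end

-- part: H709/IF/Four
section
/-!
# S5719: subgroups of central products of quasisimple groups (helper709)

`fam` : four commuting homomorphisms `f i : S →* T`, `S` quasisimple (e.g. `SL₂(q)`); `A ≤ T` contains no `f i (S)`.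
Then `|K : K ∩ A|` (`K` = the product) is at least `M m`, or `A` projects properly on every factor.
-/

set_option autoImplicit false
set_option linter.unusedSectionVars false

namespace Cfsg.Agent.H709.IF

open Subgroup

section two

variable {S H : Type*} [Group S] [Finite S] [Group H] [Finite H]

theorem index_snd (Y : Subgroup (S × H)) :
    Y.index = (Y.map (MonoidHom.snd S H)).index * (Y.comap (MonoidHom.inl S H)).index := by
  classical
  have h1 : Nat.card Y = Nat.card (Y.map (MonoidHom.snd S H)) * Nat.card (Y.comap (MonoidHom.inl S H)) := by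
    let f : Y →* H := (MonoidHom.snd S H).comp Y.subtype
    have h2 := f.ker.card_eq_card_quotient_mul_card_subgroup
    rw [h2]
    congr 1
    · have h3 : f.range = Y.map (MonoidHom.snd S H) := by
        rw [MonoidHom.range_comp, Subgroup.range_subtype]
      rw [← h3]
      exact Nat.card_congr (QuotientGroup.quotientKerEquivRange f).toEquiv
    · refine Nat.card_congr
        { toFun := fun y => ⟨y.1.1.1, ?_⟩
          invFun := fun s => ⟨⟨(s.1, 1), s.2⟩, rfl⟩
          left_inv := ?_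
          right_inv := fun s => rfl }
      · have h4 : y.1.1.2 = 1 := y.2
        show (y.1.1.1, (1 : H)) ∈ Y
        rw [← h4]
        exact y.1.2
      · rintro ⟨⟨⟨a, b⟩, hy⟩, hb⟩
        have h4 : b = 1 := hb
        subst h4
        rfl
  have h2 := Y.index_mul_card
  have h3 := (Y.map (MonoidHom.snd S H)).index_mul_card
  have h4 := (Y.comap (MonoidHom.inl S H)).index_mul_card
  have h5 : Nat.card (S × H) = Nat.card H * Nat.card S := by rw [Nat.card_prod, mul_comm]
  have h6 : 0 < Nat.card Y := Nat.card_pos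
  apply Nat.eq_of_mul_eq_mul_right h6
  rw [h2, h5, ← h3, ← h4, h1]
  ring

/-- every proper subgroup has index at least `m` -/
def MinIx (G : Type*) [Group G] (m : ℕ) : Prop := ∀ H : Subgroup G, H ≠ ⊤ → m ≤ H.index

theorem MinIx.prod {m : ℕ} (hS : MinIx S m) (hH : MinIx H m) : MinIx (S × H) m := by
  intro Y hY
  rw [index_snd]
  have h0 : 0 < (Y.map (MonoidHom.snd S H)).index := Nat.pos_of_ne_zero Subgroup.index_ne_zero_of_finite
  have h0' : 0 < (Y.comap (MonoidHom.inl S H)).index := Nat.pos_of_ne_zero Subgroup.index_ne_zero_of_finite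
  by_cases h1 : (Y.comap (MonoidHom.inl S H)) = ⊤
  · have h2 : (Y.map (MonoidHom.snd S H)) ≠ ⊤ := by
      intro h2
      apply hY
      rw [eq_top_iff]
      rintro ⟨s, x⟩ -
      have h3 : x ∈ Y.map (MonoidHom.snd S H) := by rw [h2]; trivial
      obtain ⟨⟨a, b⟩, hab, rfl⟩ := h3
      have h4 : s * a⁻¹ ∈ Y.comap (MonoidHom.inl S H) := by rw [h1]; trivial
      have h5 := Y.mul_mem h4 hab
      have h6 : MonoidHom.inl S H (s * a⁻¹) * (a, b) = (s, b) := by
        ext <;> simp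
      rw [h6] at h5
      exact h5
    exact (hH _ h2).trans (Nat.le_mul_of_pos_right _ h0')
  · exact (hS _ h1).trans (Nat.le_mul_of_pos_left _ h0)

end two

section factor

variable {S H T : Type*} [Group S] [Finite S] [Group H] [Finite H] [Group T] [Finite T] (A : Subgroup T)
  (f : S →* T) (g : H →* T) (hc : ∀ s h, Commute (f s) (g h))

/-- the projection of `A ∩ f(S) g(H)` to the second factor -/
def prj : Subgroup H := (A.comap (f.noncommCoprod g hc)).map (MonoidHom.snd S H)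

theorem mem_prj {h : H} : h ∈ prj A f g hc ↔ ∃ s : S, f s * g h ∈ A := by
  constructor
  · rintro ⟨⟨a, b⟩, hab, rfl⟩
    exact ⟨a, hab⟩
  · rintro ⟨s, hs⟩
    exact ⟨(s, h), hs, rfl⟩

theorem relIndex_range {G : Type*} [Group G] (k : G →* T) : A.relIndex k.range = (A.comap k).index := by
  rw [Subgroup.index_comap]

/-- `|f(S) g(H) : A ∩ f(S) g(H)|` -/
theorem relIndex_sup : A.relIndex (f.range ⊔ g.range) = (prj A f g hc).index * (A.comap f).index := by
  rw [← MonoidHom.noncommCoprod_range f g hc, relIndex_range, index_snd]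
  congr 2
  ext x
  rw [mem_comap, mem_comap, mem_comap]
  simp

end factor

section fam

variable {S T : Type*} [Group S] [Finite S] [Group T] [Finite T] (A : Subgroup T) (f : Fin 4 → (S →* T))
  (hcomm : ∀ i j, i ≠ j → ∀ s t, Commute (f i s) (f j t))

include hcomm

/-- the product of the last three -/
def last3 : S × S × S →* T :=
  (f 1).noncommCoprod ((f 2).noncommCoprod (f 3) (hcomm 2 3 (by decide))) (by
    rintro s ⟨t, u⟩
    exact (hcomm 1 2 (by decide) s t).mul_right (hcomm 1 3 (by decide) s u))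

theorem last3_apply (s t u : S) : last3 f hcomm (s, t, u) = f 1 s * (f 2 t * f 3 u) := rfl

theorem last3_comm : ∀ s x, Commute (f 0 s) (last3 f hcomm x) := by
  rintro s ⟨t, u, v⟩
  exact (hcomm 0 1 (by decide) s t).mul_right ((hcomm 0 2 (by decide) s u).mul_right (hcomm 0 3 (by decide) s v))

theorem range_sup : (f 0).range ⊔ (last3 f hcomm).range = ⨆ i, (f i).range := by
  rw [last3, MonoidHom.noncommCoprod_range, MonoidHom.noncommCoprod_range]
  apply le_antisymm
  · refine sup_le (le_iSup (fun i => (f i).range) 0) (sup_le (le_iSup (fun i => (f i).range) 1)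
      (sup_le (le_iSup (fun i => (f i).range) 2) (le_iSup (fun i => (f i).range) 3)))
  · refine iSup_le ?_
    intro i
    fin_cases i
    · exact le_sup_left
    · exact le_sup_of_le_right le_sup_left
    · exact le_sup_of_le_right (le_sup_of_le_right le_sup_left)
    · exact le_sup_of_le_right (le_sup_of_le_right le_sup_right)

theorem conj_last3 (x : S × S × S) (t : S) :
    last3 f hcomm x * f 1 t * (last3 f hcomm x)⁻¹ = f 1 (x.1 * t * x.1⁻¹) ∧
      last3 f hcomm x * f 2 t * (last3 f hcomm x)⁻¹ = f 2 (x.2.1 * t * x.2.1⁻¹) := by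
  obtain ⟨a, b, c⟩ := x
  constructor
  · have h1 : (f 1 t, 1) = ((f 1 t, 1) : T × T) := rfl
    have h2 : f 1 t = last3 f hcomm (t, 1, 1) := by rw [last3_apply, map_one, map_one, mul_one, mul_one]
    rw [h2, ← map_inv, ← map_mul, ← map_mul]
    have h3 : ((a, b, c) * (t, 1, 1) * (a, b, c)⁻¹ : S × S × S) = (a * t * a⁻¹, 1, 1) := by
      ext <;> simp only [_root_.Prod.mk_mul_mk, _root_.mul_one, _root_.Prod.inv_mk, _root_.mul_inv_cancel]
    rw [h3, last3_apply, map_one, map_one, mul_one, mul_one]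
  · have h2 : f 2 t = last3 f hcomm (1, t, 1) := by rw [last3_apply, map_one, map_one, mul_one, one_mul]
    rw [h2, ← map_inv, ← map_mul, ← map_mul]
    have h3 : ((a, b, c) * (1, t, 1) * (a, b, c)⁻¹ : S × S × S) = (1, b * t * b⁻¹, 1) := by
      ext <;> simp only [_root_.Prod.mk_mul_mk, _root_.mul_one, _root_.Prod.inv_mk, _root_.mul_inv_cancel]
    rw [h3, last3_apply, map_one, map_one, mul_one, one_mul]

/-- **the graph case** -/
theorem graph (hperf : commutator S = ⊤) (hN : ∀ N : Subgroup S, N.Normal → N = ⊤ ∨ N ≤ center S)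
    (h1 : ∀ s : S, ∃ x, f 0 s * last3 f hcomm x ∈ A) (h2 : ∀ x, ∃ s : S, f 0 s * last3 f hcomm x ∈ A) :
    (∀ s, f 0 s ∈ A) ∨ (∀ s, f 1 s ∈ A) ∨ (∀ s, f 2 s ∈ A) := by
  -- the groups `R i`
  have key : ∀ i : Fin 4, i ≠ 0 → (∀ (x : S × S × S) (t : S), ∃ t', last3 f hcomm x * f i t * (last3 f hcomm x)⁻¹ = f i t') →
      (∀ t : S, ∃ s, f 0 s * f i t ∈ A) →
      (∀ s : S, ∃ t, f 0 s * f i t ∈ A) ∨ (∀ s, f i s ∈ A) := by
    intro i hi hconj hlift
    let R : Subgroup S :=
      { carrier := {s | ∃ t, f 0 s * f i t ∈ A}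
        one_mem' := ⟨1, by rw [map_one, map_one, mul_one]; exact A.one_mem⟩
        mul_mem' := by
          rintro a b ⟨t, ht⟩ ⟨u, hu⟩
          refine ⟨t * u, ?_⟩
          have h3 := A.mul_mem ht hu
          have h4 : f 0 a * f i t * (f 0 b * f i u) = f 0 (a * b) * f i (t * u) := by
            rw [map_mul, map_mul, mul_assoc, ← mul_assoc (f i t), ← (hcomm 0 i hi.symm b t).eq]
            group
          rwa [h4] at h3
        inv_mem' := by
          rintro a ⟨t, ht⟩
          refine ⟨t⁻¹, ?_⟩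
          have h3 := A.inv_mem ht
          rw [(hcomm 0 i hi.symm a t).eq, mul_inv_rev, ← map_inv, ← map_inv] at h3
          exact h3 }
    have hR : R.Normal := by
      constructor
      rintro s ⟨t, ht⟩ u
      obtain ⟨x, hx⟩ := h1 u
      obtain ⟨t', ht'⟩ := hconj x t
      refine ⟨t', ?_⟩
      have h3 := A.mul_mem (A.mul_mem hx ht) (A.inv_mem hx)
      have h4 : f 0 u * last3 f hcomm x * (f 0 s * f i t) * (f 0 u * last3 f hcomm x)⁻¹ =
          f 0 (u * s * u⁻¹) * (last3 f hcomm x * f i t * (last3 f hcomm x)⁻¹) := by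
        have c1 : ∀ v, last3 f hcomm x * f 0 v = f 0 v * last3 f hcomm x := fun v => (last3_comm f hcomm v x).eq.symm
        have c2 : (last3 f hcomm x * f i t * (last3 f hcomm x)⁻¹) * (f 0 u)⁻¹ =
            (f 0 u)⁻¹ * (last3 f hcomm x * f i t * (last3 f hcomm x)⁻¹) := by
          rw [ht', ← map_inv]
          exact (hcomm 0 i hi.symm u⁻¹ t').eq.symm
        rw [map_mul, map_mul, map_inv, mul_inv_rev]
        calc f 0 u * last3 f hcomm x * (f 0 s * f i t) * ((last3 f hcomm x)⁻¹ * (f 0 u)⁻¹)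
            = f 0 u * (last3 f hcomm x * f 0 s) * f i t * (last3 f hcomm x)⁻¹ * (f 0 u)⁻¹ := by group
          _ = f 0 u * f 0 s * ((last3 f hcomm x * f i t * (last3 f hcomm x)⁻¹) * (f 0 u)⁻¹) := by rw [c1]; group
          _ = _ := by rw [c2]; group
      rw [h4, ht'] at h3
      exact h3
    rcases hN R hR with h3 | h3
    · left
      intro s
      have h4 : s ∈ R := by rw [h3]; trivial
      exact h4
    · right
      intro s
      have h5 : commutator S ≤ A.comap (f i) := by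
        rw [commutator_def, Subgroup.commutator_le]
        intro t _ u _
        obtain ⟨a, ha⟩ := hlift t
        obtain ⟨b, hb⟩ := hlift u
        have ca : a ∈ center S := h3 ⟨t, ha⟩
        have h6 := A.mul_mem (A.mul_mem (A.mul_mem ha hb) (A.inv_mem ha)) (A.inv_mem hb)
        have cab : a * b * a⁻¹ * b⁻¹ = 1 := by
          rw [mem_center_iff] at ca
          rw [← ca b]
          group
        have h7 : f 0 a * f i t * (f 0 b * f i u) * (f 0 a * f i t)⁻¹ * (f 0 b * f i u)⁻¹ =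
            f 0 (a * b * a⁻¹ * b⁻¹) * f i (t * u * t⁻¹ * u⁻¹) := by
          have e1 : (f 0 a * f i t)⁻¹ = f 0 a⁻¹ * f i t⁻¹ := by
            rw [(hcomm 0 i hi.symm a t).eq, mul_inv_rev, map_inv, map_inv]
          have e2 : (f 0 b * f i u)⁻¹ = f 0 b⁻¹ * f i u⁻¹ := by
            rw [(hcomm 0 i hi.symm b u).eq, mul_inv_rev, map_inv, map_inv]
          have c : ∀ (p p' t t' : S), f 0 p * f i t * (f 0 p' * f i t') = f 0 (p * p') * f i (t * t') := by
            intro p p' t t'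
            rw [map_mul, map_mul, mul_assoc, ← mul_assoc (f i t), ← (hcomm 0 i hi.symm p' t).eq]
            group
          rw [e1, e2, c, c, c]
        rw [h7, cab, map_one, one_mul] at h6
        exact h6
      rw [hperf] at h5
      exact h5 (mem_top s)
  have k1 := key 1 (by decide) (fun x t => ⟨_, (conj_last3 f hcomm x t).1⟩) (by
    intro t
    obtain ⟨s, hs⟩ := h2 (t, 1, 1)
    refine ⟨s, ?_⟩
    rw [last3_apply, map_one, map_one, mul_one, mul_one] at hs
    exact hs)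
  have k2 := key 2 (by decide) (fun x t => ⟨_, (conj_last3 f hcomm x t).2⟩) (by
    intro t
    obtain ⟨s, hs⟩ := h2 (1, t, 1)
    refine ⟨s, ?_⟩
    rw [last3_apply, map_one, map_one, mul_one, one_mul] at hs
    exact hs)
  rcases k1 with k1 | k1
  · rcases k2 with k2 | k2
    · left
      intro s
      have h5 : commutator S ≤ A.comap (f 0) := by
        rw [commutator_def, Subgroup.commutator_le]
        intro a _ b _
        obtain ⟨t, ht⟩ := k1 a
        obtain ⟨u, hu⟩ := k2 b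
        have h6 := A.mul_mem (A.mul_mem (A.mul_mem ht hu) (A.inv_mem ht)) (A.inv_mem hu)
        have h7 : f 0 a * f 1 t * (f 0 b * f 2 u) * (f 0 a * f 1 t)⁻¹ * (f 0 b * f 2 u)⁻¹ = f 0 (a * b * a⁻¹ * b⁻¹) := by
          have c01 : ∀ p q, f 1 p * f 0 q = f 0 q * f 1 p := fun p q => (hcomm 0 1 (by decide) q p).eq.symm
          have c12 : f 1 t * f 2 u = f 2 u * f 1 t := (hcomm 1 2 (by decide) t u).eq
          have c02 : ∀ p q, f 2 p * f 0 q = f 0 q * f 2 p := fun p q => (hcomm 0 2 (by decide) q p).eq.symm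
          have e1 : f 0 a * f 1 t * (f 0 b * f 2 u) = f 0 (a * b) * (f 2 u * f 1 t) := by
            rw [map_mul, ← c12, mul_assoc, ← mul_assoc (f 1 t), c01]
            group
          have e2 : (f 0 a * f 1 t)⁻¹ * (f 0 b * f 2 u)⁻¹ = (f 2 u * f 1 t)⁻¹ * f 0 (a⁻¹ * b⁻¹) := by
            have e3 : (f 0 b * f 2 u) * (f 0 a * f 1 t) = f 0 (b * a) * (f 2 u * f 1 t) := by
              rw [map_mul, mul_assoc, ← mul_assoc (f 2 u), c02]
              group
            rw [← mul_inv_rev, e3, mul_inv_rev, ← map_inv, mul_inv_rev b a]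
          rw [mul_assoc, e2, e1, map_mul, map_mul, map_mul, map_mul, map_mul]
          group
        rw [h7] at h6
        exact h6
      rw [hperf] at h5
      exact h5 (mem_top s)
    · exact Or.inr (Or.inr k2)
  · exact Or.inr (Or.inl k1)

/-- the index, when `A` projects onto the factor `0` -/
theorem step (hperf : commutator S = ⊤) (hN : ∀ N : Subgroup S, N.Normal → N = ⊤ ∨ N ≤ center S) {M m : ℕ}
    (hM : M ≤ (center S).index) (hm : MinIx S m) (hne : ∀ i, A.comap (f i) ≠ ⊤)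
    (h1 : ∀ s : S, ∃ x, f 0 s * last3 f hcomm x ∈ A) : M * m ≤ A.relIndex (⨆ i, (f i).range) := by
  rw [← range_sup f hcomm, relIndex_sup A (f 0) (last3 f hcomm) (last3_comm f hcomm), mul_comm M]
  refine Nat.mul_le_mul ?_ ?_
  · apply (hm.prod (hm.prod hm))
    intro h2
    have h3 : ∀ x, ∃ s : S, f 0 s * last3 f hcomm x ∈ A := by
      intro x
      rw [← mem_prj A (f 0) (last3 f hcomm) (last3_comm f hcomm), h2]
      trivial
    rcases graph A f hcomm hperf hN h1 h3 with h4 | h4 | h4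
    · exact hne 0 (by rw [eq_top_iff]; exact fun s _ => h4 s)
    · exact hne 1 (by rw [eq_top_iff]; exact fun s _ => h4 s)
    · exact hne 2 (by rw [eq_top_iff]; exact fun s _ => h4 s)
  · have hnorm : (A.comap (f 0)).Normal := by
      constructor
      intro s hs u
      obtain ⟨x, hx⟩ := h1 u
      have h3 := A.mul_mem (A.mul_mem hx hs) (A.inv_mem hx)
      have h4 : f 0 u * last3 f hcomm x * f 0 s * (f 0 u * last3 f hcomm x)⁻¹ = f 0 (u * s * u⁻¹) := by
        have c1 : last3 f hcomm x * f 0 s = f 0 s * last3 f hcomm x := (last3_comm f hcomm s x).eq.symm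
        rw [map_mul, map_mul, map_inv, mul_inv_rev, mul_assoc (f 0 u), c1]
        group
      rw [h4] at h3
      exact h3
    rcases hN _ hnorm with h2 | h2
    · exact absurd h2 (hne 0)
    · exact hM.trans (Nat.le_of_dvd (Nat.pos_of_ne_zero Subgroup.index_ne_zero_of_finite) (Subgroup.index_dvd_of_le h2))

/-- the index, when `A` does not project onto the factor `0` -/
theorem step' {m : ℕ} (hm : MinIx S m) (h1 : ∃ s : S, ∀ x, f 0 s * last3 f hcomm x ∉ A) :
    m * A.relIndex (last3 f hcomm).range ≤ A.relIndex (⨆ i, (f i).range) := by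
  rw [← range_sup f hcomm, sup_comm, relIndex_sup A (last3 f hcomm) (f 0) (fun x s => (last3_comm f hcomm s x).symm),
    relIndex_range]
  refine Nat.mul_le_mul_right _ (hm _ ?_)
  intro h2
  obtain ⟨s, hs⟩ := h1
  have h3 : s ∈ prj A (last3 f hcomm) (f 0) (fun x s => (last3_comm f hcomm s x).symm) := by rw [h2]; trivial
  obtain ⟨x, hx⟩ := (mem_prj A (last3 f hcomm) (f 0) (fun x s => (last3_comm f hcomm s x).symm)).1 h3
  apply hs x
  rw [(last3_comm f hcomm s x).eq]
  exact hx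

end fam

end Cfsg.Agent.H709.IF
end

-- part: H94/IF/KTwo
section
/-!
# (K2), (K3) for S5719: subgroups of direct products with odd intersections

`OddIdx K b`: a subgroup of `K` normalising a nontrivial subgroup of odd order in it has index at least `b`.
-/

set_option autoImplicit false
set_option linter.unusedSectionVars false

namespace Cfsg.Agent.H94.IF

/-- a subgroup with a nontrivial normal subgroup of odd order has index at least `b` -/
def OddIdx (K : Type*) [Group K] (b : ℕ) : Prop :=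
  ∀ R N : Subgroup K, N ≤ R → (∀ g ∈ R, ∀ x ∈ N, g * x * g⁻¹ ∈ N) → N ≠ ⊥ → Odd (Nat.card N) → b ≤ R.index

section abs

variable {G G₁ G₂ G₃ : Type*} [Group G] [Group G₁] [Group G₂] [Group G₃] [Finite G] [Finite G₁] [Finite G₂] [Finite G₃]

/-- index of a subgroup of a product -/
theorem index_prod (Y : Subgroup (G₁ × G₂)) :
    Y.index = (Y.comap (MonoidHom.inl G₁ G₂)).index * (Y.map (MonoidHom.snd G₁ G₂)).index := by
  classical
  have h1 : Nat.card Y = Nat.card (Y.comap (MonoidHom.inl G₁ G₂)) * Nat.card (Y.map (MonoidHom.snd G₁ G₂)) := by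
    let f : Y →* G₂ := (MonoidHom.snd G₁ G₂).comp Y.subtype
    have hr : f.range = Y.map (MonoidHom.snd G₁ G₂) := by
      rw [MonoidHom.range_comp, Subgroup.range_subtype]
    have hk : Nat.card f.ker = Nat.card (Y.comap (MonoidHom.inl G₁ G₂)) := by
      refine Nat.card_congr ⟨fun y => ⟨y.1.1.1, ?_⟩, fun x => ⟨⟨(x.1, 1), x.2⟩, ?_⟩, ?_, ?_⟩
      · have h2 : y.1.1.2 = 1 := (MonoidHom.mem_ker).1 y.2
        have h3 : ((y.1.1.1, 1) : G₁ × G₂) ∈ Y := by
          rw [← h2]
          exact y.1.2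
        exact h3
      · exact (MonoidHom.mem_ker).2 rfl
      · intro y
        have h2 : y.1.1.2 = 1 := (MonoidHom.mem_ker).1 y.2
        apply Subtype.ext
        apply Subtype.ext
        exact Prod.ext rfl h2.symm
      · intro x
        rfl
    rw [← hk, ← hr, Subgroup.card_eq_card_quotient_mul_card_subgroup f.ker, mul_comm]
    congr 1
    exact Nat.card_congr (QuotientGroup.quotientKerEquivRange f).toEquiv
  have h2 := Y.card_mul_index
  have h3 := (Y.comap (MonoidHom.inl G₁ G₂)).card_mul_index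
  have h4 := (Y.map (MonoidHom.snd G₁ G₂)).card_mul_index
  rw [Nat.card_prod, ← h3, ← h4, h1] at h2
  have h5 : 0 < Nat.card (Y.comap (MonoidHom.inl G₁ G₂)) * Nat.card (Y.map (MonoidHom.snd G₁ G₂)) :=
    Nat.mul_pos Nat.card_pos Nat.card_pos
  apply Nat.eq_of_mul_eq_mul_left h5
  rw [h2]
  ring

theorem index_prod' (Y : Subgroup (G₁ × G₂)) :
    Y.index = (Y.comap (MonoidHom.inr G₁ G₂)).index * (Y.map (MonoidHom.fst G₁ G₂)).index := by
  classical
  have h1 : Nat.card Y = Nat.card (Y.comap (MonoidHom.inr G₁ G₂)) * Nat.card (Y.map (MonoidHom.fst G₁ G₂)) := by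
    let f : Y →* G₁ := (MonoidHom.fst G₁ G₂).comp Y.subtype
    have hr : f.range = Y.map (MonoidHom.fst G₁ G₂) := by
      rw [MonoidHom.range_comp, Subgroup.range_subtype]
    have hk : Nat.card f.ker = Nat.card (Y.comap (MonoidHom.inr G₁ G₂)) := by
      refine Nat.card_congr ⟨fun y => ⟨y.1.1.2, ?_⟩, fun x => ⟨⟨(1, x.1), x.2⟩, ?_⟩, ?_, ?_⟩
      · have h2 : y.1.1.1 = 1 := (MonoidHom.mem_ker).1 y.2
        have h3 : ((1, y.1.1.2) : G₁ × G₂) ∈ Y := by
          rw [← h2]
          exact y.1.2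
        exact h3
      · exact (MonoidHom.mem_ker).2 rfl
      · intro y
        have h2 : y.1.1.1 = 1 := (MonoidHom.mem_ker).1 y.2
        apply Subtype.ext
        apply Subtype.ext
        exact Prod.ext h2.symm rfl
      · intro x
        rfl
    rw [← hk, ← hr, Subgroup.card_eq_card_quotient_mul_card_subgroup f.ker, mul_comm]
    congr 1
    exact Nat.card_congr (QuotientGroup.quotientKerEquivRange f).toEquiv
  have h2 := Y.card_mul_index
  have h3 := (Y.comap (MonoidHom.inr G₁ G₂)).card_mul_index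
  have h4 := (Y.map (MonoidHom.fst G₁ G₂)).card_mul_index
  rw [Nat.card_prod, ← h3, ← h4, h1] at h2
  have h5 : 0 < Nat.card (Y.comap (MonoidHom.inr G₁ G₂)) * Nat.card (Y.map (MonoidHom.fst G₁ G₂)) :=
    Nat.mul_pos Nat.card_pos Nat.card_pos
  apply Nat.eq_of_mul_eq_mul_left h5
  rw [h2]
  ring

theorem conj_comap_inl {Y : Subgroup (G₁ × G₂)} {y : G₁ × G₂} (hy : y ∈ Y) {x : G₁}
    (hx : x ∈ Y.comap (MonoidHom.inl G₁ G₂)) : y.1 * x * y.1⁻¹ ∈ Y.comap (MonoidHom.inl G₁ G₂) := by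
  have h1 : y * (x, 1) * y⁻¹ ∈ Y := Y.mul_mem (Y.mul_mem hy hx) (Y.inv_mem hy)
  have h2 : y * (x, 1) * y⁻¹ = (y.1 * x * y.1⁻¹, 1) := by
    refine Prod.ext rfl ?_
    show y.2 * 1 * y.2⁻¹ = 1
    group
  rw [h2] at h1
  exact h1

/-- the first intersection is odd: small index or trivial -/
theorem inl_bot {b : ℕ} (hK : OddIdx G₁ b) {Y : Subgroup (G₁ × G₂)}
    (h1 : Odd (Nat.card (Y.comap (MonoidHom.inl G₁ G₂)))) (hlt : (Y.map (MonoidHom.fst G₁ G₂)).index < b) :
    Y.comap (MonoidHom.inl G₁ G₂) = ⊥ := by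
  by_contra hne
  have h2 := hK (Y.map (MonoidHom.fst G₁ G₂)) (Y.comap (MonoidHom.inl G₁ G₂)) ?_ ?_ hne h1
  · omega
  · intro x hx
    exact ⟨(x, 1), hx, rfl⟩
  · rintro _ ⟨y, hy, rfl⟩ x hx
    exact conj_comap_inl hy hx

/-- a subgroup of odd order has index at least `b` -/
theorem OddIdx.odd {b : ℕ} (hK : OddIdx G b) (hb : b ≤ Nat.card G) {N : Subgroup G} (h : Odd (Nat.card N)) :
    b ≤ N.index := by
  by_cases hN : N = ⊥
  · rw [hN, Subgroup.index_bot]
    exact hb
  · exact hK N N le_rfl (fun g hg x hx => N.mul_mem (N.mul_mem hg hx) (N.inv_mem hg)) hN h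

theorem odd_card_of_forall {A : Subgroup G} (h : ∀ x ∈ A, Odd (orderOf x)) : Odd (Nat.card A) := by
  by_contra hev
  rw [Nat.not_odd_iff_even, even_iff_two_dvd] at hev
  have : Fact (Nat.Prime 2) := ⟨Nat.prime_two⟩
  obtain ⟨x, hx⟩ := exists_prime_orderOf_dvd_card' (G := A) 2 hev
  have h1 := h x x.2
  rw [Subgroup.orderOf_coe, hx] at h1
  exact absurd h1 (by decide)

theorem odd_orderOf_of_dvd {x : G} {y : G₁} (h : ∀ n : ℕ, x ^ n = 1 → y ^ n = 1) (hx : Odd (orderOf x)) :
    Odd (orderOf y) :=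
  hx.of_dvd_nat (orderOf_dvd_of_pow_eq_one (h _ (pow_orderOf_eq_one x)))

/-- **(K3)**: all intersections with products of two factors are odd. -/
theorem kThree {b : ℕ} (h₁ : OddIdx G₁ b) (h₂ : OddIdx G₂ b) (h₃ : OddIdx G₃ b) (hb₁ : b ≤ Nat.card G₁)
    (hb₂ : b ≤ Nat.card G₂) (hb₃ : b ≤ Nat.card G₃) {Y : Subgroup (G₁ × G₂ × G₃)}
    (o₁₂ : ∀ y ∈ Y, y.2.2 = 1 → Odd (orderOf y)) (o₁₃ : ∀ y ∈ Y, y.2.1 = 1 → Odd (orderOf y))
    (o₂₃ : ∀ y ∈ Y, y.1 = 1 → Odd (orderOf y)) :
    b ^ 3 ≤ Y.index ∨ Nat.card G₁ * Nat.card G₂ ≤ Y.index := by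
  set! Z : Subgroup (G₂ × G₃) := Y.map (MonoidHom.snd G₁ (G₂ × G₃)) with hZ
  set! W : Subgroup (G₂ × G₃) := Y.comap (MonoidHom.inr G₁ (G₂ × G₃)) with hW
  have e := index_prod Y
  have e' := index_prod' Y
  rw [← hZ] at e
  rw [← hW] at e'
  have f := index_prod Z
  have f' := index_prod' Z
  have g := index_prod W
  -- odd subgroups
  have d1 : Odd (Nat.card (Y.comap (MonoidHom.inl G₁ (G₂ × G₃)))) := by
    refine odd_card_of_forall fun x hx => ?_
    refine odd_orderOf_of_dvd (x := ((x, 1) : G₁ × G₂ × G₃)) (fun n hn => ?_) (o₁₂ _ hx rfl)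
    exact congrArg Prod.fst hn
  have d2 : Odd (Nat.card (Z.comap (MonoidHom.inl G₂ G₃))) := by
    refine odd_card_of_forall fun x hx => ?_
    obtain ⟨y, hy, hyx⟩ := hx
    have h1 : y.2.1 = x := congrArg Prod.fst hyx
    have h2 : y.2.2 = 1 := congrArg Prod.snd hyx
    refine odd_orderOf_of_dvd (x := y) (fun n hn => ?_) (o₁₂ y hy h2)
    rw [← h1]
    exact congrArg (fun t => t.2.1) hn
  have d3 : Odd (Nat.card (Z.comap (MonoidHom.inr G₂ G₃))) := by
    refine odd_card_of_forall fun x hx => ?_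
    obtain ⟨y, hy, hyx⟩ := hx
    have h1 : y.2.1 = 1 := congrArg Prod.fst hyx
    have h2 : y.2.2 = x := congrArg Prod.snd hyx
    refine odd_orderOf_of_dvd (x := y) (fun n hn => ?_) (o₁₃ y hy h1)
    rw [← h2]
    exact congrArg (fun t => t.2.2) hn
  have d4 : Odd (Nat.card (W.comap (MonoidHom.inl G₂ G₃))) := by
    refine odd_card_of_forall fun x hx => ?_
    refine odd_orderOf_of_dvd (x := ((1, x, 1) : G₁ × G₂ × G₃)) (fun n hn => ?_) (o₂₃ _ hx rfl)
    exact congrArg (fun t => t.2.1) hn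
  have d5 : Odd (Nat.card (W.map (MonoidHom.snd G₂ G₃))) := by
    refine odd_card_of_forall fun x hx => ?_
    obtain ⟨y, hy, hyx⟩ := hx
    refine odd_orderOf_of_dvd (x := ((1, y) : G₁ × G₂ × G₃)) (fun n hn => ?_) (o₂₃ _ hy rfl)
    rw [← hyx]
    exact congrArg (fun t => t.2.2) hn
  have i1 := h₁.odd hb₁ d1
  have i2 := h₂.odd hb₂ d2
  have i3 := h₃.odd hb₃ d3
  have i4 := h₂.odd hb₂ d4
  have i5 := h₃.odd hb₃ d5
  by_cases c3 : b ≤ (Z.map (MonoidHom.snd G₂ G₃)).index
  · left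
    rw [e, f]
    calc b ^ 3 = b * (b * b) := by ring
      _ ≤ _ := Nat.mul_le_mul i1 (Nat.mul_le_mul i2 c3)
  by_cases c2 : b ≤ (Z.map (MonoidHom.fst G₂ G₃)).index
  · left
    rw [e, f']
    calc b ^ 3 = b * (b * b) := by ring
      _ ≤ _ := Nat.mul_le_mul i1 (Nat.mul_le_mul i3 c2)
  by_cases c1 : b ≤ (Y.map (MonoidHom.fst G₁ (G₂ × G₃))).index
  · left
    rw [e', g]
    calc b ^ 3 = b * b * b := by ring
      _ ≤ _ := Nat.mul_le_mul (Nat.mul_le_mul i4 i5) c1
  push Not at c1 c2 c3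
  right
  have t1 := inl_bot h₁ d1 c1
  have t2 := inl_bot h₂ d2 c2
  rw [t1, Subgroup.index_bot] at e
  rw [t2, Subgroup.index_bot] at f
  rw [e, f]
  have p : 0 < (Z.map (MonoidHom.snd G₂ G₃)).index := Nat.pos_of_ne_zero Subgroup.index_ne_zero_of_finite
  exact Nat.mul_le_mul_left _ (Nat.le_mul_of_pos_right _ p)

end abs

section inst

variable {F : Type*} [Field F] [Finite F]

local notation "PP" => Matrix.ProjectiveSpecialLinearGroup (Fin 2) F

theorem oddIdx_psl (hF : (2 : F) ≠ 0) : OddIdx PP (Nat.card F + 1) := fun _ _ h1 h2 h3 h4 =>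
  (kOne hF h1 h2 h3 h4).2

end inst

end Cfsg.Agent.H94.IF
end

-- part: H709/IF/EightPlus
section
/-!
# S5719, `POmega_8^+(q)`, `q` odd: the case of a fundamental involution (helper709)

`eight_plus` : four commuting `SL₂(q)` with the same central involution `z`.
-/

set_option autoImplicit false
set_option linter.unusedSectionVars false

namespace Cfsg.Agent.H709.IF

open MulAction Subgroup Cfsg.Agent.H209.Fxy
open Matrix (SpecialLinearGroup ProjectiveSpecialLinearGroup)

section ar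

theorem ar0 (k : ℕ) : (2 * k + 1) ^ 8 * ((2 * k + 1) ^ 2 + 1) ^ 2 * ((2 * k + 1) ^ 4 + (2 * k + 1) ^ 2 + 1) ≤
    16 * ((2 * k + 1) ^ 12 * (k + 1) ^ 4) := by
  have h1 : (2 * k + 1) ^ 2 + 1 ≤ (2 * k + 1) * (2 * (k + 1)) := by linarith only []
  have h2 : (2 * k + 1) ^ 4 + (2 * k + 1) ^ 2 + 1 ≤ ((2 * k + 1) ^ 2 + 1) ^ 2 := by linarith only [_root_.sq_nonneg (2 * ↑k + 1 : ℤ)]
  have h3 : ((2 * k + 1) ^ 2 + 1) ^ 2 ≤ ((2 * k + 1) * (2 * (k + 1))) ^ 2 := Nat.pow_le_pow_left h1 2
  calc (2 * k + 1) ^ 8 * ((2 * k + 1) ^ 2 + 1) ^ 2 * ((2 * k + 1) ^ 4 + (2 * k + 1) ^ 2 + 1)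
      ≤ (2 * k + 1) ^ 8 * ((2 * k + 1) * (2 * (k + 1))) ^ 2 * ((2 * k + 1) * (2 * (k + 1))) ^ 2 :=
        Nat.mul_le_mul (Nat.mul_le_mul_left _ h3) (h2.trans h3)
    _ = _ := by ring

theorem ar_q (k : ℕ) : (2 * k + 1) ^ 12 ≤ 4096 * (k + 1) ^ 12 := by
  have h1 : (2 * k + 1) ^ 12 ≤ (2 * (k + 1)) ^ 12 := Nat.pow_le_pow_left (by omega) 12
  calc (2 * k + 1) ^ 12 ≤ (2 * (k + 1)) ^ 12 := h1
    _ = _ := by rw [mul_pow]; norm_num

theorem ar3 (k : ℕ) : 4 * ((2 * k + 1) ^ 12 * (k + 1) ^ 4) ≤ ((k + 1) * (2 * k + 2) ^ 3) ^ 5 := by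
  have h1 := Nat.mul_le_mul_right ((k + 1) ^ 4) (ar_q k)
  have h2 : (k + 1) ^ 16 ≤ (k + 1) ^ 20 := Nat.pow_le_pow_right (by omega) (by norm_num)
  have h3 : ((k + 1) * (2 * k + 2) ^ 3) ^ 5 = 32768 * (k + 1) ^ 20 := by ring
  have h4 : 4096 * (k + 1) ^ 12 * (k + 1) ^ 4 = 4096 * (k + 1) ^ 16 := by ring
  omega

theorem ar4 (k : ℕ) : 4 * ((2 * k + 1) ^ 12 * (k + 1) ^ 4) ≤ ((2 * k + 2) ^ 3) ^ 5 * (k + 1) := by
  have h1 := Nat.mul_le_mul_right ((k + 1) ^ 4) (ar_q k)
  have h3 : ((2 * k + 2) ^ 3) ^ 5 * (k + 1) = 32768 * (k + 1) ^ 16 := by ring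
  have h4 : 4096 * (k + 1) ^ 12 * (k + 1) ^ 4 = 4096 * (k + 1) ^ 16 := by ring
  omega

theorem ar2 {k : ℕ} (hk : 2 ≤ k) :
    4 * ((2 * k + 1) ^ 12 * (k + 1) ^ 4) ≤ ((2 * k + 1) * (2 * (k * (k + 1))) * (k + 1)) ^ 5 := by
  have h0 : (2 * k + 1) ^ 7 ≤ 8 * (k ^ 5 * (k + 1) ^ 6) := by
    rcases eq_or_lt_of_le hk with rfl | h
    · norm_num
    · have h1 : (2 * k + 1) ^ 6 ≤ (2 * (k + 1)) ^ 6 := Nat.pow_le_pow_left (by omega) 6
      have h2 : 8 * (2 * k + 1) ≤ k ^ 5 := by
        have h3 : 3 ^ 4 * k ≤ k ^ 4 * k := Nat.mul_le_mul_right k (Nat.pow_le_pow_left h 4)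
        have h4 : k ^ 4 * k = k ^ 5 := by ring
        omega
      calc (2 * k + 1) ^ 7 = (2 * k + 1) ^ 6 * (2 * k + 1) := by ring
        _ ≤ (2 * (k + 1)) ^ 6 * (2 * k + 1) := Nat.mul_le_mul_right _ h1
        _ = 8 * ((8 * (2 * k + 1)) * (k + 1) ^ 6) := by ring
        _ ≤ _ := Nat.mul_le_mul_left _ (Nat.mul_le_mul_right _ h2)
  calc 4 * ((2 * k + 1) ^ 12 * (k + 1) ^ 4) = 4 * ((2 * k + 1) ^ 5 * (k + 1) ^ 4) * (2 * k + 1) ^ 7 := by ring
    _ ≤ 4 * ((2 * k + 1) ^ 5 * (k + 1) ^ 4) * (8 * (k ^ 5 * (k + 1) ^ 6)) := Nat.mul_le_mul_left _ h0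
    _ = _ := by ring

end ar

section k3

variable {F : Type*} [Field F] [Fintype F] {T : Type*} [Group T] [Finite T] {A : Subgroup T}


theorem mk_sq (h2 : (2 : F) ≠ 0) {s : _root_.Matrix.SpecialLinearGroup (Fin 2) F} (h : (QuotientGroup.mk s : ProjectiveSpecialLinearGroup (Fin 2) F) * QuotientGroup.mk s = 1) :
    (s = 1 ∨ s = -1) ∨ s * s = -1 := by
  have h1 : s * s ∈ center (_root_.Matrix.SpecialLinearGroup (Fin 2) F) := (QuotientGroup.eq_one_iff (s * s)).1 h
  rcases H215.IFM.mem_center2.1 h1 with h3 | h3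
  · exact Or.inl (H215.IFM.sq_one h2 h3)
  · exact Or.inr h3

theorem mk_one {s : _root_.Matrix.SpecialLinearGroup (Fin 2) F} (h : (QuotientGroup.mk s : ProjectiveSpecialLinearGroup (Fin 2) F) = 1) : s = 1 ∨ s = -1 :=
  H215.IFM.mem_center2.1 ((QuotientGroup.eq_one_iff s).1 h)

theorem one_mk {s : _root_.Matrix.SpecialLinearGroup (Fin 2) F} (h : s = 1 ∨ s = -1) : (QuotientGroup.mk s : ProjectiveSpecialLinearGroup (Fin 2) F) = 1 :=
  (QuotientGroup.eq_one_iff s).2 (H215.IFM.mem_center2.2 h)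

theorem odd_of {G : Type*} [Group G] [Finite G] {x : G} (h : ∀ n : ℕ, x ^ n * x ^ n = 1 → x ^ n = 1) :
    Odd (orderOf x) := by
  by_contra hev
  rw [Nat.not_odd_iff_even] at hev
  obtain ⟨n, hn⟩ := hev
  have h1 : x ^ n * x ^ n = 1 := by rw [← pow_add, ← hn, pow_orderOf_eq_one]
  have h2 := orderOf_dvd_of_pow_eq_one (h n h1)
  have h3 := orderOf_pos x
  have h4 := Nat.le_of_dvd (by omega) h2
  omega

variable (f : Fin 4 → (_root_.Matrix.SpecialLinearGroup (Fin 2) F →* T)) (hcomm : ∀ i j, i ≠ j → ∀ s t, Commute (f i s) (f j t))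

include hcomm

theorem k3 (h2 : (2 : F) ≠ 0) {z : T} (hz : z ∈ A) (hneg : ∀ i, f i (-1) = z)
    (hsup : ∀ i j, i ≠ j → ∀ s t : _root_.Matrix.SpecialLinearGroup (Fin 2) F, s * s = -1 → t * t = -1 → f i s * f j t ∉ A)
    (hno : ∀ i, i ≠ 0 → ∀ s : _root_.Matrix.SpecialLinearGroup (Fin 2) F, s * s = -1 → f i s ∉ A) :
    (Fintype.card F + 1) ^ 3 ≤ A.relIndex (last3 f hcomm).range := by
  have hc1 : ∀ i (s : _root_.Matrix.SpecialLinearGroup (Fin 2) F), (s = 1 ∨ s = -1) → f i s ∈ A := by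
    rintro i s (rfl | rfl)
    · rw [map_one]
      exact A.one_mem
    · rw [hneg]
      exact hz
  have hcz : ∀ i (s : _root_.Matrix.SpecialLinearGroup (Fin 2) F), (s = 1 ∨ s = -1) → ∀ j t, i ≠ j → f i s * f j t = f j t * f i s := fun i s _ j t hij =>
    (hcomm i j hij s t).eq
  have kill : ∀ a b c : _root_.Matrix.SpecialLinearGroup (Fin 2) F, f 1 a * (f 2 b * f 3 c) ∈ A → ((a = 1 ∨ a = -1) ∨ a * a = -1) →
      ((b = 1 ∨ b = -1) ∨ b * b = -1) → ((c = 1 ∨ c = -1) ∨ c * c = -1) →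
      ((a = 1 ∨ a = -1) ∨ (b = 1 ∨ b = -1) ∨ (c = 1 ∨ c = -1)) →
      (a = 1 ∨ a = -1) ∧ (b = 1 ∨ b = -1) ∧ (c = 1 ∨ c = -1) := by
    intro a b c hA ha hb hc habc
    rcases ha with ha | ha
    · have hA1 : f 2 b * f 3 c ∈ A := (A.mul_mem_cancel_left (hc1 1 a ha)).1 hA
      rcases hb with hb | hb
      · have hA2 : f 3 c ∈ A := (A.mul_mem_cancel_left (hc1 2 b hb)).1 hA1
        rcases hc with hc | hc
        · exact ⟨ha, hb, hc⟩
        · exact absurd hA2 (hno 3 (by decide) c hc)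
      · rcases hc with hc | hc
        · exact absurd ((A.mul_mem_cancel_right (hc1 3 c hc)).1 hA1) (hno 2 (by decide) b hb)
        · exact absurd hA1 (hsup 2 3 (by decide) b c hb hc)
    · rcases hb with hb | hb
      · have e : f 1 a * (f 2 b * f 3 c) = f 2 b * (f 1 a * f 3 c) := by
          rw [← mul_assoc, (hcomm 1 2 (by decide) a b).eq, mul_assoc]
        rw [e] at hA
        have hA1 : f 1 a * f 3 c ∈ A := (A.mul_mem_cancel_left (hc1 2 b hb)).1 hA
        rcases hc with hc | hc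
        · exact absurd ((A.mul_mem_cancel_right (hc1 3 c hc)).1 hA1) (hno 1 (by decide) a ha)
        · exact absurd hA1 (hsup 1 3 (by decide) a c ha hc)
      · rcases hc with hc | hc
        · rw [← mul_assoc] at hA
          exact absurd ((A.mul_mem_cancel_right (hc1 3 c hc)).1 hA) (hsup 1 2 (by decide) a b ha hb)
        · exfalso
          have hne : ∀ x : _root_.Matrix.SpecialLinearGroup (Fin 2) F, (x = 1 ∨ x = -1) → x * x ≠ -1 := by
            intro x hx he
            have h3 : x * x = 1 := by rcases hx with rfl | rfl <;> simp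
            exact H215.IFM.neg_one_ne h2 (he.symm.trans h3)
          rcases habc with h3 | h3 | h3
          · exact hne _ h3 ha
          · exact hne _ h3 hb
          · exact hne _ h3 hc
  let π : (_root_.Matrix.SpecialLinearGroup (Fin 2) F × _root_.Matrix.SpecialLinearGroup (Fin 2) F × _root_.Matrix.SpecialLinearGroup (Fin 2) F) →* (ProjectiveSpecialLinearGroup (Fin 2) F × ProjectiveSpecialLinearGroup (Fin 2) F × ProjectiveSpecialLinearGroup (Fin 2) F) :=
    (QuotientGroup.mk' _).prodMap ((QuotientGroup.mk' _).prodMap (QuotientGroup.mk' _))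
  have hπ : Function.Surjective π := by
    rintro ⟨a, b, c⟩
    induction a using QuotientGroup.induction_on with
    | H a =>
      induction b using QuotientGroup.induction_on with
      | H b =>
        induction c using QuotientGroup.induction_on with
        | H c => exact ⟨(a, b, c), rfl⟩
  set! Y0 := A.comap (last3 f hcomm) with hY0
  have hidx : (Y0.map π).index ≤ Y0.index :=
    Nat.le_of_dvd (Nat.pos_of_ne_zero Subgroup.index_ne_zero_of_finite) (Subgroup.index_map_dvd Y0 hπ)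
  rw [relIndex_range]
  refine le_trans ?_ hidx
  -- the involutions
  have hinv : ∀ w ∈ Y0.map π, (w.1 = 1 ∨ w.2.1 = 1 ∨ w.2.2 = 1) → w * w = 1 → w = 1 := by
    rintro _ ⟨⟨a, b, c⟩, hA, rfl⟩ hw hww
    have e1 : (QuotientGroup.mk a : ProjectiveSpecialLinearGroup (Fin 2) F) * QuotientGroup.mk a = 1 := congrArg Prod.fst hww
    have e2 : (QuotientGroup.mk b : ProjectiveSpecialLinearGroup (Fin 2) F) * QuotientGroup.mk b = 1 := congrArg (fun x => x.2.1) hww
    have e3 : (QuotientGroup.mk c : ProjectiveSpecialLinearGroup (Fin 2) F) * QuotientGroup.mk c = 1 := congrArg (fun x => x.2.2) hww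
    obtain ⟨h3, h4, h5⟩ := kill a b c hA (mk_sq h2 e1) (mk_sq h2 e2) (mk_sq h2 e3)
      (hw.imp mk_one (fun h => h.imp mk_one mk_one))
    exact Prod.ext (one_mk h3) (Prod.ext (one_mk h4) (one_mk h5))
  have hodd : ∀ y ∈ Y0.map π, (y.1 = 1 ∨ y.2.1 = 1 ∨ y.2.2 = 1) → Odd (orderOf y) := by
    intro y hy h3
    apply odd_of
    intro n hn
    refine hinv _ ((Y0.map π).pow_mem hy n) ?_ hn
    rcases h3 with h3 | h3 | h3
    · left
      show y.1 ^ n = 1
      rw [h3, one_pow]
    · right; left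
      show y.2.1 ^ n = 1
      rw [h3, one_pow]
    · right; right
      show y.2.2 ^ n = 1
      rw [h3, one_pow]
  have hcard : Nat.card F + 1 ≤ Nat.card (ProjectiveSpecialLinearGroup (Fin 2) F) ∧ (Nat.card F + 1) ^ 3 ≤ Nat.card (ProjectiveSpecialLinearGroup (Fin 2) F) * Nat.card (ProjectiveSpecialLinearGroup (Fin 2) F) := by
    have h3 := H215.IFM.card_psl2 (F := F) h2
    rw [Nat.card_eq_fintype_card]
    have hF2 : 3 ≤ Fintype.card F := by
      have h4 : 1 < Fintype.card F := Fintype.one_lt_card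
      by_contra hcon
      have h5 : Fintype.card F = 2 := by omega
      apply h2
      have h6 := FiniteField.cast_card_eq_zero F
      rw [h5] at h6
      exact_mod_cast h6
    obtain ⟨r, hr⟩ : ∃ r, Fintype.card F = r + 3 := ⟨Fintype.card F - 3, by omega⟩
    have h4 : Fintype.card F ^ 2 - 1 = (r + 2) * (r + 4) := by
      rw [hr]
      have : (r + 3) ^ 2 = (r + 2) * (r + 4) + 1 := by ring
      omega
    rw [h4, hr] at h3
    rw [hr]
    have h5 : 2 * (r + 4) ≤ 2 * Nat.card (ProjectiveSpecialLinearGroup (Fin 2) F) := by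
      rw [h3]
      nlinarith only [h4]
    refine ⟨by omega, ?_⟩
    have h6 : 4 * (r + 3 + 1) ^ 3 ≤ (2 * Nat.card (ProjectiveSpecialLinearGroup (Fin 2) F)) * (2 * Nat.card (ProjectiveSpecialLinearGroup (Fin 2) F)) := by
      rw [h3]
      have e : (r + 3) * ((r + 2) * (r + 4)) * ((r + 3) * ((r + 2) * (r + 4))) =
          (r + 4) ^ 2 * ((r + 3) * (r + 2)) ^ 2 := by ring
      have e' : 4 * (r + 3 + 1) ^ 3 = (r + 4) ^ 2 * (4 * (r + 4)) := by ring
      rw [e, e']
      refine Nat.mul_le_mul_left _ ?_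
      nlinarith only [h3, _root_.sq_nonneg (↑r + 4 : ℤ)]
    linarith only [h6]
  rw [Nat.card_eq_fintype_card] at hcard
  have hO := H94.IF.oddIdx_psl (F := F) h2
  rw [Nat.card_eq_fintype_card] at hO
  rcases H94.IF.kThree hO hO hO hcard.1 hcard.1 hcard.1 (Y := Y0.map π)
      (fun y hy h => hodd y hy (Or.inr (Or.inr h))) (fun y hy h => hodd y hy (Or.inr (Or.inl h)))
      (fun y hy h => hodd y hy (Or.inl h)) with h3 | h3
  · exact h3
  · exact hcard.2.trans h3

end k3

section main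

variable {F : Type*} [Field F] [Fintype F] {T : Type*} [Group T] [Finite T] {A : Subgroup T}

/-- an element of order four -/
theorem exists_four : ∃ s : _root_.Matrix.SpecialLinearGroup (Fin 2) F, s * s = -1 := by
  refine ⟨⟨!![0, 1; -1, 0], by simp [Matrix.det_fin_two]⟩, ?_⟩
  apply Subtype.ext
  show (!![0, 1; -1, 0] : Matrix (Fin 2) (Fin 2) F) * !![0, 1; -1, 0] = -1
  ext i j
  (revert i j; simp only [Matrix.mul_apply, Fin.sum_univ_two, _root_.Fin.forall_fin_succ, _root_.Matrix.of_apply, _root_.Matrix.cons_val', _root_.Matrix.cons_val_fin_one, Fin.isValue, _root_.Matrix.cons_val_zero, _root_.Matrix.cons_val_one, _root_.Matrix.neg_apply, _root_.MulZeroClass.mul_zero, _root_.mul_neg, _root_.mul_one, _root_.zero_add, _root_.neg_inj, _root_.Matrix.cons_val_succ, _root_.add_zero, _root_.IsEmpty.forall_iff, _root_.and_true, _root_.Matrix.one_apply_eq, Nat.reduceAdd, _root_.Fin.succ_zero_eq_one, _root_.ne_eq, _root_.zero_ne_one, _root_.not_false_eq_true,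 _root_.Matrix.one_apply_ne, _root_.neg_zero, _root_.and_self, _root_.Fin.succ_ne_zero, _root_.true_and])

/-- permuting the factors -/
theorem swap_comm (f : Fin 4 → (_root_.Matrix.SpecialLinearGroup (Fin 2) F →* T))
    (hcomm : ∀ i j, i ≠ j → ∀ s t, Commute (f i s) (f j t)) (a : Fin 4) :
    ∀ i j, i ≠ j → ∀ s t, Commute (f (Equiv.swap 0 a i) s) (f (Equiv.swap 0 a j) t) := fun i j hij s t =>
  hcomm _ _ (fun h => hij ((Equiv.swap 0 a).injective h)) s t

theorem swap_iSup (f : Fin 4 → (_root_.Matrix.SpecialLinearGroup (Fin 2) F →* T)) (a : Fin 4) :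
    (⨆ i, (f (Equiv.swap 0 a i)).range) = ⨆ i, (f i).range :=
  (Equiv.swap 0 a).iSup_comp (g := fun i => (f i).range)

theorem last3_le (f : Fin 4 → (_root_.Matrix.SpecialLinearGroup (Fin 2) F →* T))
    (hcomm : ∀ i j, i ≠ j → ∀ s t, Commute (f i s) (f j t)) :
    A.relIndex (last3 f hcomm).range ≤ A.relIndex (⨆ i, (f i).range) := by
  rw [← range_sup f hcomm]
  exact relIndex_le_of_le_right le_sup_right Subgroup.index_ne_zero_of_finite

/-- `(q + 1)^3` -/
theorem k3' (f : Fin 4 → (_root_.Matrix.SpecialLinearGroup (Fin 2) F →* T))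
    (hcomm : ∀ i j, i ≠ j → ∀ s t, Commute (f i s) (f j t)) (h2 : (2 : F) ≠ 0) {z : T} (hz : z ∈ A)
    (hneg : ∀ i, f i (-1) = z)
    (hsup : ∀ i j, i ≠ j → ∀ s t : _root_.Matrix.SpecialLinearGroup (Fin 2) F, s * s = -1 → t * t = -1 → f i s * f j t ∉ A)
    (a : Fin 4) (hno : ∀ i, i ≠ a → ∀ s : _root_.Matrix.SpecialLinearGroup (Fin 2) F, s * s = -1 → f i s ∉ A) :
    (Fintype.card F + 1) ^ 3 ≤ A.relIndex (last3 (fun i => f (Equiv.swap 0 a i)) (swap_comm f hcomm a)).range := by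
  refine k3 _ (swap_comm f hcomm a) h2 hz (fun i => hneg _) (fun i j hij => hsup _ _
    (fun h => hij ((Equiv.swap 0 a).injective h))) ?_
  intro i hi
  apply hno
  intro h
  apply hi
  apply (Equiv.swap 0 a).injective
  rw [h, Equiv.swap_apply_left]

variable {Γ : Subgroup (MulAut T)}

/-- **The case of a fundamental involution in `POmega_8^+(q)`, `q` odd.** -/
theorem eight_plus [IsSimpleGroup T] (h : IF A Γ) (hna : ∃ a b : T, a * b ≠ b * a) (hodd : Odd (Fintype.card F))
    (f : Fin 4 → (_root_.Matrix.SpecialLinearGroup (Fin 2) F →* T)) (hcomm : ∀ i j, i ≠ j → ∀ s t, Commute (f i s) (f j t))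
    {z : T} (hz : z ∈ A) (hz2 : orderOf z = 2) (hneg : ∀ i, f i (-1) = z)
    (hsup : ∀ i j, i ≠ j → ∀ s t : _root_.Matrix.SpecialLinearGroup (Fin 2) F, s * s = -1 → t * t = -1 → f i s * f j t ∉ A)
    (hcl : ∀ t ∈ A, orderOf t = 2 → ∃ x : T, x * z * x⁻¹ = t)
    (hc : ∀ i, ∀ t ∈ A, orderOf t = 2 → (∀ a, f i a * t = t * f i a) → t = z)
    (hN : 4 * (centralizer ({z} : Set T)).index ≤
      Fintype.card F ^ 8 * (Fintype.card F ^ 2 + 1) ^ 2 * (Fintype.card F ^ 4 + Fintype.card F ^ 2 + 1)) : False := by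
  have h2 := H215.IFM.two_ne hodd
  have hK : (⨆ i, (f i).range) ≤ centralizer ({z} : Set T) := by
    refine iSup_le ?_
    rintro i _ ⟨s, rfl⟩
    rw [mem_centralizer_singleton_iff]
    obtain ⟨j, hj⟩ : ∃ j : Fin 4, i ≠ j := by
      fin_cases i
      · exact ⟨1, by decide⟩
      · exact ⟨0, by decide⟩
      · exact ⟨0, by decide⟩
      · exact ⟨0, by decide⟩
    rw [← hneg j]
    exact (hcomm i j hj s (-1)).eq
  have hcard := H215.IFM.card_invol h hna hz hz2 hK
  set S : Set T := {t : T | t ∈ A ∧ ∃ x : T, x * z * x⁻¹ = t} with hS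
  have hS2 : ∀ t ∈ S, orderOf t = 2 := by
    rintro _ ⟨-, x, rfl⟩
    have h1 : x * z * x⁻¹ = MulAut.conj x z := (MulAut.conj_apply x z).symm
    rw [h1, MulEquiv.orderOf_eq, hz2]
  have hSpos : 0 < S.ncard := (Set.ncard_pos (Set.toFinite _)).2 ⟨z, hz, 1, by simp⟩
  obtain ⟨k, hk⟩ := hodd
  have hk1 : 1 ≤ k := by
    have : 2 ≤ Fintype.card F := Fintype.one_lt_card
    omega
  have hN' : (centralizer ({z} : Set T)).index ≤ 4 * ((2 * k + 1) ^ 12 * (k + 1) ^ 4) := by
    have h3 := ar0 k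
    rw [hk] at hN
    omega
  have hlow : ∀ b, b ≤ A.relIndex (⨆ i, (f i).range) → b ^ 5 < (centralizer ({z} : Set T)).index := by
    intro b hb
    have h3 : b ^ 5 ≤ A.relIndex (⨆ i, (f i).range) ^ 5 * S.ncard :=
      (Nat.pow_le_pow_left hb 5).trans (Nat.le_mul_of_pos_right _ hSpos)
    omega
  obtain ⟨J, hJ⟩ := exists_four (F := F)
  -- the factor with elements of order 4
  have hex : ∃ a : Fin 4, ∀ i, i ≠ a → ∀ s : _root_.Matrix.SpecialLinearGroup (Fin 2) F, s * s = -1 → f i s ∉ A := by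
    by_cases h3 : ∃ (a : Fin 4) (s : _root_.Matrix.SpecialLinearGroup (Fin 2) F), s * s = -1 ∧ f a s ∈ A
    · obtain ⟨a, s, hs, hsA⟩ := h3
      refine ⟨a, fun i hi t ht htA => ?_⟩
      exact hsup a i hi.symm s t hs ht (A.mul_mem hsA htA)
    · push Not at h3
      exact ⟨0, fun i _ s hs => h3 i s hs⟩
  have h3all : (Fintype.card F + 1) ^ 3 ≤ A.relIndex (⨆ i, (f i).range) := by
    obtain ⟨a, ha⟩ := hex
    have h4 := k3' f hcomm h2 hz hneg hsup a ha
    have h5 := last3_le (A := A) (fun i => f (Equiv.swap 0 a i)) (swap_comm f hcomm a)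
    rw [swap_iSup] at h5
    exact h4.trans h5
  by_cases hk2 : k = 1
  · subst hk2
    rw [hk] at h3all hN
    have h4 := hlow _ h3all
    norm_num at h4 hN
    omega
  have hkk : 2 ≤ k := by omega
  have h5 : 5 ≤ Fintype.card F := by omega
  have hodd' : Odd (Fintype.card F) := ⟨k, hk⟩
  have hq := H16.BR.quasi_sl_two (F := F) (by omega)
  have hmin : MinIx (_root_.Matrix.SpecialLinearGroup (Fin 2) F) (k + 1) := by
    intro R hR
    have := H215.IFM.min_sl2 h5 hodd' hR
    omega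
  have hnorm : ∀ N : Subgroup (_root_.Matrix.SpecialLinearGroup (Fin 2) F), N.Normal → N = ⊤ ∨ N ≤ center _ :=
    fun N hN => SignalizersComponents.Components.quasisimple_normal hq N hN
  have hM : (2 * k + 1) * (2 * (k * (k + 1))) ≤ (center (_root_.Matrix.SpecialLinearGroup (Fin 2) F)).index := by
    have h6 := H215.IFM.card_psl2 (F := F) h2
    have h7 : Nat.card (ProjectiveSpecialLinearGroup (Fin 2) F) = (center (_root_.Matrix.SpecialLinearGroup (Fin 2) F)).index := rfl
    have h8 : (2 * k + 1) ^ 2 - 1 = 4 * (k * (k + 1)) := by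
      have : (2 * k + 1) ^ 2 = 4 * (k * (k + 1)) + 1 := by ring
      omega
    rw [h7, hk, h8] at h6
    have h9 : (2 * k + 1) * (4 * (k * (k + 1))) = 2 * ((2 * k + 1) * (2 * (k * (k + 1)))) := by ring
    omega
  have hperf : _root_.commutator (_root_.Matrix.SpecialLinearGroup (Fin 2) F) = ⊤ := hq.1.commutator_eq_top
  -- one of the factors is in `A`
  have hone : ∃ a : Fin 4, ∀ s, f a s ∈ A := by
    by_contra hcon
    push Not at hcon
    have hne : ∀ i, A.comap (f i) ≠ ⊤ := by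
      intro i hi
      obtain ⟨s, hs⟩ := hcon i
      apply hs
      have : s ∈ A.comap (f i) := by rw [hi]; trivial
      exact this
    obtain ⟨a, ha⟩ := hex
    have h4 := k3' f hcomm h2 hz hneg hsup a ha
    set! f' : Fin 4 → (_root_.Matrix.SpecialLinearGroup (Fin 2) F →* T) := fun i => f (Equiv.swap 0 a i) with hf'
    by_cases h6 : ∀ s : _root_.Matrix.SpecialLinearGroup (Fin 2) F, ∃ x, f' 0 s * last3 f' (swap_comm f hcomm a) x ∈ A
    · have h7 := step A f' (swap_comm f hcomm a) hperf hnorm hM hmin (fun i => hne _) h6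
      rw [swap_iSup] at h7
      have h8 := hlow _ h7
      have h9 := ar2 hkk
      omega
    · push Not at h6
      have h7 := step' A f' (swap_comm f hcomm a) hmin h6
      rw [swap_iSup] at h7
      have h8 := hlow ((k + 1) * (2 * k + 2) ^ 3) (by
        refine le_trans (Nat.mul_le_mul_left _ ?_) h7
        rw [hk] at h4
        exact h4)
      have h9 := ar3 k
      omega
  obtain ⟨a, ha⟩ := hone
  have hSm : S.ncard < k + 1 := by
    by_contra hcon
    push Not at hcon
    have h6 : ((2 * k + 2) ^ 3) ^ 5 * (k + 1) ≤ A.relIndex (⨆ i, (f i).range) ^ 5 * S.ncard := by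
      refine Nat.mul_le_mul (Nat.pow_le_pow_left ?_ 5) hcon
      rw [hk] at h3all
      exact h3all
    have h7 := ar4 k
    omega
  have hconj : ∀ g ∈ A, ∀ t ∈ S, g * t * g⁻¹ ∈ S := by
    rintro g hg _ ⟨ht, x, rfl⟩
    refine ⟨A.mul_mem (A.mul_mem hg ht) (A.inv_mem hg), g * x, ?_⟩
    group
  have h8 := H215.IFM.orbit_triv (f a) hmin S hSm (fun t ht s => hconj _ (ha s) t ht)
  have h9 : centralizer ({z} : Set T) ≤ A := H215.IFM.cent_le h hz hz2 fun t ht ht2 =>
    hc a t ht ht2 fun s => h8 t ⟨ht, hcl t ht ht2⟩ s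
  exact hsup 0 1 (by decide) J J hJ hJ (h9 (hK ((⨆ i, (f i).range).mul_mem
    (le_iSup (fun i => (f i).range) 0 ⟨J, rfl⟩) (le_iSup (fun i => (f i).range) 1 ⟨J, rfl⟩))))

end main

end Cfsg.Agent.H709.IF
end

-- part: H94/IF/Plus
section
/-!
# S5719: the cells `plus_mid` (helper94)
-/

set_option autoImplicit false

namespace Cfsg.Agent.H94.IF

open Cfsg Cfsg.Agent.H209.Fxy

/-- **the cells `plus_mid`** -/
theorem plus_mid (F : Type) [Field F] [Fintype F] (m : ℕ) (ho : Odd (Fintype.card F)) (h4m : 4 ≤ m) (hm7 : m ≤ 7)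
    (hs : IsSimpleGroup (POmega F (quadFormPlus m F))) : KillE (POmega F (quadFormPlus m F)) :=
  plus_mid_of_eight (fun F T _ _ _ _ _ hodd => fun h hna f hcomm z hz hz2 hneg hsup hcl hc hN =>
    Cfsg.Agent.H709.IF.eight_plus h hna hodd f hcomm hz hz2 hneg hsup hcl hc hN) F m ho h4m hm7 hs

end Cfsg.Agent.H94.IF
end

private theorem dce_894cfa399ea7 : _root_.True := by
  try have : _root_.True := by simp only [_root_.Cfsg.Agent.H601.OTri.Vm.eq_1]
  try have : _root_.True := by simp only [_root_.Cfsg.Agent.H709.IF.last3.congr_simp]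
  try have : _root_.True := by simp only [_root_.Cfsg.Agent.H709.IF.last3.eq_1]
  exact _root_.True.intro
end

-- part: H460/IFO/E6Std_mg
section
prune_inst 0x16000601840020000000580712020045c00042000600c008c4202400a00a30200800940040011120228208100000020025400c00040000004000000000100000028000090480000800010000084000000000000000000000000000000000004000000000
set_option linter.all false
open scoped Cfsg.Agent.FastGrp

-- part: H460/IFO/StGG
section
/-!
# The Steinberg character of the group generated by the root groups (helper460, S5719)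

`exists_st` : the group `G1 cs h X` generated by the root groups of a root group datum has a real irreducible character of
degree `|U|`; `gen_p` : it is generated by elements of `p`-power order.
-/

set_option autoImplicit false
set_option linter.unusedSectionVars false

namespace Cfsg.Agent.H460.IFO

open Subgroup Cfsg CoxeterSystem Cfsg.Agent.ChevalleyStructure.CoxeterGeom Cfsg.Agent.Tits.Roots Cfsg.Agent.Tits.Core
  Cfsg.Agent.Tits.Exchange Cfsg.Agent.Nodes.Reps Cfsg.Agent.Nodes.BNOf Cfsg.Agent.Nodes.Bruhat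
  Cfsg.Agent.Nodes.RGDLib Cfsg.Agent.H958.TS.RgdSub
open scoped ComplexConjugate

variable {I W Y : Type*} [Fintype I] [DecidableEq I] [Group W] [Group Y] {M : CoxeterMatrix I}
  {cs : CoxeterSystem M W} {A : I → I → ℤ} {h : IsCartan M A} {p : ℕ} {T : Subgroup Y} {n : I → Y}
  {X : (I → ℤ) → Subgroup Y}

/-- **The Steinberg character.** -/
theorem exists_st [Finite W] [Finite Y] (R : RGD cs h p T n X) :
    ∃ χ : ↥(G1 cs h X) → ℂ, IsIrrCharacter ↥(G1 cs h X) χ ∧ (∀ g, conj (χ g) = χ g) ∧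
      χ 1 = (Nat.card ↥(RGD.Sup X (RGD.Pos cs h)) : ℕ) := by
  classical
  obtain ⟨m, R1⟩ := exists_inner R
  obtain ⟨h1, h2⟩ := Cfsg.Agent.H167.AltRGD.exists_char_alt R1 (top_le_iff.1 (G1_inner.ge.trans (rgd_G1_le R1)))
  refine ⟨_, h1, fun g => ?_, ?_⟩
  · rw [map_sum]
    refine Finset.sum_congr rfl fun K _ => ?_
    rw [map_mul, map_pow, map_neg, map_one]
    congr 1
    unfold fixedPointCharacter
    exact map_natCast _ _
  · rw [h2 1 (one_mem _)]
    congr 1
    have h3 : RGD.Sup (fun x => (X x).subgroupOf (G1 cs h X)) (RGD.Pos cs h) =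
        (RGD.Sup X (RGD.Pos cs h)).subgroupOf (G1 cs h X) := by
      unfold RGD.Sup
      rw [iSup_subgroupOf]
      rintro ⟨x, hx⟩
      exact X_le_G1 hx.1
    have h4 : RGD.Sup X (RGD.Pos cs h) ≤ G1 cs h X := RGD.Sup_le fun x hx => X_le_G1 hx.1
    have h5 : Nat.card ↥(RGD.Sup X (RGD.Pos cs h)) =
        Nat.card ↥(RGD.Sup (fun x => (X x).subgroupOf (G1 cs h X)) (RGD.Pos cs h)) := by
      rw [h3]
      exact Nat.card_congr (subgroupOfEquivOfLe h4).symm.toEquiv
    rw [h5]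
    refine Nat.card_congr (Equiv.subtypeUnivEquiv fun v => ?_)
    rw [mul_one, inv_mul_cancel]
    exact one_mem _

/-- every root group is a `p`-group -/
theorem isPGroup_X [Finite W] (R : RGD cs h p T n X) {x : I → ℤ} (hx : IsRoot cs h x) : IsPGroup p ↥(X x) := by
  obtain ⟨w, i, rfl⟩ := hx
  obtain ⟨g, hg⟩ := exists_rp cs R.nsys w
  rw [← R.conj_rp hg (isRoot_sr cs h i)]
  exact (R.pgrp i).map _

/-- the group is generated by its elements of `p`-power order -/
theorem gen_p [Finite W] (R : RGD cs h p T n X) :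
    closure {k : ↥(G1 cs h X) | ∃ m, k ^ p ^ m = 1} = ⊤ := by
  rw [eq_top_iff]
  have h1 : G1 cs h X ≤ (closure {k : ↥(G1 cs h X) | ∃ m, k ^ p ^ m = 1}).map (G1 cs h X).subtype := by
    refine RGD.Sup_le fun x hx y hy => ?_
    obtain ⟨m, hm⟩ := isPGroup_X R hx ⟨y, hy⟩
    refine ⟨⟨y, X_le_G1 hx hy⟩, subset_closure ⟨m, ?_⟩, rfl⟩
    have h2 : y ^ p ^ m = 1 := by
      have h3 := congrArg (Subtype.val : ↥(X x) → Y) hm
      rwa [SubgroupClass.coe_pow] at h3
    apply Subtype.ext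
    rw [SubgroupClass.coe_pow]
    exact h2
  intro y _
  obtain ⟨z, hz, e⟩ := h1 y.2
  have : z = y := Subtype.ext e
  rwa [← this]

end Cfsg.Agent.H460.IFO
end

-- part: H460/IFO/SixLevi
section
/-!
# The `C₃` Levi subgroup of `F₄(F) = ²E₆(F, 1)` (helper460, S5719)

`K = G1` of the nodes `{p₄}`, `{p₃, p₅}`, `{p₁, p₆}` of `twistedE6 F 1`, the group `Sp₆(F)` in `E₆(F)`, centralised by the graph
automorphism and by the diagonal automorphisms which are trivial on `p₁, p₃, p₄, p₅, p₆`.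
-/

set_option autoImplicit false
set_option linter.unusedSectionVars false

namespace Cfsg.Agent.H460.IFO.Six

open Subgroup Cfsg CoxeterSystem Cfsg.Lie Cfsg.Lie.ChevalleyDatum
open Cfsg.Agent.ChevalleyStructure Cfsg.Agent.ChevalleyStructure.Elts Cfsg.Agent.ChevalleyStructure.CoxeterGeom
  Cfsg.Agent.ChevalleyStructure.GraphSymm Cfsg.Agent.ChevalleyStructure.TwistedU
open Cfsg.Agent.Tits.Roots Cfsg.Agent.Tits.Core Cfsg.Agent.Nodes.BNOf Cfsg.Agent.Nodes.RGDTwGen
  Cfsg.Agent.Nodes.RGDChev Cfsg.Agent.Nodes.RGDFold Cfsg.Agent.Nodes.RGDLib Cfsg.Agent.Nodes.Sub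
open Cfsg.Agent.Nodes.RGDTwE6 (J A isCartan hp X T nn foldData foldGrp)
open Cfsg.Agent.ChevalleyStructure.TwE6Basic (sg fix mem_fix twisted_le_fix hE6)
open Cfsg.Agent.H79.OutChev Cfsg.Agent.H79.SimpleGen
open Cfsg.Agent.H70.ChevDiag Cfsg.Agent.H70.RootCoeffTab
open Cfsg.Agent.Nodes.Comb Cfsg.Agent.Nodes.Reps Cfsg.Agent.Nodes.SubComb
open scoped ComplexConjugate

universe u

/-! ### the diagonal automorphisms -/

/-- the root coefficients -/
def mE (r i : ℕ) : ℤ := (dig ME6 6 r i : ℤ) - 8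

theorem rootCoeff_mE : RootCoeff chevE6 mE :=
  rootCoeff_of_chk (M := ME6) (by decide +kernel) (by decide +kernel) (by (delta Cfsg.Agent.H70.RootCoeffTab.chkNeg; rewrite [Cfsg.Agent.ChevFast.E6.neg]; decide +kernel))

theorem root0 : ∀ k < 72, V chevE6 J k 0 = 0 → mE k 1 = 0 := by decide +kernel

variable {F : Type u} [Field F]

theorem chi_one {c : Fin 6 → Fˣ} (hc : ∀ i : Fin 6, (i : ℕ) ≠ 1 → c i = 1) {r : ℕ} (hr : mE r 1 = 0) :
    chi 6 mE c r = 1 := by
  unfold chi
  refine Finset.prod_eq_one fun i _ => ?_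
  by_cases hi : (i : ℕ) = 1
  · rw [hi, hr, zpow_zero]
  · rw [hc i hi, one_zpow]



/-- the root groups with trivial first coordinate commute with the diagonal element -/
theorem R_le {c : Fin 6 → Fˣ} (hc : ∀ i : Fin 6, (i : ℕ) ≠ 1 → c i = 1) {σ : GL chevE6.Idx F →* GL chevE6.Idx F}
    {z : Fin 4 → ℤ} (hz : z 0 = 0) :
    R chevE6 hp F J σ z ≤ centralizer {dG chevE6 (chi 6 mE c)} := by
  refine inf_le_left.trans (rspan_le _ ?_)
  rintro r ⟨hr, hV⟩ t
  have h1 : chi 6 mE c r = 1 := chi_one hc (root0 r hr (by rw [hV, hz]))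
  rw [mem_centralizer_singleton_iff]
  have h2 := dG_conj hE6 (isMul_chi hE6 rootCoeff_mE c) r t
  rw [show (chi chevE6.rank mE c r : Fˣ) = 1 from h1, Units.val_one, one_mul, mul_inv_eq_iff_eq_mul] at h2
  exact h2.symm

/-! ### the group -/

theorem hid (x : F) : (RingHom.id F) x = x ^ 1 := (pow_one x).symm

theorem hqq (t : F) : (t ^ 1) ^ 1 = t := by rw [pow_one, pow_one]

/-- the nodes -/
def f3 : Fin 3 ↪ Fin 4 := ⟨Fin.succ, Fin.succ_injective 3⟩

/-- the Coxeter system of the Levi subgroup -/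
abbrev cs3 : CoxeterSystem (leviMatrix f3 CoxeterMatrix.F₄) (leviMatrix f3 CoxeterMatrix.F₄).Group :=
  (leviMatrix f3 CoxeterMatrix.F₄).toCoxeterSystem

theorem finite4 : Finite CoxeterMatrix.F₄.Group :=
  finite_W (hp := hp) CoxeterMatrix.F₄.toCoxeterSystem isCartan foldData

theorem finite3 : Finite (leviMatrix f3 CoxeterMatrix.F₄).Group := by
  have := finite4
  exact (levi_subSys (cs := CoxeterMatrix.F₄.toCoxeterSystem) (h := isCartan) f3).finite cs3
    (levi_isCartan f3 isCartan)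

variable (F)

/-- the root groups of `F₄(F)` -/
noncomputable abbrev X4 (z : Fin 4 → ℤ) : Subgroup (GL chevE6.Idx F) := R chevE6 hp F J (sg (RingHom.id F)) z

/-- the root groups of the Levi subgroup -/
noncomputable abbrev X3 (z : Fin 3 → ℤ) : Subgroup (GL chevE6.Idx F) := X4 F (iota (fun j => sr (f3 j)) z)

/-- **The group `Sp₆(F)`.** -/
noncomputable def KK : Subgroup (GL chevE6.Idx F) := G1 cs3 (levi_isCartan f3 isCartan) (X3 F)

variable {F}

section Fin

variable [Fintype F] (p : ℕ) [Fact p.Prime] [CharP F p]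

theorem rgd4 : RGD CoxeterMatrix.F₄.toCoxeterSystem isCartan p (chevE6.diagonalSubgroup F ⊓ twistedE6 F 1)
    (fun i => nI hp F (J i)) (X4 F) :=
  rgd_GL _ isCartan foldData (foldGrp hid hqq) p

theorem rgd3 : RGD cs3 (levi_isCartan f3 isCartan) p (chevE6.diagonalSubgroup F ⊓ twistedE6 F 1)
    (fun i => nI hp F (J (f3 i))) (X3 F) := by
  have := finite4
  exact rgd_levi (rgd4 p) f3 cs3

theorem root_iota {z : Fin 3 → ℤ} (hz : IsRoot cs3 (levi_isCartan f3 isCartan) z) :
    IsRoot CoxeterMatrix.F₄.toCoxeterSystem isCartan (iota (fun j => sr (f3 j)) z) := by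
  have := finite4
  exact (levi_subSys (cs := CoxeterMatrix.F₄.toCoxeterSystem) (h := isCartan) f3).isRoot_iota hz

theorem KK_le : KK F ≤ twistedE6 F 1 := by
  obtain ⟨p, hp1⟩ := CharP.exists F
  have : Fact p.Prime := ⟨CharP.char_is_prime F p⟩
  refine RGD.Sup_le fun z hz => ?_
  exact Cfsg.Agent.Nodes.RGDFold.R_le _ isCartan foldData (foldGrp hid hqq) p (root_iota hz)

theorem KK_le_group : KK F ≤ chevE6.group F := KK_le.trans (Cfsg.Agent.BpExc.FamTw.Six.twisted_le_group 1)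

theorem KK_le_cent {c : Fin 6 → Fˣ} (hc : ∀ i : Fin 6, (i : ℕ) ≠ 1 → c i = 1) :
    KK F ≤ centralizer {dG chevE6 (chi 6 mE c)} := by
  refine RGD.Sup_le fun z hz => Six.R_le hc ?_
  exact iota_levi_apply_ne f3 z fun j => Fin.succ_ne_zero j

/-! ### orders -/

theorem card_sr (i : Fin 4) : Nat.card F ≤ Nat.card ↥(X4 F (sr i)) := by
  have hX : X4 F (sr i) = Cfsg.Agent.ChevalleyStructure.TwE6BN.rs F
      (Cfsg.Agent.ChevalleyStructure.TwE6Basic.posE i) ⊓ fix (RingHom.id F) :=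
    Cfsg.Agent.Nodes.RGDTwE6.R_pos (RingHom.id F) i
  rcases Cfsg.Agent.ChevalleyStructure.TwE6BN.classes.{u} i with ⟨j, C⟩ | ⟨j, j', C⟩
  · refine Nat.card_le_card_of_injective (fun t : F => (⟨Cfsg.Agent.ChevalleyStructure.TwE6Basic.x j t, ?_⟩ :
      ↥(X4 F (sr i)))) ?_
    · rw [hX]
      exact ⟨Cfsg.Agent.ChevalleyStructure.TwE6BN.x_mem_rs (by rw [C.pos]; simp) _,
        twisted_le_fix _ hid hqq (C.pos_mem_G (pow_one t))⟩
    · intro s t h
      exact Cfsg.Agent.ChevalleyStructure.TwE6Basic.x_injective C.lt (congrArg Subtype.val h)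
  · refine Nat.card_le_card_of_injective (fun t : F => (⟨Cfsg.Agent.ChevalleyStructure.TwE6Basic.x j t *
      Cfsg.Agent.ChevalleyStructure.TwE6Basic.x j' (t ^ 1), ?_⟩ : ↥(X4 F (sr i)))) ?_
    · rw [hX]
      exact ⟨mul_mem (Cfsg.Agent.ChevalleyStructure.TwE6BN.x_mem_rs (by rw [C.pos]; simp) _)
        (Cfsg.Agent.ChevalleyStructure.TwE6BN.x_mem_rs (by rw [C.pos]; simp) _),
        twisted_le_fix _ hid hqq (C.pos_mem_G t)⟩
    · intro s t h
      exact (C.x_pair_inj (congrArg Subtype.val h)).1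

theorem card_X3 {z : Fin 3 → ℤ} (hz : IsRoot cs3 (levi_isCartan f3 isCartan) z) :
    Nat.card F ≤ Nat.card ↥(X3 F z) := by
  obtain ⟨p, hp1⟩ := CharP.exists F
  have : Fact p.Prime := ⟨CharP.char_is_prime F p⟩
  have := finite4
  obtain ⟨w, i, e⟩ := root_iota hz
  show _ ≤ Nat.card ↥(X4 F (iota (fun j => sr (f3 j)) z))
  rw [e, Cfsg.Agent.Nodes.CardSup.card_X_rep (rgd4 p) w (isRoot_sr _ _ i)]
  exact card_sr i

/-- the positive roots -/
def L9 : List (Fin 3 → ℤ) := [![1, 0, 0], ![0, 1, 0], ![0, 0, 1], ![1, 1, 0], ![1, 2, 0], ![0, 1, 1], ![1, 1, 1],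
  ![1, 2, 1], ![1, 2, 2]]

theorem act3 {v : Fin 3 → ℤ} (hv : IsRoot cs3 (levi_isCartan f3 isCartan) v) (i : Fin 3) :
    IsRoot cs3 (levi_isCartan f3 isCartan) (v - pairing (fun j k => A (f3 j) (f3 k)) i v • sr i) := by
  have h1 := hv.act (cs3.simple i)
  rwa [rep_simple_eq] at h1

theorem isRoot9 : ∀ z ∈ L9, IsRoot cs3 (levi_isCartan f3 isCartan) z := by
  have r0 : IsRoot cs3 (levi_isCartan f3 isCartan) ![1, 0, 0] := by
    have := isRoot_sr cs3 (levi_isCartan f3 isCartan) 0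
    rwa [show (sr 0 : Fin 3 → ℤ) = ![1, 0, 0] by decide] at this
  have r1 : IsRoot cs3 (levi_isCartan f3 isCartan) ![0, 1, 0] := by
    have := isRoot_sr cs3 (levi_isCartan f3 isCartan) 1
    rwa [show (sr 1 : Fin 3 → ℤ) = ![0, 1, 0] by decide] at this
  have r2 : IsRoot cs3 (levi_isCartan f3 isCartan) ![0, 0, 1] := by
    have := isRoot_sr cs3 (levi_isCartan f3 isCartan) 2
    rwa [show (sr 2 : Fin 3 → ℤ) = ![0, 0, 1] by decide] at this
  have key : ∀ (v w : Fin 3 → ℤ) (i : Fin 3), IsRoot cs3 (levi_isCartan f3 isCartan) v →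
      v - pairing (fun j k => A (f3 j) (f3 k)) i v • sr i = w → IsRoot cs3 (levi_isCartan f3 isCartan) w := by
    rintro v w i hv rfl
    exact act3 hv i
  have r3 := key _ ![1, 1, 0] 0 r1 (by decide +kernel)
  have r4 := key _ ![1, 2, 0] 1 r0 (by decide +kernel)
  have r5 := key _ ![0, 1, 1] 1 r2 (by decide +kernel)
  have r6 := key _ ![1, 1, 1] 0 r5 (by decide +kernel)
  have r7 := key _ ![1, 2, 1] 1 r6 (by decide +kernel)
  have r8 := key _ ![1, 2, 2] 2 r4 (by decide +kernel)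
  intro z hz
  simp only [L9, List.mem_cons, List.not_mem_nil, or_false] at hz
  rcases hz with rfl | rfl | rfl | rfl | rfl | rfl | rfl | rfl | rfl <;> assumption

theorem pos9 : ∀ z ∈ L9, ∀ i, 0 ≤ z i := by decide +kernel

theorem nodup9 : L9.Nodup := by decide +kernel

/-- **The order of the unipotent group.** -/
theorem card_U3 : Nat.card F ^ 9 ≤ Nat.card ↥(RGD.Sup (X3 F) (RGD.Pos cs3 (levi_isCartan f3 isCartan))) := by
  classical
  obtain ⟨p, hp1⟩ := CharP.exists F
  have : Fact p.Prime := ⟨CharP.char_is_prime F p⟩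
  have := finite3
  have hfin : (RGD.Pos cs3 (levi_isCartan f3 isCartan)).Finite :=
    (RGD.finite_roots (cs := cs3) (h := levi_isCartan f3 isCartan)).subset fun _ hx => hx.1
  have h1 := Cfsg.Agent.Nodes.CardSup.card_sup (rgd3 (F := F) p) (s := hfin.toFinset) (by
    rw [Set.Finite.coe_toFinset]) (by
    rw [Set.Finite.coe_toFinset]
    exact Cfsg.Agent.Nodes.Unique.closed_pos)
  rw [Set.Finite.coe_toFinset] at h1
  rw [h1]
  have h2 : L9.toFinset ⊆ hfin.toFinset := by
    intro z hz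
    rw [List.mem_toFinset] at hz
    rw [Set.Finite.mem_toFinset]
    exact ⟨isRoot9 z hz, pos9 z hz⟩
  have h3 : L9.toFinset.card = 9 := by
    rw [List.toFinset_card_of_nodup nodup9]
    rfl
  have h4 : 9 ≤ hfin.toFinset.card := h3 ▸ Finset.card_le_card h2
  calc Nat.card F ^ 9 ≤ Nat.card F ^ hfin.toFinset.card := Nat.pow_le_pow_right Nat.card_pos h4
    _ = ∏ _z ∈ hfin.toFinset, Nat.card F := (Finset.prod_const _).symm
    _ ≤ _ := Finset.prod_le_prod' fun z hz => card_X3 ((Set.Finite.mem_toFinset hfin).1 hz).1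

end Fin

end Cfsg.Agent.H460.IFO.Six
end

-- part: H460/IFO/FixCard
section
/-!
# S5719, `|A|` odd: the second inequality (helper460)

`false_of_fix` : `σ ∈ Γ` an involution, `j : K → C_T(σ)` injective, all subgroups of odd order of `K` have index at least `m`,
`|C_T(σ)| ≥ c` and `|T| ≤ m ^ 5 c`: contradiction.
-/

set_option autoImplicit false
set_option linter.unusedSectionVars false

namespace Cfsg.Agent.H460.IFO

open Subgroup Cfsg Cfsg.Agent.H209.Fxy Cfsg.Agent.H999.IFB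

universe u v

variable {T : Type u} [Group T] {A : Subgroup T} {Γ : Subgroup (MulAut T)} {K : Type v} [Group K]

theorem lt_card_T [Finite T] (h : IF A Γ) {σ : MulAut T} (hσ : σ ∈ Γ) (h2 : orderOf σ = 2) :
    fx A σ ^ 5 * Nat.card {x : T // σ x = x} < Nat.card T := by
  have h1 := (IF.E2 h hσ h2).1
  have h3 : Nat.card {x : T // σ x = x} ≤
      Nat.card {z : T // (MulAut.conj z)⁻¹ * σ * MulAut.conj z = σ} := by
    refine Nat.card_le_card_of_injective (fun x => (⟨x.1, ?_⟩ :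
      {z : T // (MulAut.conj z)⁻¹ * σ * MulAut.conj z = σ})) (fun x y e => ?_)
    · rw [mul_assoc, inv_mul_eq_iff_eq_mul]
      ext y
      simp only [MulAut.mul_apply, MulAut.conj_apply, map_mul, map_inv, x.2]
    · exact Subtype.ext (congrArg
        (Subtype.val : {z : T // (MulAut.conj z)⁻¹ * σ * MulAut.conj z = σ} → T) e)
  have h4 : 0 < Nat.card {x : T // σ x = x} := by
    have : Nonempty {x : T // σ x = x} := ⟨⟨1, map_one σ⟩⟩
    exact Nat.card_pos
  rw [card_T (T := T) σ]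
  calc fx A σ ^ 5 * Nat.card {x : T // σ x = x} < (icl σ).ncard * Nat.card {x : T // σ x = x} :=
        Nat.mul_lt_mul_of_pos_right h1 h4
    _ ≤ _ := Nat.mul_le_mul_left _ h3

theorem index_le_fx [Finite T] (h : IF A Γ) {σ : MulAut T} (hσ : σ ∈ Γ) (h2 : orderOf σ = 2) (j : K →* T)
    (hj : ∀ k, σ (j k) = j k) : (A.comap j).index ≤ fx A σ := by
  rw [Subgroup.index_comap]
  refine (IF.E1 h hσ h2 ?_).1
  rintro _ ⟨k, rfl⟩
  exact hj k

/-- **The second inequality.** -/
theorem false_of_fix [Finite T] (h : IF A Γ) (hO : Odd (Nat.card A)) {σ : MulAut T} (hσ : σ ∈ Γ) (h2 : orderOf σ = 2)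
    {j : K →* T} (hi : Function.Injective j) (hj : ∀ k, σ (j k) = j k) {m c : ℕ}
    (hK : ∀ X : Subgroup K, Odd (Nat.card X) → m ≤ X.index) (hC : c ≤ Nat.card {x : T // σ x = x})
    (hT : Nat.card T ≤ m ^ 5 * c) : False := by
  have h1 := (hK _ (odd_comap hO hi)).trans (index_le_fx h hσ h2 j hj)
  have h3 := lt_card_T h hσ h2
  have h4 : m ^ 5 * c ≤ fx A σ ^ 5 * Nat.card {x : T // σ x = x} :=
    Nat.mul_le_mul (Nat.pow_le_pow_left h1 5) hC
  omega

end Cfsg.Agent.H460.IFO
end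

-- part: H977/IFO/FixGe
section
/-!
# A lower bound for the number of fixed points in a unipotent group (helper977)

`card_ge` : `σ` permutes the root subgroups (`σ x_r(t) = x_{ρ r}(c_r t)`), `R` a list of representatives of `ρ`-orbits,
`c_r = 1` for the fixed ones: `|K| ^ |R| ≤ |U ∩ Fix σ|`.
-/

set_option autoImplicit false

namespace Cfsg.Agent.H977.IFO

open Cfsg.Agent.ChevalleyStructure.TwistedU Cfsg.Agent.ChevalleyStructure.TwistedFix

variable {Γ ι K : Type*} [Group Γ] [Field K] [Finite K] {x : ι → K → Γ} [DecidableEq ι]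

theorem card_ge {L : List (List ι)} {σ : Γ →* Γ} {ρ : ι → ι} {c : ι → K}
    (S : Setup x L σ ρ ρ (fun r t => c r * t)) {R : List ι} (hnd : R.Nodup) (hRL : ∀ r ∈ R, r ∈ L.flatten)
    (hc : ∀ r ∈ L.flatten, c r * c (ρ r) = 1) (hR : ∀ r ∈ R, ρ r ∈ R → ρ r = r ∧ c r = 1) [Finite Γ] :
    Nat.card K ^ R.length ≤ Nat.card ↥(rspan x {k | k ∈ L.flatten} ⊓ fixS σ) := by
  classical
  rw [S.card_fix]
  have hfinT : Finite {t : ι → K // (∀ r, r ∉ L.flatten → t r = 0) ∧ ∀ r ∈ L.flatten, t (ρ r) = c r * t r} := by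
    have hinj : Function.Injective (fun t : {t : ι → K // (∀ r, r ∉ L.flatten → t r = 0) ∧
        ∀ r ∈ L.flatten, t (ρ r) = c r * t r} => fun r : {r // r ∈ L.flatten} => t.1 r.1) := by
      intro t t' h
      apply Subtype.ext
      funext r
      by_cases hr : r ∈ L.flatten
      · exact congrFun h ⟨r, hr⟩
      · rw [t.2.1 r hr, t'.2.1 r hr]
    have : Fintype {r // r ∈ L.flatten} := List.Subtype.fintype L.flatten
    exact Finite.of_injective _ hinj
  let T : ({r // r ∈ R} → K) → ι → K := fun a r =>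
    if h : r ∈ R then a ⟨r, h⟩ else if h : ρ r ∈ R then (if r ∈ L.flatten then c (ρ r) * a ⟨ρ r, h⟩ else 0) else 0
  have hT : ∀ a, (∀ r, r ∉ L.flatten → T a r = 0) ∧ ∀ r ∈ L.flatten, T a (ρ r) = c r * T a r := by
    intro a
    constructor
    · intro r hr
      have h1 : r ∉ R := fun h => hr (hRL r h)
      by_cases h2 : ρ r ∈ R
      · simp only [T]
        rw [dif_neg h1, dif_pos h2, if_neg hr]
      · simp only [T]
        rw [dif_neg h1, dif_neg h2]
    · intro r hr
      have hρρ : ρ (ρ r) = r := S.left_inv r hr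
      have hρL : ρ r ∈ L.flatten := S.mem_ρ hr
      by_cases h1 : r ∈ R
      · by_cases h2 : ρ r ∈ R
        · obtain ⟨h3, h4⟩ := hR r h1 h2
          rw [h3, h4, one_mul]
        · have h5 : ρ (ρ r) ∈ R := by rw [hρρ]; exact h1
          have h6 : T a (ρ r) = c (ρ (ρ r)) * a ⟨ρ (ρ r), h5⟩ := by
            simp only [T]
            rw [dif_neg h2, dif_pos h5, if_pos hρL]
          have h7 : T a r = a ⟨r, h1⟩ := by
            simp only [T]
            rw [dif_pos h1]
          rw [h6, h7]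
          congr 1
          · rw [hρρ]
          · congr 1
            exact Subtype.ext hρρ
      · by_cases h2 : ρ r ∈ R
        · have h6 : T a (ρ r) = a ⟨ρ r, h2⟩ := by
            simp only [T]
            rw [dif_pos h2]
          have h7 : T a r = c (ρ r) * a ⟨ρ r, h2⟩ := by
            simp only [T]
            rw [dif_neg h1, dif_pos h2, if_pos hr]
          rw [h6, h7, ← mul_assoc, hc r hr, one_mul]
        · have h5 : ρ (ρ r) ∉ R := by rw [hρρ]; exact h1
          have h6 : T a (ρ r) = 0 := by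
            simp only [T]
            rw [dif_neg h2, dif_neg h5]
          have h7 : T a r = 0 := by
            simp only [T]
            rw [dif_neg h1, dif_neg h2]
          rw [h6, h7, mul_zero]
  have hfinR : Fintype {r // r ∈ R} := List.Subtype.fintype R
  have hle := Nat.card_le_card_of_injective (fun a : {r // r ∈ R} → K => (⟨T a, hT a⟩ :
    {t : ι → K // (∀ r, r ∉ L.flatten → t r = 0) ∧ ∀ r ∈ L.flatten, t (ρ r) = c r * t r})) (by
    intro a b h
    funext r
    have h1 : T a r.1 = T b r.1 := congrFun (congrArg Subtype.val h) r.1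
    simp only [T] at h1
    rwa [dif_pos r.2, dif_pos r.2] at h1)
  rw [Nat.card_fun] at hle
  have e : Nat.card {r // r ∈ R} = R.length := by
    rw [Nat.card_congr (hnd.getEquiv R).symm, Nat.card_eq_fintype_card, Fintype.card_fin]
  rwa [e] at hle

end Cfsg.Agent.H977.IFO
end

-- part: H977/IFO/E6Card
section
/-!
# The centraliser of a standard graph involution of `E₆(q)`, `q` odd (helper977, for S5719)

`τ = d' · γ`, `γ` the standard graph automorphism, `d'` the diagonal automorphism with `c_{α₂} = ε`, `c_i = 1` otherwise,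
`ε² = 1`: `q ^ 33 ≤ |C(τ)|` (`card_std`).
-/

set_option autoImplicit false
set_option linter.unusedSectionVars false

namespace Cfsg.Agent.H977.IFO.E6Card

open Cfsg Cfsg.Lie
open Cfsg.Agent.ChevalleyStructure Cfsg.Agent.ChevalleyStructure.Elts
open Cfsg.Agent.ChevalleyStructure.GraphSymm
open Cfsg.Agent.ChevalleyStructure.TwistedU Cfsg.Agent.ChevalleyStructure.TwistedFix
open Cfsg.Agent.ChevalleyStructure.TwistedE6Sigma Cfsg.Agent.ChevalleyStructure.TwistedE6U
open Cfsg.Agent.H79.SimpleGen Cfsg.Agent.H79.OutChev Cfsg.Agent.H79.CharDiag Cfsg.Agent.H79.DiagAuts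
open Cfsg.Agent.BpExc.FamTw.Gr

universe u

/-- the parity of the coefficient of `α₂` -/
def par (r : ℕ) : Bool := decide (((chevE6.coroot.getD r #[]).getD 1 0) % 2 ≠ 0)

theorem par_neg : ∀ r < 72, par (chevE6.neg r) = par r := by (delta Cfsg.Agent.H977.IFO.E6Card.par; rewrite [Cfsg.Agent.ChevFast.E6.coroot, Cfsg.Agent.ChevFast.E6.neg]; decide +kernel)

theorem par_rho : ∀ r < 72, par (rho r) = par r := by (delta Cfsg.Agent.H977.IFO.E6Card.par; rewrite [Cfsg.Agent.ChevFast.E6.coroot]; decide +kernel)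

def chk (r s : ℕ) : Bool :=
  match chevE6.chainRoot r s 1 with
  | some k => par k == (par r ^^ par s)
  | none => true

theorem par_chk : ∀ r < 72, ∀ s < 72, chk r s = true := by (delta Cfsg.Agent.H977.IFO.E6Card.chk Cfsg.Agent.H977.IFO.E6Card.par Cfsg.Lie.ChevalleyDatum.chainRoot; rewrite [Cfsg.Agent.ChevFast.E6.chainEntry, Cfsg.Agent.ChevFast.E6.coroot]; open scoped Cfsg.Agent.ChevFast.Lin in decide +kernel)

theorem par_add {r s k : ℕ} (hr : r < 72) (hs : s < 72) (h : chevE6.chainRoot r s 1 = some k) :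
    par k = (par r ^^ par s) := by
  have h1 := par_chk r hr s hs
  unfold chk at h1
  rw [h] at h1
  exact eq_of_beq h1

theorem par_simple : ∀ i : Fin 6, par (chevE6.simple i) = decide (i = 1) := by decide +kernel

/-- the negative orbits -/
def L' : List (List ℕ) := L.map fun o => o.map fun r => 71 - r

theorem L'_lt : ∀ r ∈ L'.flatten, r < 72 := by decide

theorem L'_nodup : L'.flatten.Nodup := by decide

theorem L'_length : L'.flatten.length = 36 := by decide

theorem isNegRoot_iff_lt : ∀ r < 72, (chevE6.IsNegRoot r ↔ r ∈ L'.flatten) := by decide +kernel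

theorem goodCheck_L' : goodCheck L'.flatten = true := by (delta Cfsg.Agent.ChevalleyStructure.TwistedE6U.goodCheck Cfsg.Agent.ChevalleyStructure.TwistedE6U.goodCheck._f; rewrite [Cfsg.Agent.ChevFast.E6.commTerms, Cfsg.Agent.ChevFast.E6.neg]; decide +kernel)

theorem orbit_check' : ∀ o ∈ L', o.Pairwise fun r s =>
    s ≠ r ∧ s ≠ chevE6.neg r ∧ chevE6.commTerms r s = [] := by decide +kernel

/-- representatives -/
def R : List ℕ := [39, 44, 60, 71, 56, 42, 38, 40, 41, 48, 45, 49, 52, 54, 55, 66]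

def R' : List ℕ := R.map fun r => 71 - r

section Field

variable {F : Type u} [Field F] (ε : Fˣ)

/-- the character -/
def chi (r : ℕ) : Fˣ := if par r then ε else 1

variable {ε} (hε : ε * ε = 1)

include hε

theorem chi_sq (r : ℕ) : chi ε r * chi ε r = 1 := by
  unfold chi
  split_ifs
  · exact hε
  · exact mul_one 1

theorem chi_inv (r : ℕ) : (chi ε r)⁻¹ = chi ε r := inv_eq_of_mul_eq_one_left (chi_sq hε r)

theorem isChar : chevE6.IsRootCharacter (chi ε) := by
  constructor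
  · intro r hr
    rw [chi_inv hε]
    unfold chi
    rw [par_neg r hr]
  · intro r s k hr hs h
    unfold chi
    rw [par_add hr hs h]
    cases par r <;> cases par s <;> simp [hε]

omit hε in
theorem chi_simple (i : Fin 6) : chi ε (chevE6.simple i) = if i = 1 then ε else 1 := by
  unfold chi
  rw [par_simple]
  simp

/-- the coefficient of `τ` -/
def cc (ε : Fˣ) (r : ℕ) : F := (chi ε (rho r) : F) * ((eps r : ℤ) : F)

theorem cc_mul {r : ℕ} (hr : r < 72) : cc ε r * cc ε (rho r) = 1 := by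
  have h1 : (chi ε (rho r) : F) * (chi ε (rho r) : F) = 1 := by
    rw [← Units.val_mul, chi_sq hε, Units.val_one]
  have h2 : chi ε r = chi ε (rho r) := by
    unfold chi
    rw [par_rho r hr]
  have h3 : ((eps r : ℤ) : F) * ((eps r : ℤ) : F) = 1 := by
    rw [← Int.cast_mul, eps_sq r hr, Int.cast_one]
  unfold cc
  rw [rho_rho r hr, eps_rho r hr, h2]
  linear_combination ((eps r : ℤ) : F) * ((eps r : ℤ) : F) * h1 + h3

omit hε in
theorem cc_one {r : ℕ} (hr : r < 72) (h : rho r = r) (hp : par r = false) : cc ε r = 1 := by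
  unfold cc chi
  rw [h, hp, eps_of_rho_eq r hr h]
  simp

/-- `τ` on `GL` -/
noncomputable def sg (ε : Fˣ) : GL chevE6.Idx F →* GL chevE6.Idx F :=
  (MulAut.conj (hatG chevE6 (chi ε))).toMonoidHom.comp (sig symmE6 (RingHom.id F))

theorem sg_X {r : ℕ} (hr : r < 72) (t : F) : sg ε (X r t) = X (rho r) (cc ε r * t) := by
  have h1 : sig symmE6 (RingHom.id F) (X r t) = X (rho r) (((eps r : ℤ) : F) * t) := by
    rw [sig_X (RingHom.id F) hr t, RingHom.id_apply]
  show hatG chevE6 (chi ε) * sig symmE6 (RingHom.id F) (X r t) * (hatG chevE6 (chi ε))⁻¹ = _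
  rw [h1, hatG_conj_xG hE6 (isChar hε) (rho_lt r hr)]
  unfold cc
  rw [mul_assoc]

theorem d'_eq {d' : MulAut ↥(chevE6.group F)} (hd : IsD hE6 (fun i : Fin 6 => if i = 1 then ε else 1) d') :
    d' = diagAut hE6 (isChar hε) := by
  refine hd.unique ?_
  have h1 := isD_diagAut hE6 (isChar hε)
  have h2 : (fun i : Fin chevE6.rank => chi ε (chevE6.simple i)) = fun i : Fin 6 => if i = 1 then ε else 1 :=
    funext fun i => chi_simple i
  rwa [h2] at h1

theorem coe_tau {d' : MulAut ↥(chevE6.group F)} (hd : IsD hE6 (fun i : Fin 6 => if i = 1 then ε else 1) d')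
    (g : ↥(chevE6.group F)) :
    (((d' * gr hE6 symmE6 : MulAut ↥(chevE6.group F)) g : ↥(chevE6.group F)) : GL chevE6.Idx F) = sg ε g := by
  rw [MulAut.mul_apply, d'_eq hε hd, coe_diagAut, coe_gr]
  show _ = hatG chevE6 (chi ε) * sig symmE6 (RingHom.id F) (g : GL chevE6.Idx F) * (hatG chevE6 (chi ε))⁻¹
  have h1 : sig symmE6 (RingHom.id F) (g : GL chevE6.Idx F) = symmE6.P F * g * (symmE6.P F)⁻¹ := by
    show symmE6.P F * (Matrix.GeneralLinearGroup.map (RingHom.id F) (g : GL chevE6.Idx F)) * (symmE6.P F)⁻¹ = _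
    congr 2
  rw [h1]

theorem setup_pos [Fintype F] : Setup (X (K := F)) L (sg ε) rho rho (fun r t => cc ε r * t) where
  hadd := X_add
  nodup := L_nodup
  good := good_L
  inj := lprod_inj
  hσ r hr t := sg_X hε (L_lt r hr) t
  perm := by decide
  comm o ho := orbit_commute ho
  left_inv r hr := rho_rho r (L_lt r hr)

omit hε in
theorem neg_eq : chevE6.negUnipotent F = rspan (X (K := F)) {k | k ∈ L'.flatten} := by
  apply le_antisymm
  · rw [Elts.negUnipotent_le_iff hE6]
    intro r hr t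
    exact mem_rspan (X (K := F)) (S := {k | k ∈ L'.flatten}) ((isNegRoot_iff_lt r hr.1).1 hr) t
  · refine rspan_le _ fun r hr t => ?_
    exact Elts.xG_mem_negUnipotent hE6 ((isNegRoot_iff_lt r (L'_lt r hr)).2 hr) t

omit hε in
theorem card_neg [Fintype F] : Nat.card (chevE6.negUnipotent F) = Nat.card F ^ 36 := by
  obtain ⟨n, -, hn⟩ := Cfsg.Agent.S1053.result (F := F) chevE6 hE6
  rw [← hn]
  have h1 : Nat.card ((chevE6.posUnipotent F).map (MulAut.conj n).toMonoidHom) = Nat.card (chevE6.posUnipotent F) :=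
    (Nat.card_congr ((chevE6.posUnipotent F).equivMapOfInjective _ (MulAut.conj n).injective).toEquiv).symm
  rw [h1, Cfsg.Agent.S1027.result chevE6 hE6, Nat.card_eq_fintype_card]
  rfl

theorem setup_neg [Fintype F] : Setup (X (K := F)) L' (sg ε) rho rho (fun r t => cc ε r * t) where
  hadd := X_add
  nodup := L'_nodup
  good := good_of_check L'_lt goodCheck_L'
  inj := fun t t' h => lprod_inj_of_card X_add L'_nodup (good_of_check L'_lt goodCheck_L')
    (by rw [← neg_eq, card_neg, L'_length]) h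
  hσ r hr t := sg_X hε (L'_lt r hr) t
  perm := by decide
  comm o ho := by
    have hlt : ∀ r ∈ o, r < 72 := fun r hr => L'_lt r (List.mem_flatten.2 ⟨o, ho, hr⟩)
    refine (orbit_check' o ho).imp_of_mem ?_
    intro r s hr hs h t u
    exact commute_of_nil (hlt r hr) (hlt s hs) h.1 h.2.1 h.2.2 t u
  left_inv r hr := rho_rho r (L'_lt r hr)

theorem R_chk : ∀ r ∈ R, rho r ∈ R → rho r = r ∧ par r = false := by decide +kernel

theorem R'_chk : ∀ r ∈ R', rho r ∈ R' → rho r = r ∧ par r = false := by decide +kernel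

theorem card_pos_ge [Fintype F] :
    Nat.card F ^ 16 ≤ Nat.card ↥(chevE6.posUnipotent F ⊓ fixS (sg ε)) := by
  have h1 := card_ge (setup_pos hε) (R := R) (by decide) (by decide) (fun r hr => cc_mul hε (L_lt r hr))
    (fun r hr h => by
      obtain ⟨h2, h3⟩ := R_chk hε r hr h
      exact ⟨h2, cc_one (L_lt r ((by decide : ∀ r ∈ R, r ∈ L.flatten) r hr)) h2 h3⟩)
  rw [posUnipotent_eq]
  exact h1

theorem card_neg_ge [Fintype F] :
    Nat.card F ^ 16 ≤ Nat.card ↥(chevE6.negUnipotent F ⊓ fixS (sg ε)) := by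
  have h1 := card_ge (setup_neg hε) (R := R') (by decide) (by decide) (fun r hr => cc_mul hε (L'_lt r hr))
    (fun r hr h => by
      obtain ⟨h2, h3⟩ := R'_chk hε r hr h
      exact ⟨h2, cc_one (L'_lt r ((by decide : ∀ r ∈ R', r ∈ L'.flatten) r hr)) h2 h3⟩)
  rw [neg_eq]
  exact h1

/-! ### The torus -/

/-- the elements `h_{α₄}(s) h_{α₃}(t) h_{α₅}(t)` -/
noncomputable def tor (s t : F) : GL chevE6.Idx F := hG hE6 39 s * (hG hE6 42 t * hG hE6 37 t)

theorem comm_of {r s : ℕ} (h : ((r, s) : ℕ × ℕ) ∈ ([(42, 37), (42, 34), (29, 37), (29, 34)] : List (ℕ × ℕ)))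
    (t u : F) : Commute (X r t) (X s u) := by
  have h1 : ∀ p ∈ ([(42, 37), (42, 34), (29, 37), (29, 34)] : List (ℕ × ℕ)), p.1 < 72 ∧ p.2 < 72 ∧ p.2 ≠ p.1 ∧
      p.2 ≠ chevE6.neg p.1 ∧ chevE6.commTerms p.1 p.2 = [] := by decide +kernel
  obtain ⟨a, b, c, d, e⟩ := h1 _ h
  exact commute_of_nil a b c d e t u

variable {C : Subgroup (GL chevE6.Idx F)}

theorem X39_mem (hU : chevE6.posUnipotent F ⊓ fixS (sg ε) ≤ C) (t : F) : X 39 t ∈ C := by
  refine hU ⟨Elts.xG_mem_posUnipotent hE6 ((isPosRoot_iff 39).2 (by decide)) t, ?_⟩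
  show sg ε (X 39 t) = X 39 t
  rw [sg_X hε (by norm_num), show rho 39 = 39 by decide +kernel,
    cc_one (by norm_num) (by decide +kernel) (by decide +kernel), one_mul]

theorem X32_mem (hV : chevE6.negUnipotent F ⊓ fixS (sg ε) ≤ C) (t : F) : X 32 t ∈ C := by
  refine hV ⟨Elts.xG_mem_negUnipotent hE6 ((isNegRoot_iff_lt 32 (by norm_num)).2 (by decide)) t, ?_⟩
  show sg ε (X 32 t) = X 32 t
  rw [sg_X hε (by norm_num), show rho 32 = 32 by decide +kernel,
    cc_one (by norm_num) (by decide +kernel) (by decide +kernel), one_mul]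

theorem cc_pair : ∀ r ∈ ([42, 37, 29, 34] : List ℕ), cc ε r = 1 := by
  have h : ∀ r ∈ ([42, 37, 29, 34] : List ℕ), par (rho r) = false ∧ eps r = 1 := by decide +kernel
  intro r hr
  unfold cc chi
  rw [(h r hr).1, (h r hr).2]
  simp

theorem Y_mem (hU : chevE6.posUnipotent F ⊓ fixS (sg ε) ≤ C) (t : F) : X 42 t * X 37 t ∈ C := by
  refine hU ⟨mul_mem (Elts.xG_mem_posUnipotent hE6 ((isPosRoot_iff 42).2 (by decide)) t)
    (Elts.xG_mem_posUnipotent hE6 ((isPosRoot_iff 37).2 (by decide)) t), ?_⟩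
  show sg ε (X 42 t * X 37 t) = X 42 t * X 37 t
  rw [map_mul, sg_X hε (by norm_num), sg_X hε (by norm_num), show rho 42 = 37 by decide +kernel,
    show rho 37 = 42 by decide +kernel, cc_pair hε 42 (by decide), cc_pair hε 37 (by decide), one_mul]
  exact (comm_of hε (by decide) t t).symm.eq

theorem Z_mem (hV : chevE6.negUnipotent F ⊓ fixS (sg ε) ≤ C) (t : F) : X 29 t * X 34 t ∈ C := by
  refine hV ⟨mul_mem (Elts.xG_mem_negUnipotent hE6 ((isNegRoot_iff_lt 29 (by norm_num)).2 (by decide)) t)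
    (Elts.xG_mem_negUnipotent hE6 ((isNegRoot_iff_lt 34 (by norm_num)).2 (by decide)) t), ?_⟩
  show sg ε (X 29 t * X 34 t) = X 29 t * X 34 t
  rw [map_mul, sg_X hε (by norm_num), sg_X hε (by norm_num), show rho 29 = 34 by decide +kernel,
    show rho 34 = 29 by decide +kernel, cc_pair hε 29 (by decide), cc_pair hε 34 (by decide), one_mul]
  exact (comm_of hε (by decide) t t).symm.eq

omit hε in
theorem n39 (t : F) : nG hE6 39 t = X 39 t * (X 32 (-t⁻¹) * X 39 t) := by
  rw [nG_def, show chevE6.neg 39 = 32 by decide +kernel]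

theorem npair (t : F) : nG hE6 42 t * nG hE6 37 t =
    (X 42 t * X 37 t) * ((X 29 (-t⁻¹) * X 34 (-t⁻¹)) * (X 42 t * X 37 t)) := by
  rw [nG_def, nG_def, show chevE6.neg 42 = 29 by decide +kernel, show chevE6.neg 37 = 34 by decide +kernel]
  have c1 := (comm_of hε (F := F) (r := 42) (s := 37) (by decide) t t).eq
  have c2 := (comm_of hε (F := F) (r := 42) (s := 34) (by decide) t (-t⁻¹)).eq
  have c3 := (comm_of hε (F := F) (r := 29) (s := 37) (by decide) (-t⁻¹) t).eq
  calc X 42 t * (X 29 (-t⁻¹) * X 42 t) * (X 37 t * (X 34 (-t⁻¹) * X 37 t))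
      = X 42 t * X 29 (-t⁻¹) * (X 42 t * X 37 t) * X 34 (-t⁻¹) * X 37 t := by simp only [mul_assoc]
    _ = X 42 t * (X 29 (-t⁻¹) * X 37 t) * (X 42 t * X 34 (-t⁻¹)) * X 37 t := by rw [c1]; simp only [mul_assoc]
    _ = _ := by rw [c3, c2]; simp only [mul_assoc]

theorem comm_hn (t u : F) : Commute (nG hE6 42 t) (nG hE6 37 u) := by
  rw [nG_def, nG_def, show chevE6.neg 42 = 29 by decide +kernel, show chevE6.neg 37 = 34 by decide +kernel]
  have c1 := comm_of hε (F := F) (r := 42) (s := 37) (by decide)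
  have c2 := comm_of hε (F := F) (r := 42) (s := 34) (by decide)
  have c3 := comm_of hε (F := F) (r := 29) (s := 37) (by decide)
  have c4 := comm_of hε (F := F) (r := 29) (s := 34) (by decide)
  have a1 : ∀ v w : F, Commute (X 42 v) (X 37 u * (X 34 w * X 37 u)) := fun v w =>
    (c1 v u).mul_right ((c2 v w).mul_right (c1 v u))
  have a2 : ∀ v w : F, Commute (X 29 v) (X 37 u * (X 34 w * X 37 u)) := fun v w =>
    (c3 v u).mul_right ((c4 v w).mul_right (c3 v u))
  exact (a1 _ _).mul_left ((a2 _ _).mul_left (a1 _ _))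

theorem tor_mem (hU : chevE6.posUnipotent F ⊓ fixS (sg ε) ≤ C) (hV : chevE6.negUnipotent F ⊓ fixS (sg ε) ≤ C)
    (s t : F) : tor s t ∈ C := by
  have hn : ∀ a : F, nG hE6 39 a ∈ C := fun a => by
    rw [n39]
    exact mul_mem (X39_mem hε hU _) (mul_mem (X32_mem hε hV _) (X39_mem hε hU _))
  have hp : ∀ a : F, nG hE6 42 a * nG hE6 37 a ∈ C := fun a => by
    rw [npair hε]
    exact mul_mem (Y_mem hε hU _) (mul_mem (Z_mem hε hV _) (Y_mem hε hU _))
  unfold tor
  refine mul_mem ?_ ?_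
  · rw [hG_def]
    exact mul_mem (hn _) (hn _)
  · have h1 : hG hE6 42 t * hG hE6 37 t = (nG hE6 42 t * nG hE6 37 t) * (nG hE6 42 (-1) * nG hE6 37 (-1)) := by
      rw [hG_def, hG_def]
      have c := (comm_hn hε (F := F) (-1) t).eq
      calc nG hE6 42 t * nG hE6 42 (-1) * (nG hE6 37 t * nG hE6 37 (-1))
          = nG hE6 42 t * (nG hE6 42 (-1) * nG hE6 37 t) * nG hE6 37 (-1) := by simp only [mul_assoc]
        _ = _ := by rw [c]; simp only [mul_assoc]
    rw [h1]
    exact mul_mem (hp _) (hp _)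

omit hε in
theorem tor_mem_diag {s t : F} (hs : s ≠ 0) (ht : t ≠ 0) : tor s t ∈ chevE6.diagonalSubgroup F :=
  mul_mem (hG_mem_diagonal hE6 (by decide +kernel) hs)
    (mul_mem (hG_mem_diagonal hE6 (by decide +kernel) ht) (hG_mem_diagonal hE6 (by decide +kernel) ht))

omit hε in
theorem tor_entry {s t : F} (hs : s ≠ 0) (ht : t ≠ 0) (r : Fin chevE6.nroots) :
    ((tor s t : GL chevE6.Idx F) : Matrix chevE6.Idx chevE6.Idx F) (Sum.inr r) (Sum.inr r) =
      s ^ chevE6.cartan 3 r * (t ^ chevE6.cartan 2 r * t ^ chevE6.cartan 4 r) := by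
  have h3 := Cfsg.Agent.S1033.result chevE6 hE6 3 (by decide) s hs
  have h2 := Cfsg.Agent.S1033.result chevE6 hE6 2 (by decide) t ht
  have h4 := Cfsg.Agent.S1033.result chevE6 hE6 4 (by decide) t ht
  rw [show chevE6.simple 3 = 39 by decide +kernel] at h3
  rw [show chevE6.simple 2 = 42 by decide +kernel] at h2
  rw [show chevE6.simple 4 = 37 by decide +kernel] at h4
  unfold tor
  rw [Units.val_mul, Units.val_mul, coe_hG, coe_hG, coe_hG, h3, h2, h4, Matrix.diagonal_mul_diagonal,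
    Matrix.diagonal_mul_diagonal, Matrix.diagonal_apply_eq]
  rfl

omit hε in
theorem tor_inj {s t s' t' : Fˣ} (h : tor (s : F) (t : F) = tor (s' : F) (t' : F)) : s = s' ∧ t = t' := by
  have e1 : chevE6.cartan 3 46 = -1 ∧ chevE6.cartan 2 46 = 0 ∧ chevE6.cartan 4 46 = 0 := by decide +kernel
  have e2 : chevE6.cartan 3 56 = 0 ∧ chevE6.cartan 2 56 = -1 ∧ chevE6.cartan 4 56 = 0 := by decide +kernel
  have h1 := tor_entry (F := F) s.ne_zero t.ne_zero ⟨46, by decide +kernel⟩
  have h1' := tor_entry (F := F) s'.ne_zero t'.ne_zero ⟨46, by decide +kernel⟩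
  have h2 := tor_entry (F := F) s.ne_zero t.ne_zero ⟨56, by decide +kernel⟩
  have h2' := tor_entry (F := F) s'.ne_zero t'.ne_zero ⟨56, by decide +kernel⟩
  rw [h, h1'] at h1
  rw [h, h2'] at h2
  simp only [e1, e2, zpow_zero, mul_one, one_mul, zpow_neg, zpow_one, inv_inj] at h1 h2
  exact ⟨Units.ext h1.symm, Units.ext h2.symm⟩

/-- **the bound** for a subgroup containing the fixed points in `U` and `V` -/
theorem card_of_le [Fintype F] (h2 : (2 : F) ≠ 0) (hU : chevE6.posUnipotent F ⊓ fixS (sg ε) ≤ C)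
    (hV : chevE6.negUnipotent F ⊓ fixS (sg ε) ≤ C) : Nat.card F ^ 33 ≤ Nat.card C := by
  have hfin : Finite (GL chevE6.Idx F) := inferInstance
  let f : ↥(chevE6.negUnipotent F ⊓ fixS (sg ε)) × (Fˣ × Fˣ) × ↥(chevE6.posUnipotent F ⊓ fixS (sg ε)) → C :=
    fun p => ⟨p.1 * (tor (p.2.1.1 : F) (p.2.1.2 : F) * p.2.2), mul_mem (hV p.1.2) (mul_mem (tor_mem hε hU hV _ _)
      (hU p.2.2.2))⟩
  have hf : Function.Injective f := by
    rintro ⟨v, ⟨s, t⟩, u⟩ ⟨v', ⟨s', t'⟩, u'⟩ h
    have h1 : (v : GL chevE6.Idx F) * (tor (s : F) (t : F) * u) = v' * (tor (s' : F) (t' : F) * u') :=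
      congrArg Subtype.val h
    have hB : ∀ (a b : Fˣ) (w : ↥(chevE6.posUnipotent F ⊓ fixS (sg ε))),
        tor (a : F) (b : F) * (w : GL chevE6.Idx F) ∈ chevE6.borelSubgroup F := fun a b w =>
      mul_mem (le_sup_right (a := chevE6.posUnipotent F) (tor_mem_diag a.ne_zero b.ne_zero))
        (le_sup_left (b := chevE6.diagonalSubgroup F) w.2.1)
    have h3 : (v' : GL chevE6.Idx F)⁻¹ * v = 1 := by
      have h4 : (v' : GL chevE6.Idx F)⁻¹ * v ∈ chevE6.borelSubgroup F ⊓ chevE6.negUnipotent F := by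
        refine Subgroup.mem_inf.2 ⟨?_, Subgroup.mul_mem _ (Subgroup.inv_mem _ (Subgroup.mem_inf.1 v'.2).1) (Subgroup.mem_inf.1 v.2).1⟩
        have h5 : (v' : GL chevE6.Idx F)⁻¹ * v = (tor (s' : F) (t' : F) * u') * (tor (s : F) (t : F) * u)⁻¹ := by
          rw [eq_mul_inv_iff_mul_eq, mul_assoc, h1]
          group
        rw [h5]
        exact Subgroup.mul_mem _ (hB _ _ _) (Subgroup.inv_mem _ (hB _ _ _))
      rw [(Cfsg.Agent.S1037.result (F := F) chevE6 hE6).1] at h4
      exact Subgroup.mem_bot.1 h4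
    have h4 : v = v' := Subtype.ext (inv_mul_eq_one.1 h3).symm
    subst h4
    have h5 : tor (s : F) (t : F) * (u : GL chevE6.Idx F) = tor (s' : F) (t' : F) * u' := mul_left_cancel h1
    have h6 : (u' : GL chevE6.Idx F) * (u : GL chevE6.Idx F)⁻¹ = 1 := by
      have h7 : (u' : GL chevE6.Idx F) * (u : GL chevE6.Idx F)⁻¹ ∈
          chevE6.posUnipotent F ⊓ chevE6.diagonalSubgroup F := by
        refine Subgroup.mem_inf.2 ⟨Subgroup.mul_mem _ (Subgroup.mem_inf.1 u'.2).1 (Subgroup.inv_mem _ (Subgroup.mem_inf.1 u.2).1), ?_⟩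
        have h8 : (u' : GL chevE6.Idx F) * (u : GL chevE6.Idx F)⁻¹ = (tor (s' : F) (t' : F))⁻¹ * tor (s : F) (t : F) := by
          rw [eq_inv_mul_iff_mul_eq, ← mul_assoc, ← h5]
          group
        rw [h8]
        exact Subgroup.mul_mem _ (Subgroup.inv_mem _ (tor_mem_diag s'.ne_zero t'.ne_zero)) (tor_mem_diag s.ne_zero t.ne_zero)
      rw [(Cfsg.Agent.S1036.result (F := F) chevE6 hE6).2] at h7
      exact Subgroup.mem_bot.1 h7
    have h7 : u = u' := Subtype.ext (mul_inv_eq_one.1 h6).symm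
    subst h7
    obtain ⟨rfl, rfl⟩ := tor_inj (mul_right_cancel h5)
    rfl
  have hle := Nat.card_le_card_of_injective f hf
  rw [Nat.card_prod, Nat.card_prod, Nat.card_prod] at hle
  have h3 : Nat.card F ≤ Nat.card Fˣ * Nat.card Fˣ := by
    have h4 : Nat.card Fˣ + 1 = Nat.card F := by
      rw [Nat.card_units]
      have := Nat.card_pos (α := F)
      omega
    have h5 : 3 ≤ Nat.card F := by
      classical
      have h6 : ({0, 1, 2} : Finset F).card = 3 := by
        have a1 : (1 : F) ≠ 2 := by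
          intro h
          exact one_ne_zero (α := F) (by linear_combination -h)
        rw [Finset.card_insert_of_notMem, Finset.card_insert_of_notMem, Finset.card_singleton]
        · rw [Finset.mem_singleton]
          exact a1
        · rw [Finset.mem_insert, Finset.mem_singleton]
          push Not
          exact ⟨zero_ne_one, h2.symm⟩
      rw [Nat.card_eq_fintype_card, ← h6]
      exact Finset.card_le_univ _
    have h6 : 2 ≤ Nat.card Fˣ := by omega
    nlinarith
  calc Nat.card F ^ 33 = Nat.card F ^ 16 * (Nat.card F * Nat.card F ^ 16) := by ring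
    _ ≤ _ := Nat.mul_le_mul (card_neg_ge hε) (Nat.mul_le_mul h3 (card_pos_ge hε))
    _ ≤ _ := hle

theorem pow_of_mem_pos [Fintype F] (p : ℕ) [Fact p.Prime] [CharP F p] {g : GL chevE6.Idx F}
    (h : g ∈ chevE6.posUnipotent F ∨ g ∈ chevE6.negUnipotent F) : ∃ k, g ^ p ^ k = 1 := by
  obtain ⟨n, -, hn⟩ := FiniteField.card F p
  refine ⟨n * 36, ?_⟩
  have h1 : p ^ ((n : ℕ) * 36) = Nat.card F ^ 36 := by rw [pow_mul, Nat.card_eq_fintype_card, hn]
  rw [h1]
  rcases h with h | h
  · have h2 := pow_card_eq_one' (x := (⟨g, h⟩ : ↥(chevE6.posUnipotent F)))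
    rw [Cfsg.Agent.S1027.result chevE6 hE6, ← Nat.card_eq_fintype_card] at h2
    exact congrArg Subtype.val h2
  · have h2 := pow_card_eq_one' (x := (⟨g, h⟩ : ↥(chevE6.negUnipotent F)))
    rw [card_neg] at h2
    exact congrArg Subtype.val h2

/-- **(card)** for every subgroup containing the fixed elements of `p`-power order -/
theorem card_pow [Fintype F] (h2 : (2 : F) ≠ 0) (p : ℕ) [Fact p.Prime] [CharP F p] {d' : MulAut ↥(chevE6.group F)}
    (hd : IsD hE6 (fun i : Fin 6 => if i = 1 then ε else 1) d') (C₀ : Subgroup ↥(chevE6.group F))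
    (hC : ∀ g : ↥(chevE6.group F), (∃ k, g ^ p ^ k = 1) →
      (d' * gr hE6 symmE6 : MulAut ↥(chevE6.group F)) g = g → g ∈ C₀) :
    Nat.card F ^ 33 ≤ Nat.card C₀ := by
  have h1 : Nat.card (C₀.map (chevE6.group F).subtype) = Nat.card C₀ :=
    (Nat.card_congr (C₀.equivMapOfInjective _ (chevE6.group F).subtype_injective).toEquiv).symm
  have key : ∀ g : GL chevE6.Idx F, (g ∈ chevE6.posUnipotent F ∨ g ∈ chevE6.negUnipotent F) → sg ε g = g →
      g ∈ C₀.map (chevE6.group F).subtype := by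
    intro g hg hs
    have hG : g ∈ chevE6.group F := by
      rcases hg with h | h
      · exact Elts.posUnipotent_le_group hE6 F h
      · exact Elts.negUnipotent_le_group hE6 F h
    refine ⟨⟨g, hG⟩, hC _ ?_ ?_, rfl⟩
    · obtain ⟨k, hk⟩ := pow_of_mem_pos hε p hg
      exact ⟨k, Subtype.ext hk⟩
    · apply Subtype.ext
      rw [coe_tau hε hd]
      exact hs
  rw [← h1]
  refine card_of_le hε h2 ?_ ?_
  · intro g hg
    exact key g (Or.inl (Subgroup.mem_inf.1 hg).1) (Subgroup.mem_inf.1 hg).2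
  · intro g hg
    exact key g (Or.inr (Subgroup.mem_inf.1 hg).1) (Subgroup.mem_inf.1 hg).2

/-- **the centraliser** -/
theorem card_std [Fintype F] (h2 : (2 : F) ≠ 0) {d' : MulAut ↥(chevE6.group F)}
    (hd : IsD hE6 (fun i : Fin 6 => if i = 1 then ε else 1) d') :
    Nat.card F ^ 33 ≤ Nat.card {x : ↥(chevE6.group F) //
      (d' * gr hE6 symmE6 : MulAut ↥(chevE6.group F)) x = x} := by
  obtain ⟨p, hp⟩ := CharP.exists F
  have : Fact p.Prime := ⟨CharP.char_is_prime F p⟩
  exact card_pow hε h2 p hd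
    ((d' * gr hE6 symmE6 : MulAut ↥(chevE6.group F)).toMonoidHom.eqLocus (MonoidHom.id _)) (fun g _ h => h)

end Field

end Cfsg.Agent.H977.IFO.E6Card
end

-- part: H460/IFO/E6Std
section
/-!
# S5719, `|A|` odd, `E₆(q)`, `q` odd: graph involutions in normal form (helper460)

* `exists_K` : the subgroup `K = Sp₆(F)` of `E₆(F)`, centralised by `d' * gr`; every subgroup of odd order of `K` has index
  `> |F| ^ 9`; `K` is generated by its `p`-elements;
* `kill_std` : no involution of `Γ` is conjugate to `d' * gr`.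
-/

set_option autoImplicit false
set_option linter.unusedSectionVars false

namespace Cfsg.Agent.H460.IFO.Six

open Subgroup Cfsg CoxeterSystem Cfsg.Lie Cfsg.Lie.ChevalleyDatum
open Cfsg.Agent.ChevalleyStructure Cfsg.Agent.ChevalleyStructure.Elts Cfsg.Agent.ChevalleyStructure.CoxeterGeom
  Cfsg.Agent.ChevalleyStructure.GraphSymm Cfsg.Agent.ChevalleyStructure.TwistedU
open Cfsg.Agent.Tits.Roots Cfsg.Agent.Tits.Core Cfsg.Agent.Nodes.BNOf Cfsg.Agent.Nodes.RGDLib Cfsg.Agent.Nodes.Sub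
open Cfsg.Agent.Nodes.RGDTwE6 (isCartan hp)
open Cfsg.Agent.ChevalleyStructure.TwE6Basic (sg fix mem_fix twisted_le_fix hE6)
open Cfsg.Agent.H79.OutChev Cfsg.Agent.H79.SimpleGen Cfsg.Agent.H79.CharDiag
open Cfsg.Agent.H70.ChevDiag (chi isMul_chi chi_simple dG)
open Cfsg.Agent.BpExc.FamTw.Gr (gr coe_gr)
open Cfsg.Agent.H209.Fxy

universe u

variable {F : Type u} [Field F]

section Fin

variable [Fintype F]

/-- **Index of the subgroups of odd order.** -/
theorem lt_index_KK {p : ℕ} [Fact p.Prime] [CharP F p] (hp2 : p ≠ 2) {X : Subgroup ↥(KK F)}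
    (hX : Odd (Nat.card X)) : Nat.card F ^ 9 < X.index := by
  have := finite3
  have R := rgd3 (F := F) p
  obtain ⟨χ, h1, h2, h3⟩ := exists_st R
  have hF : 1 < Nat.card F := Finite.one_lt_card
  obtain ⟨m, hm⟩ := (IsPGroup.iff_card (p := p)).1 R.isPGroup_Upos
  have h4 := card_U3 (F := F)
  have hodd : Odd (Nat.card ↥(RGD.Sup (X3 F) (RGD.Pos cs3 (levi_isCartan f3 isCartan)))) := by
    rw [hm]
    exact ((Fact.out : p.Prime).odd_of_ne_two hp2).pow
  have h5 : 1 < Nat.card ↥(RGD.Sup (X3 F) (RGD.Pos cs3 (levi_isCartan f3 isCartan))) :=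
    lt_of_lt_of_le (Nat.one_lt_pow (by norm_num) hF) h4
  exact h4.trans_lt (lt_index_real h1 h2 h3 hodd h5 hX)

theorem gen_KK (p : ℕ) [Fact p.Prime] [CharP F p] : closure {k : ↥(KK F) | ∃ m, k ^ p ^ m = 1} = ⊤ := by
  have := finite3
  exact gen_p (rgd3 (F := F) p)

/-- the embedding of `Sp₆(F)` in `E₆(F)` -/
noncomputable def jj (F : Type u) [Field F] [Fintype F] : ↥(KK F) →* ↥(chevE6.group F) :=
  Subgroup.inclusion KK_le_group

theorem jj_injective : Function.Injective (jj F) := Subgroup.inclusion_injective _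

theorem coe_jj (k : ↥(KK F)) : ((jj F k : ↥(chevE6.group F)) : GL chevE6.Idx F) = k := rfl

theorem gr_jj (k : ↥(KK F)) : gr (L := F) hE6 symmE6 (jj F k) = jj F k := by
  apply Subtype.ext
  rw [coe_gr, coe_jj]
  have h1 : (k : GL chevE6.Idx F) ∈ fix (RingHom.id F) := twisted_le_fix _ hid hqq (KK_le k.2)
  have h2 : sg (RingHom.id F) (k : GL chevE6.Idx F) =
      symmE6.P F * (k : GL chevE6.Idx F) * (symmE6.P F)⁻¹ := by
    apply Units.ext
    rfl
  rw [← h2]
  exact h1

theorem isD_jj {c : Fin 6 → Fˣ} (hc : ∀ i : Fin 6, (i : ℕ) ≠ 1 → c i = 1) {d : MulAut ↥(chevE6.group F)}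
    (hd : IsD hE6 c d) (k : ↥(KK F)) : d (jj F k) = jj F k := by
  have h0 := isMul_chi hE6 rootCoeff_mE c
  have h1 : IsD hE6 (fun i : Fin chevE6.rank => chi 6 mE c (chevE6.simple i))
      (Cfsg.Agent.H79.CharDiag.diagAut hE6 h0.isRootCharacter) :=
    Cfsg.Agent.H79.DiagAuts.isD_diagAut hE6 h0.isRootCharacter
  have h2 : (fun i : Fin chevE6.rank => chi 6 mE c (chevE6.simple i)) = c :=
    funext fun i => chi_simple hE6 rootCoeff_mE c i
  rw [h2] at h1
  rw [hd.unique h1]
  apply Subtype.ext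
  rw [Cfsg.Agent.H79.CharDiag.coe_diagAut, coe_jj]
  have h3 := mem_centralizer_singleton_iff.1 (KK_le_cent hc k.2)
  have h4 : hatG chevE6 (chi 6 mE c) = dG chevE6 (chi 6 mE c) := Units.ext rfl
  show hatG chevE6 (chi 6 mE c) * (k : GL chevE6.Idx F) * (hatG chevE6 (chi 6 mE c))⁻¹ = k
  rw [h4, ← h3, mul_inv_cancel_right]

/-- **(K)** -/
theorem exists_K {p : ℕ} [Fact p.Prime] [CharP F p] (hp2 : p ≠ 2) {c : Fin 6 → Fˣ}
    (hc : ∀ i : Fin 6, (i : ℕ) ≠ 1 → c i = 1) {d : MulAut ↥(chevE6.group F)} (hd : IsD hE6 c d) :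
    ∃ K : Subgroup ↥(chevE6.group F), (∀ k ∈ K, (d * gr (L := F) hE6 symmE6 : MulAut ↥(chevE6.group F)) k = k) ∧
      (∀ X : Subgroup ↥K, Odd (Nat.card X) → Nat.card F ^ 9 < X.index) ∧
      closure {k : ↥K | ∃ m, k ^ p ^ m = 1} = ⊤ := by
  let e : ↥(KK F) ≃* ↥((jj F).range) := MonoidHom.ofInjective jj_injective
  refine ⟨(jj F).range, ?_, fun X hX => ?_, ?_⟩
  · rintro _ ⟨k, rfl⟩
    rw [MulAut.mul_apply, gr_jj, isD_jj hc hd]
  · have h1 : (X.comap e.toMonoidHom).index = X.index := index_comap_of_surjective X e.surjective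
    rw [← h1]
    refine lt_index_KK hp2 ?_
    have h2 : Nat.card ↥(X.comap e.toMonoidHom) = Nat.card X := by
      have h3 : (X.comap e.toMonoidHom).map e.toMonoidHom = X := map_comap_eq_self_of_surjective e.surjective X
      calc Nat.card ↥(X.comap e.toMonoidHom) = Nat.card ↥((X.comap e.toMonoidHom).map e.toMonoidHom) :=
            Nat.card_congr ((X.comap e.toMonoidHom).equivMapOfInjective _ e.injective).toEquiv
        _ = Nat.card X := by rw [h3]
    rw [h2]
    exact hX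
  · have h1 := congrArg (Subgroup.map e.toMonoidHom) (gen_KK (F := F) p)
    have h0 : Subgroup.map e.toMonoidHom ⊤ = ⊤ := Subgroup.map_top_of_surjective e.toMonoidHom e.surjective
    rw [h0, MonoidHom.map_closure] at h1
    rw [← h1]
    apply le_antisymm
    · refine closure_mono ?_
      intro k hk
      obtain ⟨m, hm⟩ := hk
      refine ⟨e.symm k, ⟨m, ?_⟩, e.apply_symm_apply k⟩
      rw [← map_pow, hm, map_one]
    · refine closure_mono ?_
      rintro _ ⟨k, ⟨m, hm⟩, rfl⟩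
      refine ⟨m, ?_⟩
      show (e k) ^ p ^ m = 1
      rw [← map_pow, hm, map_one]

theorem card_le6 : Nat.card ↥(chevE6.group F) ≤ Nat.card F ^ 78 := by
  have hq : 0 < Fintype.card F := Fintype.card_pos
  have hs : ∀ d, Fintype.card F ^ d - 1 ≤ Fintype.card F ^ d := fun d => Nat.sub_le _ _
  rw [Nat.card_eq_fintype_card (α := F)]
  have h1 := Cfsg.Agent.S1063.result (F := F) rfl
  have h3 : Nat.card ↥(chevE6.group F) ≤ Nat.gcd 3 (Fintype.card F - 1) * Nat.card ↥(chevE6.group F) :=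
    Nat.le_mul_of_pos_left _ (Nat.gcd_pos_of_pos_left _ (by norm_num))
  refine h3.trans ?_
  rw [h1]
  calc _ ≤ Fintype.card F ^ 36 * Fintype.card F ^ 2 * Fintype.card F ^ 5 * Fintype.card F ^ 6 * Fintype.card F ^ 8 *
        Fintype.card F ^ 9 * Fintype.card F ^ 12 := by gcongr <;> exact hs _
    _ = Fintype.card F ^ 78 := by ring

/-- **Graph involutions in normal form.** -/
theorem kill_std (hF : ringChar F ≠ 2) {A : Subgroup ↥(chevE6.group F)} {Γ : Subgroup (MulAut ↥(chevE6.group F))}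
    (h : IF A Γ) (hO : Odd (Nat.card A)) {σ : MulAut ↥(chevE6.group F)} (hσ : σ ∈ Γ) (h2 : orderOf σ = 2)
    {ζ d' : MulAut ↥(chevE6.group F)} {ε : Fˣ} (hε : ε * ε = 1)
    (hd : IsD hE6 (fun i : Fin 6 => if i = 1 then ε else 1) d')
    (e : σ = ζ⁻¹ * (d' * gr (L := F) hE6 symmE6) * ζ) : False := by
  obtain ⟨p, hp1⟩ := CharP.exists F
  have : Fact p.Prime := ⟨CharP.char_is_prime F p⟩
  have hp2 : p ≠ 2 := by rwa [ringChar.eq F p] at *
  have h20 : (2 : F) ≠ 0 := Ring.two_ne_zero hF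
  have hc : ∀ i : Fin 6, (i : ℕ) ≠ 1 → (fun i : Fin 6 => if i = 1 then ε else 1) i = 1 := by
    intro i hi
    exact if_neg fun h => hi (by rw [h]; rfl)
  let j : ↥(KK F) →* ↥(chevE6.group F) := (ζ⁻¹ : MulAut ↥(chevE6.group F)).toMonoidHom.comp (jj F)
  have hj : ∀ k, σ (j k) = j k := by
    intro k
    show σ (ζ⁻¹ (jj F k)) = ζ⁻¹ (jj F k)
    rw [e, MulAut.mul_apply, MulAut.mul_apply, MulAut.apply_inv_self, MulAut.mul_apply, gr_jj, isD_jj hc hd]
  have hi : Function.Injective j := (ζ⁻¹ : MulAut ↥(chevE6.group F)).injective.comp jj_injective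
  have hC : Nat.card F ^ 33 ≤ Nat.card {x : ↥(chevE6.group F) // σ x = x} := by
    refine (Cfsg.Agent.H977.IFO.E6Card.card_std hε h20 hd).trans (Nat.card_congr ?_).le
    refine (Equiv.subtypeEquiv (ζ⁻¹ : MulAut ↥(chevE6.group F)).toEquiv fun x => ?_)
    show _ ↔ σ (ζ⁻¹ x) = ζ⁻¹ x
    rw [e, MulAut.mul_apply, MulAut.mul_apply, MulAut.apply_inv_self]
    exact (ζ⁻¹ : MulAut ↥(chevE6.group F)).injective.eq_iff.symm
  refine false_of_fix h hO hσ h2 hi hj (m := Nat.card F ^ 9) (fun X hX => (lt_index_KK hp2 hX).le) hC ?_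
  calc Nat.card ↥(chevE6.group F) ≤ Nat.card F ^ 78 := card_le6
    _ = (Nat.card F ^ 9) ^ 5 * Nat.card F ^ 33 := by rw [← pow_mul, ← pow_add]

end Fin

end Cfsg.Agent.H460.IFO.Six
end

-- part: H363/IFO/Cnt
section
/-!
# S5719, `q` even: semilinear involutions on root groups, the roots, the assembly (helper363)

* `card_range` : `|F| ≤ |{a + d * τ a}| ^ 2`, `τ ≠ 1` a field automorphism, characteristic two;
* `card_semi` : the same on a root group;
* `rep_ev` : explicit roots;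
* `peel_simple` : `∏ |X (sr i)| * |⟨X a : ht a > 1⟩| ≤ |U|`;
* `dat_of` : the data of an automorphism fixing the nodes up to the permutation `σ`;
* `false_of_fix` : the assembly.
-/

set_option autoImplicit false
set_option linter.unusedSectionVars false

namespace Cfsg.Agent.H363.IFO

open Subgroup CoxeterSystem Cfsg.Agent.ChevalleyStructure.CoxeterGeom Cfsg.Agent.Tits.Core
  Cfsg.Agent.Nodes.Reps Cfsg.Agent.Nodes.BNOf Cfsg.Agent.Nodes.NormalForm Cfsg.Agent.Nodes
  Cfsg.Agent.KFacts.RgdFilt Cfsg.Agent.KFacts.RgdBorelTits Cfsg.Agent.OddHalf.D4.StarLoc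
  Cfsg.Agent.KFacts.RgdAut Cfsg.Agent.KFacts.RgdDiag Cfsg.Agent.KFacts.RgdField
open Cfsg.Agent.Tits.Roots hiding ht
open Cfsg.Agent.OddHalf.D4.LineRgd (ht ht_pos ht_apply)
open scoped commutatorElement

/-! ### counting -/

section Count

variable {F : Type*} [Field F] [Finite F]

/-- the fixed field of a nontrivial automorphism -/
theorem card_fixed_sq {τ : F →+* F} (hτ : ∃ a, τ a ≠ a) :
    Nat.card {a : F // τ a = a} * Nat.card {a : F // τ a = a} ≤ Nat.card F := by
  let K₀ : Subfield F := τ.eqLocusField (RingHom.id F)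
  have h1 : Nat.card {a : F // τ a = a} = Nat.card K₀ := rfl
  obtain ⟨b, hb⟩ := hτ
  rw [h1, ← Nat.card_prod]
  refine Nat.card_le_card_of_injective (fun z : K₀ × K₀ => (z.1 : F) + (z.2 : F) * b) ?_
  rintro ⟨x, y⟩ ⟨x', y'⟩ h
  have h2 : (x : F) + y * b = x' + y' * b := h
  have hf : ∀ z : K₀, τ (z : F) = z := fun z => z.2
  have h3 : (y : F) = y' := by
    by_contra hne
    apply hb
    have h4 : b = ((x' : F) - x) / (y - y') := by
      rw [eq_div_iff (sub_ne_zero.2 hne)]
      linear_combination h2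
    rw [h4, map_div₀, map_sub, map_sub, hf, hf, hf, hf]
  have h4 : (x : F) = x' := by rw [h3] at h2; exact add_right_cancel h2
  rw [Subtype.ext h3, Subtype.ext h4]

/-- **The image of `1 + d τ`.** -/
theorem card_range {τ : F →+* F} (hτ : ∃ a, τ a ≠ a) (d : F) :
    Nat.card F ≤ Nat.card {b : F // ∃ a, b = a - d * τ a} * Nat.card {b : F // ∃ a, b = a - d * τ a} := by
  let ν : F →+ F := AddMonoidHom.mk' (fun a => a - d * τ a) (fun a b => by rw [map_add]; ring)
  have hr : Nat.card {b : F // ∃ a, b = a - d * τ a} = Nat.card ν.range := by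
    refine Nat.card_congr (Equiv.subtypeEquivRight fun b => ?_)
    constructor
    · rintro ⟨a, rfl⟩
      exact ⟨a, rfl⟩
    · rintro ⟨a, rfl⟩
      exact ⟨a, rfl⟩
  have hk : Nat.card ν.ker ≤ Nat.card {a : F // τ a = a} := by
    by_cases h0 : ∃ b ∈ ν.ker, b ≠ 0
    · obtain ⟨b, hb, hb0⟩ := h0
      have hb' : b - d * τ b = 0 := hb
      refine Nat.card_le_card_of_injective (fun a : ν.ker => (⟨(a : F) / b, ?_⟩ : {a : F // τ a = a})) ?_
      · have ha : (a : F) - d * τ a = 0 := a.2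
        rw [map_div₀, div_eq_div_iff (fun h => hb0 ((map_eq_zero τ).1 h)) hb0]
        have h1 : b = d * τ b := by linear_combination hb'
        have h2 : (a : F) = d * τ a := by linear_combination ha
        calc τ a * b = τ a * (d * τ b) := by rw [← h1]
          _ = (d * τ a) * τ b := by ring
          _ = a * τ b := by rw [← h2]
      · intro a a' h
        have h1 : (a : F) / b = a' / b := congrArg Subtype.val h
        exact Subtype.ext ((div_left_inj' hb0).1 h1)
    · have h1 : ν.ker = ⊥ := by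
        rw [eq_bot_iff]
        intro b hb
        by_contra hne
        exact h0 ⟨b, hb, hne⟩
      have : Nonempty {a : F // τ a = a} := ⟨⟨0, map_zero τ⟩⟩
      rw [h1, AddSubgroup.card_bot]
      exact Nat.card_pos
  have hc : Nat.card F = Nat.card ν.ker * Nat.card ν.range := by
    rw [← AddSubgroup.card_mul_index ν.ker, AddSubgroup.index_ker]
  have h2 := card_fixed_sq hτ
  set f := Nat.card {a : F // τ a = a} with hf
  rw [hr]
  have hfpos : 0 < f := by
    have : Nonempty {a : F // τ a = a} := ⟨⟨0, map_zero τ⟩⟩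
    exact Nat.card_pos
  have h3 : f * f ≤ f * Nat.card ν.range := by
    calc f * f ≤ Nat.card F := h2
      _ = Nat.card ν.ker * Nat.card ν.range := hc
      _ ≤ _ := Nat.mul_le_mul_right _ hk
  have h4 : f ≤ Nat.card ν.range := Nat.le_of_mul_le_mul_left h3 hfpos
  rw [hc]
  exact Nat.mul_le_mul_right _ (hk.trans h4)

end Count

/-! ### explicit roots -/

section Ev

variable {I : Type*} [Fintype I] [DecidableEq I]

/-- the root of a word -/
def ev (A : I → I → ℤ) (i : I) : List I → (I → ℤ)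
  | [] => sr i
  | j :: ω => ev A i ω - pairing A j (ev A i ω) • sr j

theorem rep_ev {W : Type*} [Group W] {M : CoxeterMatrix I} (cs : CoxeterSystem M W) {A : I → I → ℤ}
    (h : IsCartan M A) (i : I) (ω : List I) : rep cs h (cs.wordProd ω) (sr i) = ev A i ω := by
  induction ω with
  | nil => rw [wordProd_nil, map_one]; rfl
  | cons j ω ih => rw [wordProd_cons, rep_mul_apply, ih, rep_simple_eq]; rfl

end Ev

universe v

variable {I W : Type*} {Y : Type v} [Fintype I] [DecidableEq I] [Group W] [Group Y] {M : CoxeterMatrix I}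
  {cs : CoxeterSystem M W} {A : I → I → ℤ} {h : IsCartan M A} {p : ℕ} {T : Subgroup Y} {n : I → Y}
  {X : (I → ℤ) → Subgroup Y}

theorem ht_sr (i : I) : ht (sr i : I → ℤ) = 1 := by
  rw [ht_apply]
  unfold sr
  rw [Finset.sum_pi_single']
  simp

theorem sr_pos (i : I) : (sr i : I → ℤ) ∈ RGD.Pos cs h := ⟨isRoot_sr cs h i, sr_nonneg i⟩

/-- **The simple root groups.** -/
theorem peel_simple [Finite W] [Finite Y] (R : RGD cs h p T n X) (hI : IntComm cs h X) (s : Finset I) :
    (∏ i ∈ s, Nat.card (X (sr i))) * Nat.card (RGD.Sup X {x | x ∈ RGD.Pos cs h ∧ ∀ i ∈ s, x ≠ sr i}) ≤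
      Nat.card (RGD.Sup X (RGD.Pos cs h)) := by
  classical
  induction s using Finset.induction_on with
  | empty =>
    rw [Finset.prod_empty, one_mul]
    exact Subgroup.card_le_of_le (RGD.Sup_mono fun x hx => hx.1)
  | insert j s hj ih =>
    have hS : Up cs h {x | x ∈ RGD.Pos cs h ∧ ∀ i ∈ s, x ≠ sr i} := by
      refine ⟨fun x hx => hx.1, ?_⟩
      rintro x ⟨hx, -⟩ t ht' hlt
      refine ⟨ht', ?_⟩
      rintro i hi rfl
      rw [ht_sr] at hlt
      have := ht_pos' hx
      omega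
    have h1 := peel R hI hS (x := sr j) ⟨sr_pos j, fun i hi he => by
      have h2 := congrFun he i
      by_cases hij : i = j
      · subst hij
        exact hj hi
      · rw [sr_ne hij, sr_self] at h2
        exact zero_ne_one h2⟩ (by
        rintro y ⟨hy, -⟩
        rw [ht_sr]
        have := ht_pos' hy
        omega)
    have h2 : {x | x ∈ RGD.Pos cs h ∧ ∀ i ∈ s, x ≠ sr i} \ {sr j} =
        {x | x ∈ RGD.Pos cs h ∧ ∀ i ∈ insert j s, x ≠ sr i} := by
      ext x
      simp only [Set.mem_sdiff, Set.mem_ofPred_eq, Set.mem_singleton_iff, Finset.mem_insert, forall_eq_or_imp]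
      tauto
    rw [h2] at h1
    rw [Finset.prod_insert hj]
    calc Nat.card (X (sr j)) * (∏ i ∈ s, Nat.card (X (sr i))) *
          Nat.card (RGD.Sup X {x | x ∈ RGD.Pos cs h ∧ ∀ i ∈ insert j s, x ≠ sr i})
        = (∏ i ∈ s, Nat.card (X (sr i))) * (Nat.card (X (sr j)) *
          Nat.card (RGD.Sup X {x | x ∈ RGD.Pos cs h ∧ ∀ i ∈ insert j s, x ≠ sr i})) := by ring
      _ ≤ (∏ i ∈ s, Nat.card (X (sr i))) * Nat.card (RGD.Sup X {x | x ∈ RGD.Pos cs h ∧ ∀ i ∈ s, x ≠ sr i}) :=
          Nat.mul_le_mul_left _ h1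
      _ ≤ _ := ih

theorem peel_all [Finite W] [Finite Y] (R : RGD cs h p T n X) (hI : IntComm cs h X) :
    (∏ i, Nat.card (X (sr i))) * Nat.card (RGD.Sup X (Gt cs h 1)) ≤ Nat.card (RGD.Sup X (RGD.Pos cs h)) := by
  refine le_trans (Nat.mul_le_mul_left _ (Subgroup.card_le_of_le (RGD.Sup_mono ?_))) (peel_simple R hI Finset.univ)
  rintro x ⟨hx, hx1⟩
  refine ⟨hx, ?_⟩
  rintro i - rfl
  rw [ht_sr] at hx1
  exact lt_irrefl _ hx1

/-! ### the data -/

theorem dat_of [Finite W] (R : RGD cs h p T n X) {β : MulAut Y} {σ : Equiv.Perm I} (D : Diag T X β σ)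
    (hA : ∀ i j, A (σ i) (σ j) = A i j) (hσ : σ * σ = 1) (hI : IntComm cs h X)
    (hab : ∀ x ∈ RGD.Pos cs h, ∀ a ∈ X x, ∀ b ∈ X x, a * b = b * a) (hsq : ∀ x ∈ RGD.Pos cs h, ∀ a ∈ X x, a * a = 1)
    {u : Y} (hu : u ∈ RGD.Sup X (RGD.Pos cs h)) (hinv : ∀ y, u * β (u * β y * u⁻¹) * u⁻¹ = y) :
    Dat cs h X β.toMonoidHom u (fun r => r ∘ σ.symm) where
  hI := hI
  ab := hab
  sq := hsq
  hu := hu
  pos := by
    rintro x ⟨hx, h0⟩
    refine ⟨?_, fun i => h0 _⟩
    obtain ⟨w, i, rfl⟩ := hx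
    rw [← rep_hat (D.matrix R) hA, sr_comp]
    exact ⟨_, _, rfl⟩
  hh := by
    intro x _
    rw [ht_apply, ht_apply]
    exact Equiv.sum_comp σ.symm x
  pp := by
    intro x _
    funext i
    show x (σ.symm (σ.symm i)) = x i
    congr 1
    have h1 : σ (σ i) = i := by rw [← Equiv.Perm.mul_apply, hσ]; rfl
    rw [Equiv.symm_apply_eq, Equiv.symm_apply_eq, h1]
  be := by
    intro x hx a ha
    exact (D.root_comp R hA hx.1 a).2 ha
  inv := hinv

/-- **Semilinear action on all root groups.** -/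
theorem semi_root [Finite W] (R : RGD cs h p T n X) {F : Type*} [Field F] {β : MulAut Y} (D : Diag T X β 1) {i : I}
    {xi : F → Y} {χ : Y → F} (C : Coord T (X (sr i)) xi χ) (w : W) :
    ∃ (g : Y) (τ : F ≃+* F) (d : F), (∀ a, β (g * xi a * g⁻¹) = g * xi (d * τ a) * g⁻¹) ∧
      (∀ a, g * xi a * g⁻¹ ∈ X (rep cs h w (sr i))) ∧ ∀ t ∈ T, χ (β t) = τ (χ t) := by
  obtain ⟨τ', c, hc, hx, hch⟩ := C.exists_semi C D.tor (D.pos i)
  obtain ⟨g, hg⟩ := exists_rp cs R.nsys w
  have hσ : ∀ a b : I, M ((1 : Equiv.Perm I) a) ((1 : Equiv.Perm I) b) = M a b := fun _ _ => rfl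
  have hg' := D.rp' (R := R) hσ hg
  have hhat : hat cs 1 hσ w = w := by
    have h2 : hat cs 1 hσ = MonoidHom.id W := by
      apply cs.ext_simple
      intro a
      rw [hat_simple]
      rfl
    rw [h2]
    rfl
  rw [hhat] at hg'
  obtain ⟨s, hs⟩ : ∃ s, s = g⁻¹ * β g := ⟨_, rfl⟩
  have hsT : s ∈ T := by rw [hs]; exact hg.unique hg'
  have hβg : β g = g * s := by rw [hs]; group
  refine ⟨g, τ', χ s * c, fun a => ?_, fun a => ?_, hch⟩
  · rw [map_mul, map_mul, map_inv, hβg, hx a]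
    have e : g * s * xi (c * τ' a) * (g * s)⁻¹ = g * (s * xi (c * τ' a) * s⁻¹) * g⁻¹ := by group
    rw [e, C.act s hsT, ← mul_assoc (χ s) c (τ' a)]
  · rw [← R.conj_rp hg (isRoot_sr cs h i), mem_cj]
    have e : g⁻¹ * (g * xi a * g⁻¹) * g = xi a := by group
    rw [e]
    exact (C.mem _).2 ⟨a, rfl⟩

/-- **The image of `1 + β` on a root group.** -/
theorem card_semi [Finite W] [Finite Y] (R : RGD cs h p T n X) {F : Type*} [Field F] [Finite F] (h2 : (2 : F) = 0)
    {β : MulAut Y} (D : Diag T X β 1) {i : I} {xi : F → Y} {χ : Y → F} (C : Coord T (X (sr i)) xi χ)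
    (hne : ∃ t ∈ T, χ (β t) ≠ χ t) (w : W) {q : ℕ} (hq : q * q ≤ Nat.card F) :
    q ≤ Nat.card {y : Y // ∃ a ∈ X (rep cs h w (sr i)), y = a * β a} := by
  obtain ⟨g, τ, d, h3, h4, h5⟩ := semi_root R D C w
  have hτ : ∃ a, (τ : F →+* F) a ≠ a := by
    obtain ⟨t, ht', hne⟩ := hne
    exact ⟨χ t, fun he => hne (by rw [h5 t ht']; exact he)⟩
  have h6 := card_range hτ d
  have h7 : Nat.card {b : F // ∃ a, b = a - d * (τ : F →+* F) a} ≤
      Nat.card {y : Y // ∃ a ∈ X (rep cs h w (sr i)), y = a * β a} := by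
    refine Nat.card_le_card_of_injective (fun b => ⟨g * xi b.1 * g⁻¹, ?_⟩) ?_
    · obtain ⟨a, ha⟩ := b.2
      refine ⟨_, h4 a, ?_⟩
      have e : b.1 = a + d * τ a := by
        rw [ha]
        have h8 : ((τ : F →+* F) a) = τ a := rfl
        rw [h8]
        linear_combination (-(d * τ a)) * h2
      rw [h3, e, C.add]
      group
    · intro b b' hb
      have h8 : g * xi b.1 * g⁻¹ = g * xi b'.1 * g⁻¹ := congrArg Subtype.val hb
      exact Subtype.ext (C.inj (mul_left_cancel (mul_right_cancel h8)))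
  have h8 : q * q ≤ Nat.card {y : Y // ∃ a ∈ X (rep cs h w (sr i)), y = a * β a} *
      Nat.card {y : Y // ∃ a ∈ X (rep cs h w (sr i)), y = a * β a} := hq.trans (h6.trans (Nat.mul_le_mul h7 h7))
  exact Nat.mul_self_le_mul_self_iff.1 h8

/-! ### the assembly -/

/-- **The assembly**: `s = g⁻¹ σ g`, `s y = u * β y * u⁻¹`. -/
theorem false_of_fix [Finite Y] {B : Subgroup Y} {Γ : Subgroup (MulAut Y)} (hIF : Cfsg.Agent.H209.Fxy.IF B Γ)
    (hO : Odd (Nat.card B)) {s : MulAut Y} (hs : s ∈ Γ) (h2 : orderOf s = 2) {U : Subgroup Y} (hU : IsPGroup 2 U)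
    (g : Y) {t : Y →* Y} (ht : ∀ y, t y = g⁻¹ * s (g * y * g⁻¹) * g) {N : ℕ} (hN : N ≤ FF t U ⊥)
    (hT : Nat.card Y ≤ N ^ 6) : False := by
  let K : Subgroup Y :=
    { carrier := {u | u ∈ U ∧ t u = u}
      one_mem' := ⟨one_mem _, map_one t⟩
      mul_mem' := by
        rintro a b ⟨h1, h3⟩ ⟨h4, h5⟩
        exact ⟨mul_mem h1 h4, by rw [map_mul, h3, h5]⟩
      inv_mem' := by
        rintro a ⟨h1, h3⟩
        exact ⟨inv_mem h1, by rw [map_inv, h3]⟩ }
  have hK : Nat.card K = FF t U ⊥ := by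
    refine Nat.card_congr (Equiv.subtypeEquivRight fun u => ?_)
    rw [Subgroup.mem_bot, inv_mul_eq_one]
    exact ⟨fun h => ⟨h.1, h.2.symm⟩, fun h => ⟨h.1, h.2.symm⟩⟩
  have hKp : IsPGroup 2 K := hU.to_le (fun u hu => hu.1)
  obtain ⟨m, hm⟩ := IsPGroup.iff_card.1 hKp
  have hm' : N ≤ 2 ^ m := by rw [← hm, hK]; exact hN
  refine Cfsg.Agent.H460.IFO.false_of_two_pow hIF hO hs h2 ((MulAut.conj g).toMonoidHom.comp K.subtype) ?_ ?_
    (m := m) (by rw [hm]) (hT.trans (Nat.pow_le_pow_left hm' 6))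
  · exact (MulAut.conj g).injective.comp K.subtype_injective
  · intro k
    have h3 : g⁻¹ * s (g * (k : Y) * g⁻¹) * g = k := by rw [← ht]; exact k.2.2
    show s (g * (k : Y) * g⁻¹) = g * (k : Y) * g⁻¹
    calc s (g * (k : Y) * g⁻¹) = g * (g⁻¹ * s (g * (k : Y) * g⁻¹) * g) * g⁻¹ := by group
      _ = _ := by rw [h3]

end Cfsg.Agent.H363.IFO
end

private theorem dce_f07b624963ad : _root_.True := by
  try have : _root_.True := by simp only [_root_.Cfsg.Agent.H460.IFO.Six.L9.eq_1]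
  exact _root_.True.intro
end
end
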